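import Cfsg.Agent.H477.HC.Rk3Chars_m3
import Cfsg.Agent.Characters.Core
import Cfsg.Agent.PermChar.SymAlt
import Cfsg.Agent.Blocks.Basic
import Cfsg.Prelude.Def_DegreeGraph
import Mathlib
import Cfsg.Agent.H105.SLExt
import Cfsg.Agent.H996.Eight.Interval
import Cfsg.Agent.H950.Count
import Cfsg.Agent.Prune
set_option linter.all false

section
prune_inst 0x7f00000000000000000000000000000000000000000000000000000000000000000000000000000000000000000000000000000000000000000000000000000000000000000000000000000000000000003fffffffffffffffffffffffffffbeffbdffffffff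

-- part: H934/Eight/RealSix
section
set_option linter.all false
open scoped Cfsg.Agent.FastGrp

-- part: H934/Eight/OrthSix
section
/-!
# The rank 3 characters of `PΩ⁻₆(q)` on the singular points (helper934)

`rk3_six` : irreducible characters of the degrees `q² (q² + 1)` and `q (q² - q + 1)`.
-/

set_option autoImplicit false

open scoped ComplexConjugate
open Cfsg

namespace Cfsg.Agent.H934.Eight

open Module Cfsg.Agent.H53.HC Cfsg.Agent.H690.Spor.RankThree Cfsg.Agent.H690.Spor.RankThree.R3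
open Cfsg.Agent.Characters Cfsg.Agent.H477.HC Cfsg.Agent.H477.HC.CForm

universe u v w

section universal

variable {K : Type u} [Field K] [Finite K]

/-- an anisotropic binary form over a finite field is universal -/
theorem exists_norm {a b : K} (hab : ∀ z₁ z₂ : K, z₁ ^ 2 + a * z₁ * z₂ + b * z₂ ^ 2 = 0 → z₁ = 0 ∧ z₂ = 0) (t : K) :
    ∃ z₁ z₂ : K, z₁ ^ 2 + a * z₁ * z₂ + b * z₂ ^ 2 = t := by
  obtain ⟨x, hx0, hx⟩ := Cfsg.Agent.LieClassical.OrthFinite.exists_ternary_zero (F := K) 1 b (-t) a 0 0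
  have h2 : x 2 ≠ 0 := by
    intro h2
    rw [h2] at hx
    obtain ⟨h0, h1⟩ := hab (x 0) (x 1) (by linear_combination hx)
    apply hx0
    funext i
    fin_cases i
    · exact h0
    · exact h1
    · exact h2
  refine ⟨x 0 / x 2, x 1 / x 2, ?_⟩
  field_simp
  linear_combination hx

end universal

section perp

variable {K : Type u} [Field K] {V : Type v} [AddCommGroup V] [Module K V]
variable {F : CForm K V} {X : Type w} [AddCommGroup X] [Module K X] {F' : CForm K X}

/-- vectors of given norm perpendicular to two points, rank two -/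
theorem exists_perp_norm' [FiniteDimensional K V] {e f : Fin 2 → V} {j : X →ₗ[K] V} (h : Frm F F' e f j)
    (x y : F.Pt) (t : K) (ht : ∃ u, F'.Q u = t) :
    ∃ v, F.Q v = t ∧ (∀ w ∈ x.1, F.B v w = 0) ∧ ∀ w ∈ y.1, F.B v w = 0 := by
  have hs : ∀ i, F.Sing (e i) := fun i => ⟨h.hQe i, h.hee i i⟩
  have hsf : ∀ i, F.Sing (f i) := fun i => ⟨h.hQf i, h.hff i i⟩
  have he0 : ∀ i, e i ≠ 0 := by
    intro i h0
    have := h.hef i i
    rw [h0, F.B_zero_left, if_pos rfl] at this
    exact zero_ne_one this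
  have hf0 : ∀ i, f i ≠ 0 := by
    intro i h0
    have := h.hef i i
    rw [h0, F.B_zero_right, if_pos rfl] at this
    exact zero_ne_one this
  obtain ⟨u, hu⟩ := ht
  obtain ⟨z, hz⟩ : ∃ z, z = j u := ⟨_, rfl⟩
  have hQz : F.Q z = t := by rw [hz, h.hjQ, hu]
  have hze : ∀ i, F.B z (e i) = 0 := by
    intro i
    rw [hz, h.hje]
  have hzf : ∀ i, F.B z (f i) = 0 := by
    intro i
    rw [hz, h.hjf]
  -- transport
  have key : ∀ (g : F.iso) (a b : V) (ha0 : a ≠ 0) (ha : F.Sing a) (hb0 : b ≠ 0) (hb : F.Sing b),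
      g • F.pt a ha0 ha = x → g • F.pt b hb0 hb = y → F.B z a = 0 → F.B z b = 0 →
      ∃ v, F.Q v = t ∧ (∀ w ∈ x.1, F.B v w = 0) ∧ ∀ w ∈ y.1, F.B v w = 0 := by
    intro g a b ha0 ha hb0 hb hx hy hza hzb
    refine ⟨(g : V ≃ₗ[K] V) z, by rw [F.iso_Q, hQz], fun w hw => ?_, fun w hw => ?_⟩
    · rw [← hx, F.smul_pt] at hw
      obtain ⟨c, rfl⟩ := Submodule.mem_span_singleton.1 hw
      rw [F.B_smul_right, F.iso_B, hza, mul_zero]
    · rw [← hy, F.smul_pt] at hw
      obtain ⟨c, rfl⟩ := Submodule.mem_span_singleton.1 hw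
      rw [F.B_smul_right, F.iso_B, hzb, mul_zero]
  by_cases hp : F.Perp x y
  · by_cases hxy : x = y
    · obtain ⟨g, hg⟩ := F.trans_Om (F.pt (e 0) (he0 0) (hs 0)).2 x.2
      exact key g (e 0) (e 0) (he0 0) (hs 0) (he0 0) (hs 0) (Subtype.ext hg) ((Subtype.ext hg).trans hxy)
        (hze 0) (hze 0)
    · have h01 : F.Rel (F.pt (e 0) (he0 0) (hs 0)) (F.pt (e 1) (he0 1) (hs 1)) := by
        refine ⟨fun h1 => ?_, F.perp_pt.2 (h.hee 0 1)⟩
        obtain ⟨c, hc, hc'⟩ := F.pt_eq_iff.1 h1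
        have h2 := h.hef 0 0
        rw [hc', F.B_smul_left, h.hef, if_neg (by decide), if_pos rfl, mul_zero] at h2
        exact zero_ne_one h2
      obtain ⟨g, hg1, hg2⟩ := F.trans_rel h01 ⟨hxy, hp⟩
      exact key g (e 0) (e 1) (he0 0) (hs 0) (he0 1) (hs 1) hg1 hg2 (hze 0) (hze 1)
  · have h01 : ¬ F.Perp (F.pt (e 0) (he0 0) (hs 0)) (F.pt (f 0) (hf0 0) (hsf 0)) := by
      rw [F.perp_pt, h.hef, if_pos rfl]
      exact one_ne_zero
    obtain ⟨g, hg1, hg2⟩ := F.trans_opp h01 hp
    exact key g (e 0) (f 0) (he0 0) (hs 0) (hf0 0) (hsf 0) hg1 hg2 (hze 0) (hzf 0)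

open LieClassical LieClassical.OrthCore LieClassical.OrthTrans

/-- `F.iso = Ω · Stab(x, y)` -/
theorem om_stab' [FiniteDimensional K V] {Q : QuadraticForm K V} (hG : Good Q) (hQ : ∀ v, Q v = F.Q v)
    (hB : ∀ u v, F.B u v = F.Q (u + v) - F.Q u - F.Q v)
    (hP : ∀ (x y : F.Pt) (t : K), ∃ v, F.Q v = t ∧ (∀ w ∈ x.1, F.B v w = 0) ∧ ∀ w ∈ y.1, F.B v w = 0)
    (g : F.iso) (x y : F.Pt) : ∃ k ∈ commutator F.iso, k • x = g • x ∧ k • y = g • y := by
  have hpol : ∀ u v, QuadraticMap.polar Q u v = F.B u v := fun u v => by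
    rw [hB, QuadraticMap.polar, hQ, hQ, hQ]
  have hO : O Q = F.iso := by
    ext k
    constructor
    · intro hk
      have hk' : ∀ v, F.Q (k v) = F.Q v := fun v => by rw [← hQ, ← hQ]; exact hk v
      exact ⟨fun u v => by rw [hB, hB, ← map_add, hk', hk', hk'], hk'⟩
    · intro hk v
      rw [hQ, hQ]
      exact hk.2 v
  have hS : ∀ t : K, ∃ v, Q v = t ∧ ∀ w ∈ x.1 ⊔ y.1, QuadraticMap.polar Q v w = 0 := by
    intro t
    obtain ⟨v, h1, h2, h3⟩ := hP x y t
    refine ⟨v, by rw [hQ, h1], fun w hw => ?_⟩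
    obtain ⟨a, ha, b, hb, rfl⟩ := Submodule.mem_sup.1 hw
    rw [hpol, F.B_add_right, h2 a ha, h3 b hb, add_zero]
  obtain ⟨s, hs, hs1, hs2⟩ := exists_correct hG hS (g := (g : V ≃ₗ[K] V)) (by rw [hO]; exact g.2)
  rw [hO] at hs
  rw [← hG.commutator_eq_E, hO] at hs2
  have h1 : (commutator F.iso).map F.iso.subtype = ⁅F.iso, F.iso⁆ := by
    rw [commutator_def, Subgroup.map_commutator, ← MonoidHom.range_eq_map, Subgroup.range_subtype]
  rw [← h1] at hs2
  obtain ⟨k, hk, hk'⟩ := hs2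
  have hk'' : k = g * ⟨s, hs⟩ := Subtype.ext hk'
  have hfix : ∀ z : F.Pt, z.1 ≤ x.1 ⊔ y.1 → (⟨s, hs⟩ : F.iso) • z = z := by
    intro z hz
    apply Subtype.ext
    rw [F.smul_val]
    apply le_antisymm
    · rintro _ ⟨w, hw, rfl⟩
      change s w ∈ z.1
      rw [hs1 w (hz hw)]
      exact hw
    · intro w hw
      exact ⟨w, hw, hs1 w (hz hw)⟩
  refine ⟨k, hk, ?_, ?_⟩
  · rw [hk'', mul_smul, hfix x le_sup_left]
  · rw [hk'', mul_smul, hfix y le_sup_right]

end perp

section six

variable (K : Type u) [Field K] [Finite K]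

theorem minusF_zero_Q {a b : K} (hab : ∀ z₁ z₂ : K, z₁ ^ 2 + a * z₁ * z₂ + b * z₂ ^ 2 = 0 → z₁ = 0 ∧ z₂ = 0)
    (z₁ z₂ : K) : (CForm.minusF K 0 a b hab).Q (Sum.elim 0 ![z₁, z₂]) = z₁ ^ 2 + a * z₁ * z₂ + b * z₂ ^ 2 := by
  rw [CForm.minusF_Q]
  simp [quadFormMinus]

/-- **`PΩ⁻_6(q)`** -/
theorem rk3_six (a b : K) (hab : ∀ z₁ z₂ : K, z₁ ^ 2 + a * z₁ * z₂ + b * z₂ ^ 2 = 0 → z₁ = 0 ∧ z₂ = 0) :
    ∃ s t : ℕ, Ch (POmega K (quadFormMinus 2 K a b)) s ∧ Ch (POmega K (quadFormMinus 2 K a b)) t ∧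
    ((Nat.card K : ℤ) ^ 2 - 1) * s = Nat.card K ^ 2 * ((Nat.card K : ℤ) ^ 4 - 1) ∧
    ((Nat.card K : ℤ) ^ 2 - 1) * t = Nat.card K * (Nat.card K ^ 3 + 1) * ((Nat.card K : ℤ) - 1) := by
  classical
  have hfin := Fintype.ofFinite K
  have hq : 2 ≤ Nat.card K := Finite.one_lt_card
  obtain ⟨e, f, j, h⟩ := CForm.frm_minus (K := K) hab (show 1 + 1 = 2 by omega)
  obtain ⟨e2, f2, j2, h2⟩ := CForm.frm_minus (K := K) hab (show 2 + 0 = 2 by omega)
  have hc : Fintype.card K = Nat.card K := Nat.card_eq_fintype_card.symm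
  have hG : LieClassical.OrthTrans.Good (LieClassical.OrthForms.minusForm 2 K a b) := by
    apply LieClassical.OrthFinite.good_of_finite (LieClassical.OrthForms.nondeg_minusForm 2 K a b hab)
    rw [Module.finrank_fintype_fun_eq_card, Fintype.card_sum, Fintype.card_sum, Fintype.card_fin]
    omega
  have hstab := om_stab' (F := CForm.minusF K 2 a b hab) hG
    (fun v => congrFun (LieClassical.OrthForms.coe_minusForm 2 K a b) v) (minus_hB K 2 a b hab)
    (fun x y t => exists_perp_norm' h2 x y t (by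
      obtain ⟨z₁, z₂, hz⟩ := exists_norm hab t
      exact ⟨_, (minusF_zero_Q K hab z₁ z₂).trans hz⟩))
  obtain ⟨χ₁, χ₂, s, t, c1, c2, c3, c4, c5⟩ := CForm.exists_chars_of h.hyp (P := Nat.card K ^ 1)
    (P' := Nat.card K ^ 2) (by rw [pow_one]; exact hq) (Nat.one_le_pow _ _ (by omega))
    (by
      rw [card_Sing_quad, ← num_minus hq 1]
      exact S0290.result hc 2 (by omega) a b hab)
    (by
      rw [card_Sing_quad, ← pow_succ', ← pow_succ', ← num_minus hq 2]
      exact S0290.result hc 3 (by omega) a b hab)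
    (commutator _) hstab
  refine ⟨s, t, (ch_of_comm (CForm.minusF K 2 a b hab) (minus_hB K 2 a b hab) (fun z hz => ?_) χ₁ c1
    (fun x hx => (c5 x hx).1) :),
    (ch_of_comm (CForm.minusF K 2 a b hab) (minus_hB K 2 a b hab) (fun z hz => ?_) χ₂ c2
    (fun x hx => (c5 x hx).2) :), ?_, ?_⟩
  · obtain ⟨c, -, hc⟩ := scal_of (cen_minus K (by omega) a b hab z hz)
    exact ⟨c, hc⟩
  · obtain ⟨c, -, hc⟩ := scal_of (cen_minus K (by omega) a b hab z hz)
    exact ⟨c, hc⟩
  · have hz : (Nat.card K : ℤ) ≠ 0 := by exact_mod_cast (by omega : Nat.card K ≠ 0)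
    apply mul_left_cancel₀ hz
    push_cast at c3
    linear_combination c3
  · have hz : (Nat.card K : ℤ) ≠ 0 := by exact_mod_cast (by omega : Nat.card K ≠ 0)
    apply mul_left_cancel₀ hz
    push_cast at c4
    linear_combination c4

end six

end Cfsg.Agent.H934.Eight
end

-- part: H934/Eight/SqTool
section
/-!
# A degree outside a list from the symmetric and alternating squares (helper934)

* `real_of_perm` : the constituents of a rank 3 permutation character of different degrees are real;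
* `exists_deg` : a real irreducible character of degree `21`: the nontrivial irreducible characters do not all satisfy
  `P`, where `P d` : `3 ∣ d` and `21 ≤ d`, or `d = 224`, or `230 < d`.
-/

set_option autoImplicit false

open scoped ComplexConjugate
open Cfsg

namespace Cfsg.Agent.H934.Eight

open Cfsg.Agent.Characters Cfsg.Agent.Characters.Core

universe u

variable {G : Type u} [Group G] [Finite G]

theorem real_of_perm {χ₁ χ₂ π : G → ℂ} (h₁ : IsIrrCharacter G χ₁) (h₂ : IsIrrCharacter G χ₂)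
    (hπ : ∀ x, conj (π x) = π x) (h : ∀ x, π x = 1 + χ₁ x + χ₂ x) (hne : χ₁ 1 ≠ χ₂ 1)
    (hr : conj (χ₁ 1) = χ₁ 1) : ∀ x, conj (χ₂ x) = χ₂ x := by
  classical
  let _ := Fintype.ofFinite G
  have c₁ := isIrr_conj h₁
  have c₂ := isIrr_conj h₂
  have e1 : (fun x => conj (χ₁ x)) + (fun x => conj (χ₂ x)) = χ₁ + χ₂ := by
    funext x
    have h3 := hπ x
    rw [h x, map_add, map_add, map_one] at h3
    simp only [Pi.add_apply]
    linear_combination h3
  have e2 := congrArg (fun f => classInner f χ₂) e1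
  beta_reduce at e2
  rw [classInner_add_left, classInner_add_left, classInner_irr_self h₂,
    classInner_irr_ne h₁ h₂ (fun e => hne (by rw [e])), zero_add] at e2
  have n1 : (fun x => conj (χ₁ x)) ≠ χ₂ := by
    intro e
    apply hne
    rw [← congrFun e 1, hr]
  rw [classInner_irr_ne c₁ h₂ n1, zero_add] at e2
  have n2 : (fun x => conj (χ₂ x)) = χ₂ := by
    by_contra hne'
    rw [classInner_irr_ne c₂ h₂ hne'] at e2
    exact zero_ne_one e2
  exact fun x => congrFun n2 x

/-- the property of the degrees -/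
def PP (d : ℕ) : Prop := (3 ∣ d ∧ (d = 0 ∨ 21 ≤ d)) ∨ d = 224 ∨ 230 < d

theorem PP.add {a b : ℕ} (ha : PP a) (hb : PP b) : PP (a + b) := by
  unfold PP at *
  omega

theorem PP.mul {a : ℕ} (ha : PP a) (n : ℕ) : PP (n * a) := by
  induction n with
  | zero => left; simp
  | succ n ih => rw [Nat.succ_mul]; exact ih.add ha

/-- the degree of a character without trivial constituents -/
theorem pp_of_character {φ : G → ℂ} [Fintype G] (hφ : IsCharacter G φ) {d n : ℕ} (hd : φ 1 = d)
    (h1 : classInner φ (1 : G → ℂ) = n) (hP : ∀ ψ : IrrCharacter G, (ψ : G → ℂ) ≠ 1 → PP (charDegree (ψ : G → ℂ))) :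
    ∃ k, PP k ∧ n + k = d := by
  classical
  have : Finite (IrrCharacter G) := finite_irr
  let _ := Fintype.ofFinite (IrrCharacter G)
  obtain ⟨m, hm⟩ := isCharacter_iff.1 hφ
  let o : IrrCharacter G := ⟨1, isIrr_one⟩
  have hn : m o = n := by
    have h2 := classInner_sum_nsmul_irr m o
    rw [← hm] at h2
    have h3 : ((m o : ℕ) : ℂ) = n := by rw [← h2]; exact h1
    exact_mod_cast h3
  have hdeg : ∀ ψ : IrrCharacter G, (ψ : G → ℂ) 1 = (charDegree (ψ : G → ℂ) : ℂ) := fun ψ => by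
    exact (Blocks.Basic.irr_one_eq_charDegree ψ.2)
  refine ⟨∑ ψ ∈ Finset.univ.erase o, m ψ * charDegree (ψ : G → ℂ), ?_, ?_⟩
  · refine Finset.sum_induction _ PP (fun _ _ => PP.add) (by left; simp) ?_
    intro ψ hψ
    refine PP.mul (hP ψ fun e => ?_) _
    exact (Finset.mem_erase.1 hψ).1 (Subtype.ext e)
  · have h2 : ((∑ ψ : IrrCharacter G, m ψ * charDegree (ψ : G → ℂ) : ℕ) : ℂ) = d := by
      rw [← hd, hm]
      push_cast
      rw [Finset.sum_apply]
      refine Finset.sum_congr rfl fun ψ _ => ?_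
      rw [Pi.smul_apply, hdeg, nsmul_eq_mul]
    have h3 : ∑ ψ : IrrCharacter G, m ψ * charDegree (ψ : G → ℂ) = d := by exact_mod_cast h2
    rw [← h3, ← Finset.add_sum_erase _ _ (Finset.mem_univ o), hn]
    congr 1
    have h4 : charDegree (o : G → ℂ) = 1 := by
      have h5 := hdeg o
      have h6 : (o : G → ℂ) 1 = 1 := rfl
      rw [h6] at h5
      exact_mod_cast h5.symm
    rw [h4, mul_one]

/-- **a new degree** -/
theorem exists_deg {χ : G → ℂ} (hχ : IsIrrCharacter G χ) (hreal : ∀ x, conj (χ x) = χ x) (h21 : χ 1 = 21) :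
    ∃ ψ : IrrCharacter G, (ψ : G → ℂ) ≠ 1 ∧ ¬ PP (charDegree (ψ : G → ℂ)) := by
  classical
  by_contra hcon
  push Not at hcon
  let _ := Fintype.ofFinite G
  have hS := PermChar.SymAlt.isCharacter_symSq (isIrr_isCharacter hχ)
  have hA := PermChar.SymAlt.isCharacter_altSq (isIrr_isCharacter hχ)
  obtain ⟨a, ha⟩ := classInner_isNat hS (isIrr_isCharacter (isIrr_one (G := G)))
  obtain ⟨b, hb⟩ := classInner_isNat hA (isIrr_isCharacter (isIrr_one (G := G)))
  have hab : a + b = 1 := by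
    have h1 : classInner (fun g => (χ g ^ 2 + χ (g * g)) / 2) (1 : G → ℂ) +
        classInner (fun g => (χ g ^ 2 - χ (g * g)) / 2) (1 : G → ℂ) = 1 := by
      rw [← classInner_add_left, ← classInner_irr_self hχ, classInner_def, classInner_def]
      congr 1
      refine Finset.sum_congr rfl fun g _ => ?_
      rw [hreal g]
      simp only [Pi.add_apply, Pi.one_apply, map_one]
      ring
    rw [ha, hb] at h1
    exact_mod_cast h1
  have dS : (fun g => (χ g ^ 2 + χ (g * g)) / 2) 1 = ((231 : ℕ) : ℂ) := by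
    simp only [mul_one, h21]; norm_num
  have dA : (fun g => (χ g ^ 2 - χ (g * g)) / 2) 1 = ((210 : ℕ) : ℂ) := by
    simp only [mul_one, h21]; norm_num
  obtain ⟨k, hk, hk'⟩ := pp_of_character hS dS ha hcon
  obtain ⟨l, hl, hl'⟩ := pp_of_character hA dA hb hcon
  unfold PP at hk hl
  omega

end Cfsg.Agent.H934.Eight
end

-- part: H934/Eight/RealSix
section
/-!
# The real character of degree `q (q² - q + 1)` of `PΩ⁻₆(q)` (helper934)
-/

set_option autoImplicit false

open scoped ComplexConjugate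
open Cfsg

namespace Cfsg.Agent.H934.Eight

open Module Cfsg.Agent.H53.HC Cfsg.Agent.H690.Spor.RankThree Cfsg.Agent.H690.Spor.RankThree.R3
open Cfsg.Agent.Characters Cfsg.Agent.H477.HC Cfsg.Agent.H477.HC.CForm Cfsg.Agent.H33

universe u v w

section

variable {K : Type u} [Field K] {V : Type v} [AddCommGroup V] [Module K V] {F : CForm K V}
  {X : Type w} [AddCommGroup X] [Module K X] {F' : CForm K X} {e f : V} {j : X →ₗ[K] V}

/-- **the two characters** -/
theorem exists_chars_of' [FiniteDimensional K V] [Finite V] [Finite K] [Finite X] (h : Hyp F F' e f j) {P P' : ℕ}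
    (hP : 2 ≤ P) (hP' : 1 ≤ P')
    (hX : Nat.card {x : X // F'.Sing x} = (P - 1) * (P' + 1) + 1)
    (hV : Nat.card {v : V // F.Sing v} = (Nat.card K * P - 1) * (Nat.card K * P' + 1) + 1)
    (H : Subgroup F.iso) (hH : ∀ (g : F.iso) (x y : F.Pt), ∃ h ∈ H, h • x = g • x ∧ h • y = g • y) :
    ∃ (χ₁ χ₂ : IrrCharacter H) (a b : ℕ), (χ₁ : H → ℂ) 1 = a ∧ (χ₂ : H → ℂ) 1 = b ∧
      ((Nat.card K : ℤ) - 1) * (P + P') * a = Nat.card K * P' * (P' + 1) * (Nat.card K * P - 1) ∧
      ((Nat.card K : ℤ) - 1) * (P + P') * b = Nat.card K * P * (P - 1) * (Nat.card K * P' + 1) ∧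
      (∀ x : H, (Nat.card (MulAction.fixedBy F.Pt x) : ℂ) = 1 + (χ₁ : H → ℂ) x + (χ₂ : H → ℂ) x) ∧
      ∀ x : H, (∀ y : F.Pt, (x : F.iso) • y = y) → (χ₁ : H → ℂ) x = a ∧ (χ₂ : H → ℂ) x = b := by
  classical
  have hq : 1 < Nat.card K := Finite.one_lt_card
  obtain ⟨q, hq'⟩ : ∃ q, q = Nat.card K := ⟨_, rfl⟩
  obtain ⟨n, hn⟩ : ∃ n, n = Nat.card F'.Pt := ⟨_, rfl⟩
  have hb := card_sing (F := F')
  rw [← hn] at hb
  rw [← hq'] at hq hV hb ⊢
  have hb1 : (q - 1) * n = (P - 1) * (P' + 1) := by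
    rw [hX] at hb
    exact Nat.add_right_cancel hb
  have hn0 : 0 < n := by
    rcases Nat.eq_zero_or_pos n with h0 | h0
    · exfalso
      rw [h0, mul_zero] at hb1
      have : 0 < (P - 1) * (P' + 1) := Nat.mul_pos (by omega) (by omega)
      omega
    · exact h0
  obtain ⟨s, rfl⟩ : ∃ s, q = s + 1 := ⟨q - 1, by omega⟩
  obtain ⟨t, rfl⟩ : ∃ t, P = t + 1 := ⟨P - 1, by omega⟩
  rw [Nat.add_sub_cancel, Nat.add_sub_cancel] at hb1
  have hl : (Nat.card K - 1) * (1 + Nat.card K * n + (s + 1) * ((t + 1) * P')) + 1 = Nat.card {v : V // F.Sing v} := by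
    rw [hV, ← hq', Nat.add_sub_cancel]
    have e1 : (s + 1) * (t + 1) - 1 = s * t + s + t := by
      have : (s + 1) * (t + 1) = s * t + s + t + 1 := by ring
      omega
    rw [e1]
    have e2 : s * (1 + (s + 1) * n + (s + 1) * ((t + 1) * P')) + 1 =
        s + (s + 1) * (s * n) + s * ((s + 1) * ((t + 1) * P')) + 1 := by ring
    rw [e2, hb1]
    ring
  obtain ⟨hr3, x₀, y₀, hxy, hR, hcom⟩ := r3 h (b := n) (l := (s + 1) * ((t + 1) * P')) (by rw [← hq']; exact hb) hl hn0
    (by (clear * - hP'; positivity)) H hH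
  have hbZ : (s : ℤ) * n = t * (P' + 1) := by exact_mod_cast hb1
  have := Fintype.ofFinite F.Pt
  have : Finite F.iso := finite_iso F
  have hnP : (t : ℤ) - (-(P' : ℤ) - 1) = t + 1 + P' := by ring
  obtain ⟨χ₁, χ₂, a, b, h1, h2, h3, h4, h5, h6⟩ := H113.PSU.Rank3.frame_exact hr3 hxy hR hcom
    (r := (t : ℤ)) (s := -(P' : ℤ) - 1) (by
      intro h0
      have : (t : ℤ) + 1 + P' = 0 := by rw [h0]; ring
      omega)
    (by
      rw [← hq']
      push_cast
      linear_combination hbZ)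
    (by
      rw [← hq']
      push_cast
      linear_combination (-(((s : ℤ) + 1) * n)) * hbZ)
  rw [← hq'] at h3 h4
  push_cast at h3 h4
  refine ⟨χ₁, χ₂, a, b, h1, h2, ?_, ?_, h5, fun x hx => h6 x hx⟩
  · push_cast
    linear_combination (s : ℤ) * h3 + (((s : ℤ) + 1) * P') * hbZ
  · push_cast
    linear_combination (s : ℤ) * h4 + (((s : ℤ) + 1) * (t + 1)) * hbZ

end

/-- from the commutator subgroup of `F.iso` to `PΩ` -/
theorem ch_of_comm' {ι : Type} [Fintype ι] [DecidableEq ι] {K : Type u} [Field K] [Finite K] (F : CForm K (ι → K))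
    (hB : ∀ u v, F.B u v = F.Q (u + v) - F.Q u - F.Q v)
    (hcen : ∀ z : Omega K F.Q, z ∈ Subgroup.center (Omega K F.Q) → ∃ a : Kˣ, ∀ v, (omMat z).mulVec v = (a : K) • v)
    (χ : IrrCharacter (commutator F.iso)) {a : ℕ} (ha : (χ : commutator F.iso → ℂ) 1 = a)
    (hker : ∀ x : commutator F.iso, (∀ y : F.Pt, (x : F.iso) • y = y) → (χ : commutator F.iso → ℂ) x = a) :
    ∃ η : POmega K F.Q → ℂ, IsIrrCharacter _ η ∧ η 1 = a ∧
      ((∀ x, conj ((χ : commutator F.iso → ℂ) x) = (χ : commutator F.iso → ℂ) x) → ∀ x, conj (η x) = η x) := by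
  have h1 : (Omega K F.Q).map (isoQuad F hB).toMonoidHom = commutator F.iso := by
    change (commutator (isometryGroup K F.Q)).map (isoQuad F hB).toMonoidHom = commutator F.iso
    rw [commutator_def, commutator_def, Subgroup.map_commutator, ← MonoidHom.range_eq_map]
    have : (isoQuad F hB).toMonoidHom.range = ⊤ := MonoidHom.range_eq_top.2 (isoQuad F hB).surjective
    rw [this]
  let φ : Omega K F.Q →* commutator F.iso :=
    ((isoQuad F hB).toMonoidHom.comp (Omega K F.Q).subtype).codRestrict (commutator F.iso) fun z => by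
      rw [← h1]
      exact ⟨z, z.2, rfl⟩
  have hφ : Function.Surjective φ := by
    rintro ⟨y, hy⟩
    rw [← h1] at hy
    obtain ⟨z, hz, hzy⟩ := hy
    exact ⟨⟨z, hz⟩, Subtype.ext hzy⟩
  obtain ⟨η, hη, hη'⟩ := exists_quot (Subgroup.center (Omega K F.Q)) (Core.isIrr_comp φ hφ χ.2) (fun z hz => by
    rw [Function.comp_apply, Function.comp_apply, map_one, ha]
    refine hker _ fun y => ?_
    obtain ⟨c, hc⟩ := hcen z hz
    apply Subtype.ext
    rw [F.smul_val]
    have h2 : ∀ v, ((isoQuad F hB z : F.iso) : (ι → K) ≃ₗ[K] (ι → K)) v = (c : K) • v := fun v => hc v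
    apply le_antisymm
    · rintro _ ⟨w, hw, rfl⟩
      change ((isoQuad F hB z : F.iso) : (ι → K) ≃ₗ[K] (ι → K)) w ∈ y.1
      rw [h2]
      exact y.1.smul_mem _ hw
    · intro w hw
      refine ⟨(c : K)⁻¹ • w, y.1.smul_mem _ hw, ?_⟩
      change ((isoQuad F hB z : F.iso) : (ι → K) ≃ₗ[K] (ι → K)) ((c : K)⁻¹ • w) = w
      rw [h2, smul_smul, mul_inv_cancel₀ c.ne_zero, one_smul])
  refine ⟨η, hη, ?_, fun hr x => ?_⟩
  · rw [← ha]
    have := hη' 1
    rw [Function.comp_apply, map_one] at this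
    exact this
  · obtain ⟨y, rfl⟩ := QuotientGroup.mk_surjective x
    rw [hη' y]
    exact hr _

section six

variable (K : Type u) [Field K] [Finite K]

seal _root_.Finset.sum _root_.dotProduct in
/-- the real character -/
theorem real_six (a b : K) (hab : ∀ z₁ z₂ : K, z₁ ^ 2 + a * z₁ * z₂ + b * z₂ ^ 2 = 0 → z₁ = 0 ∧ z₂ = 0)
    (h3 : Nat.card K = 3) :
    ∃ η : POmega K (quadFormMinus 2 K a b) → ℂ, IsIrrCharacter _ η ∧ η 1 = 21 ∧ ∀ x, conj (η x) = η x := by
  classical
  have hfin := Fintype.ofFinite K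
  have hq : 2 ≤ Nat.card K := Finite.one_lt_card
  obtain ⟨e, f, j, h⟩ := CForm.frm_minus (K := K) hab (show 1 + 1 = 2 by omega)
  obtain ⟨e2, f2, j2, h2⟩ := CForm.frm_minus (K := K) hab (show 2 + 0 = 2 by omega)
  have hc : Fintype.card K = Nat.card K := Nat.card_eq_fintype_card.symm
  have hG : LieClassical.OrthTrans.Good (LieClassical.OrthForms.minusForm 2 K a b) := by
    apply LieClassical.OrthFinite.good_of_finite (LieClassical.OrthForms.nondeg_minusForm 2 K a b hab)
    rw [Module.finrank_fintype_fun_eq_card, Fintype.card_sum, Fintype.card_sum, Fintype.card_fin]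
    omega
  have hstab := om_stab' (F := CForm.minusF K 2 a b hab) hG
    (fun v => congrFun (LieClassical.OrthForms.coe_minusForm 2 K a b) v) (minus_hB K 2 a b hab)
    (fun x y t => exists_perp_norm' h2 x y t (by
      obtain ⟨z₁, z₂, hz⟩ := exists_norm hab t
      exact ⟨_, (minusF_zero_Q K hab z₁ z₂).trans hz⟩))
  obtain ⟨χ₁, χ₂, s, t, c1, c2, c3, c4, c5, c6⟩ := exists_chars_of' h.hyp (P := Nat.card K ^ 1)
    (P' := Nat.card K ^ 2) (by rw [pow_one]; exact hq) (Nat.one_le_pow _ _ (by omega))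
    (by
      rw [card_Sing_quad, ← num_minus hq 1]
      exact S0290.result hc 2 (by omega) a b hab)
    (by
      rw [card_Sing_quad, ← pow_succ', ← pow_succ', ← num_minus hq 2]
      exact S0290.result hc 3 (by omega) a b hab)
    (commutator _) hstab
  rw [h3] at c3 c4
  have es : s = 90 := by push_cast at c3; omega
  have et : t = 21 := by push_cast at c4; omega
  subst es et
  obtain ⟨η, h1, h2, h3⟩ := ch_of_comm' (CForm.minusF K 2 a b hab) (minus_hB K 2 a b hab) (fun z hz => by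
    obtain ⟨c, -, hc⟩ := scal_of (cen_minus K (by omega) a b hab z hz)
    exact ⟨c, hc⟩) χ₂ c2 (fun x hx => (c6 x hx).2)
  have : Finite (CForm.minusF K 2 a b hab).iso := finite_iso _
  refine ⟨η, h1, (h2.trans (by norm_num) : _), h3 ?_⟩
  refine real_of_perm χ₁.2 χ₂.2 (π := fun x => (Nat.card (MulAction.fixedBy (CForm.minusF K 2 a b hab).Pt x) : ℂ))
    (fun x => Complex.conj_natCast _) c5 ?_ ?_
  · rw [c1, c2]; norm_num
  · rw [c1]; exact Complex.conj_natCast _


end six

end Cfsg.Agent.H934.Eight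
end
end

-- part: H289/Eight/Pair
section
set_option linter.all false
open scoped Cfsg.Agent.FastGrp

/-!
# Pairs of subspaces (helper289, S4899)

* `exists_pair` : `GL(V)` is transitive on the pairs of subspaces of given dimensions and given dimension of the
  intersection;
* `isIrr_two` : the difference of the permutation characters on the lines and on the points of the projective space is
  irreducible (`dim V ≥ 4`).
-/

set_option autoImplicit false
set_option linter.unusedSectionVars false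

open Module

namespace Cfsg.Agent.H289.Eight

variable {K V : Type*} [Field K] [AddCommGroup V] [Module K V] [FiniteDimensional K V]

/-- a basis adapted to two subspaces -/
theorem exists_adapted (W U : Submodule K V) {a b c : ℕ} (ha : finrank K ↥(W ⊓ U) = a) (hb : finrank K W = a + b)
    (hc : finrank K U = a + c) : ∃ u : (Fin a ⊕ Fin b) ⊕ Fin c → V, LinearIndependent K u ∧
      W = Submodule.span K (Set.range fun i : Fin a ⊕ Fin b => u (Sum.inl i)) ∧
      U = Submodule.span K (Set.range fun i : Fin a ⊕ Fin c => u (i.elim (fun j => Sum.inl (Sum.inl j)) Sum.inr)) := by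
  obtain ⟨C, hC⟩ := (W ⊓ U).exists_isCompl
  set D := W ⊓ U with hD
  have hDW : D ≤ W := inf_le_left
  have hDU : D ≤ U := inf_le_right
  have hW : D ⊔ (C ⊓ W) = W := by
    rw [← sup_inf_assoc_of_le C hDW, hC.sup_eq_top, top_inf_eq]
  have hU : D ⊔ (C ⊓ U) = U := by
    rw [← sup_inf_assoc_of_le C hDU, hC.sup_eq_top, top_inf_eq]
  have hdW : Disjoint D (C ⊓ W) := hC.disjoint.mono_right inf_le_left
  have hdU : Disjoint D (C ⊓ U) := hC.disjoint.mono_right inf_le_left
  have hfW : finrank K ↥(C ⊓ W) = b := by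
    have h1 := Submodule.finrank_sup_add_finrank_inf_eq D (C ⊓ W)
    rw [hW, hdW.eq_bot, finrank_bot, hb, ha] at h1
    omega
  have hfU : finrank K ↥(C ⊓ U) = c := by
    have h1 := Submodule.finrank_sup_add_finrank_inf_eq D (C ⊓ U)
    rw [hU, hdU.eq_bot, finrank_bot, hc, ha] at h1
    omega
  have hdWU : Disjoint W (C ⊓ U) := by
    rw [disjoint_iff]
    have : W ⊓ (C ⊓ U) = C ⊓ D := by rw [hD, inf_left_comm]
    rw [this, inf_comm]
    exact hC.disjoint.eq_bot
  let bD := (finBasisOfFinrankEq K D ha)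
  let bW := (finBasisOfFinrankEq K ↥(C ⊓ W) hfW)
  let bU := (finBasisOfFinrankEq K ↥(C ⊓ U) hfU)
  have sp : ∀ {m : ℕ} {X : Submodule K V} (b : Basis (Fin m) K X), Submodule.span K (Set.range fun i => (b i : V)) = X := by
    intro m X b
    have h1 : (Set.range fun i => (b i : V)) = X.subtype '' Set.range b := by
      rw [← Set.range_comp]; rfl
    rw [h1, Submodule.span_image, b.span_eq, Submodule.map_top, Submodule.range_subtype]
  have li : ∀ {m : ℕ} {X : Submodule K V} (b : Basis (Fin m) K X), LinearIndependent K fun i => (b i : V) :=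
    fun {m X} b => b.linearIndependent.map' X.subtype X.ker_subtype
  have sW : Submodule.span K (Set.range (Sum.elim (fun i => (bD i : V)) fun i => (bW i : V))) = W := by
    rw [Set.Sum.elim_range, Submodule.span_union, sp, sp, hW]
  refine ⟨Sum.elim (Sum.elim (fun i => (bD i : V)) fun i => (bW i : V)) fun i => (bU i : V), ?_, ?_, ?_⟩
  · refine LinearIndependent.sum_type (LinearIndependent.sum_type (li bD) (li bW) ?_) (li bU) ?_
    · rw [sp, sp]; exact hdW
    · rw [sW, sp]; exact hdWU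
  · exact sW.symm
  · have h1 : (Set.range fun i : Fin a ⊕ Fin c => Sum.elim (Sum.elim (fun i => (bD i : V)) fun i => (bW i : V))
        (fun i => (bU i : V)) (i.elim (fun j => Sum.inl (Sum.inl j)) Sum.inr)) =
        Set.range (Sum.elim (fun i => (bD i : V)) fun i => (bU i : V)) := by
      congr 1
      funext i
      rcases i with i | i <;> rfl
    rw [h1, Set.Sum.elim_range, Submodule.span_union, sp, sp, hU]

/-- **Transitivity on pairs of subspaces.** -/
theorem exists_pair {W U W' U' : Submodule K V} (h1 : finrank K W = finrank K W') (h2 : finrank K U = finrank K U')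
    (h3 : finrank K ↥(W ⊓ U) = finrank K ↥(W' ⊓ U')) :
    ∃ g : V ≃ₗ[K] V, W.map (g : V →ₗ[K] V) = W' ∧ U.map (g : V →ₗ[K] V) = U' := by
  have ha := Submodule.finrank_mono (R := K) (inf_le_left : W ⊓ U ≤ W)
  have hc := Submodule.finrank_mono (R := K) (inf_le_right : W ⊓ U ≤ U)
  obtain ⟨u, hu, e1, e2⟩ := exists_adapted W U (a := finrank K ↥(W ⊓ U)) (b := finrank K W - finrank K ↥(W ⊓ U))
    (c := finrank K U - finrank K ↥(W ⊓ U)) rfl (by omega) (by omega)
  obtain ⟨v, hv, e3, e4⟩ := exists_adapted W' U' (a := finrank K ↥(W ⊓ U)) (b := finrank K W - finrank K ↥(W ⊓ U))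
    (c := finrank K U - finrank K ↥(W ⊓ U)) h3.symm (by omega) (by omega)
  obtain ⟨g, hg⟩ := Cfsg.Agent.H105.exists_equiv_of_indep hu hv
  refine ⟨g, ?_, ?_⟩
  · rw [e3]
    conv_lhs => rw [e1]
    rw [Submodule.map_span, ← Set.range_comp]
    congr 2
    funext i
    exact hg _
  · rw [e4]
    conv_lhs => rw [e2]
    rw [Submodule.map_span, ← Set.range_comp]
    congr 2
    funext i
    exact hg _

/-- the subspaces of dimension `k` -/
def Gr (K V : Type*) [Field K] [AddCommGroup V] [Module K V] (k : ℕ) : Type _ := {W : Submodule K V // finrank K W = k}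

instance instActGr (k : ℕ) : MulAction (V ≃ₗ[K] V) (Gr K V k) where
  smul g W := ⟨W.1.map (g : V →ₗ[K] V), by rw [LinearEquiv.finrank_map_eq]; exact W.2⟩
  one_smul W := Subtype.ext (Submodule.map_id W.1)
  mul_smul g h W := Subtype.ext (Submodule.map_comp (h : V →ₗ[K] V) (g : V →ₗ[K] V) W.1)

theorem coe_smul_Gr {k : ℕ} (g : V ≃ₗ[K] V) (W : Gr K V k) : (g • W).1 = W.1.map (g : V →ₗ[K] V) := rfl

theorem finrank_inf_map (g : V ≃ₗ[K] V) (W U : Submodule K V) :
    finrank K ↥(W.map (g : V →ₗ[K] V) ⊓ U.map (g : V →ₗ[K] V)) = finrank K ↥(W ⊓ U) := by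
  rw [← Submodule.map_inf _ g.injective, LinearEquiv.finrank_map_eq]

/-- the number of orbits on pairs of subspaces -/
theorem card_orb {a b N : ℕ} (f : ∀ W U : Submodule K V, finrank K W = a → finrank K U = b → finrank K ↥(W ⊓ U) < N)
    (hsurj : ∀ i < N, ∃ W U : Submodule K V, finrank K W = a ∧ finrank K U = b ∧ finrank K ↥(W ⊓ U) = i) :
    Nat.card (MulAction.orbitRel.Quotient (V ≃ₗ[K] V) (Gr K V a × Gr K V b)) = N := by
  refine Cfsg.Agent.H464.PermIrr.card_orbits (V ≃ₗ[K] V) (fun z => ⟨finrank K ↥(z.1.1 ⊓ z.2.1), f _ _ z.1.2 z.2.2⟩)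
    ?_ ?_ ?_
  · rintro g ⟨W, U⟩
    exact Fin.ext (finrank_inf_map g W.1 U.1)
  · rintro ⟨i, hi⟩
    obtain ⟨W, U, h1, h2, h3⟩ := hsurj i hi
    exact ⟨(⟨W, h1⟩, ⟨U, h2⟩), Fin.ext h3⟩
  · rintro ⟨W, U⟩ ⟨W', U'⟩ h
    obtain ⟨g, h1, h2⟩ := exists_pair (W.2.trans W'.2.symm) (U.2.trans U'.2.symm) (congrArg Fin.val h)
    exact ⟨g, Prod.ext (Subtype.ext h1) (Subtype.ext h2)⟩

/-- subspaces of given dimensions -/
theorem exists_sub (S T : Finset (Fin (finrank K V))) : ∃ W U : Submodule K V, finrank K W = S.card ∧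
    finrank K U = T.card ∧ finrank K ↥(W ⊓ U) = (S ∩ T).card := by
  classical
  let e := finBasis K V
  have hf : ∀ S : Finset (Fin (finrank K V)), finrank K (Submodule.span K (e '' (S : Set (Fin (finrank K V))))) = S.card := by
    intro S
    have h1 : e '' (S : Set (Fin (finrank K V))) = Set.range fun i : S => e i := by
      ext x
      simp
    have h2 := finrank_span_eq_card (R := K) (b := fun i : S => e i)
      (e.linearIndependent.comp _ Subtype.val_injective)
    rw [h1, h2, Fintype.card_coe]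
  refine ⟨_, _, hf S, hf T, ?_⟩
  have h1 := Submodule.finrank_sup_add_finrank_inf_eq (Submodule.span K (e '' (S : Set (Fin (finrank K V)))))
    (Submodule.span K (e '' (T : Set (Fin (finrank K V)))))
  rw [← Submodule.span_union, ← Set.image_union, ← Finset.coe_union, hf, hf, hf] at h1
  have h2 := Finset.card_union_add_card_inter S T
  omega

theorem orb_two (hV : 4 ≤ finrank K V) :
    Nat.card (MulAction.orbitRel.Quotient (V ≃ₗ[K] V) (Gr K V 2 × Gr K V 2)) = 3 := by
  refine card_orb (fun W U hW hU => ?_) fun i hi => ?_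
  · have := Submodule.finrank_mono (R := K) (inf_le_left : W ⊓ U ≤ W)
    omega
  · obtain ⟨k, hk⟩ : ∃ k, finrank K V = k + 4 := ⟨finrank K V - 4, by omega⟩
    have hinj : ∀ a b : Fin 4, a ≠ b → (Fin.cast hk.symm (Fin.natAdd k a)) ≠ (Fin.cast hk.symm (Fin.natAdd k b)) := by
      intro a b hab h
      apply hab
      simpa [Fin.ext_iff] using h
    let v : Fin 4 ↪ Fin (finrank K V) := ⟨fun a => Fin.cast hk.symm (Fin.natAdd k a), fun a b h => by
      by_contra hne
      exact hinj a b hne h⟩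
    have key : ∀ S T : Finset (Fin 4), S.card = 2 → T.card = 2 → (S ∩ T).card = i →
        ∃ W U : Submodule K V, finrank K W = 2 ∧ finrank K U = 2 ∧ finrank K ↥(W ⊓ U) = i := by
      intro S T h1 h2 h3
      obtain ⟨W, U, h4, h5, h6⟩ := exists_sub (K := K) (V := V) (S.map v) (T.map v)
      rw [← Finset.map_inter, Finset.card_map] at h6
      rw [Finset.card_map] at h4 h5
      exact ⟨W, U, h4.trans h1, h5.trans h2, h6.trans h3⟩
    interval_cases i
    · exact key {0, 1} {2, 3} rfl rfl rfl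
    · exact key {0, 1} {0, 2} rfl rfl rfl
    · exact key {0, 1} {0, 1} rfl rfl rfl

theorem orb_mixed (hV : 4 ≤ finrank K V) :
    Nat.card (MulAction.orbitRel.Quotient (V ≃ₗ[K] V) (Gr K V 2 × Gr K V 1)) = 2 := by
  refine card_orb (fun W U hW hU => ?_) fun i hi => ?_
  · have := Submodule.finrank_mono (R := K) (inf_le_right : W ⊓ U ≤ U)
    omega
  · obtain ⟨k, hk⟩ : ∃ k, finrank K V = k + 4 := ⟨finrank K V - 4, by omega⟩
    have hinj : ∀ a b : Fin 4, a ≠ b → (Fin.cast hk.symm (Fin.natAdd k a)) ≠ (Fin.cast hk.symm (Fin.natAdd k b)) := by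
      intro a b hab h
      apply hab
      simpa [Fin.ext_iff] using h
    let v : Fin 4 ↪ Fin (finrank K V) := ⟨fun a => Fin.cast hk.symm (Fin.natAdd k a), fun a b h => by
      by_contra hne
      exact hinj a b hne h⟩
    have key : ∀ S T : Finset (Fin 4), S.card = 2 → T.card = 1 → (S ∩ T).card = i →
        ∃ W U : Submodule K V, finrank K W = 2 ∧ finrank K U = 1 ∧ finrank K ↥(W ⊓ U) = i := by
      intro S T h1 h2 h3
      obtain ⟨W, U, h4, h5, h6⟩ := exists_sub (K := K) (V := V) (S.map v) (T.map v)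
      rw [← Finset.map_inter, Finset.card_map] at h6
      rw [Finset.card_map] at h4 h5
      exact ⟨W, U, h4.trans h1, h5.trans h2, h6.trans h3⟩
    interval_cases i
    · exact key {0, 1} {2} rfl rfl rfl
    · exact key {0, 1} {0} rfl rfl rfl

theorem orb_one (hV : 4 ≤ finrank K V) :
    Nat.card (MulAction.orbitRel.Quotient (V ≃ₗ[K] V) (Gr K V 1 × Gr K V 1)) = 2 := by
  refine card_orb (fun W U hW hU => ?_) fun i hi => ?_
  · have := Submodule.finrank_mono (R := K) (inf_le_right : W ⊓ U ≤ U)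
    omega
  · obtain ⟨k, hk⟩ : ∃ k, finrank K V = k + 4 := ⟨finrank K V - 4, by omega⟩
    have hinj : ∀ a b : Fin 4, a ≠ b → (Fin.cast hk.symm (Fin.natAdd k a)) ≠ (Fin.cast hk.symm (Fin.natAdd k b)) := by
      intro a b hab h
      apply hab
      simpa [Fin.ext_iff] using h
    let v : Fin 4 ↪ Fin (finrank K V) := ⟨fun a => Fin.cast hk.symm (Fin.natAdd k a), fun a b h => by
      by_contra hne
      exact hinj a b hne h⟩
    have key : ∀ S T : Finset (Fin 4), S.card = 1 → T.card = 1 → (S ∩ T).card = i →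
        ∃ W U : Submodule K V, finrank K W = 1 ∧ finrank K U = 1 ∧ finrank K ↥(W ⊓ U) = i := by
      intro S T h1 h2 h3
      obtain ⟨W, U, h4, h5, h6⟩ := exists_sub (K := K) (V := V) (S.map v) (T.map v)
      rw [← Finset.map_inter, Finset.card_map] at h6
      rw [Finset.card_map] at h4 h5
      exact ⟨W, U, h4.trans h1, h5.trans h2, h6.trans h3⟩
    interval_cases i
    · exact key {1} {2} rfl rfl rfl
    · exact key {0} {0} rfl rfl rfl

/-- **The second constituent of the permutation character on the lines.** -/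
theorem isIrr_two [Finite V] (hV : 4 ≤ finrank K V)
    (hlt : Nat.card {W : Submodule K V // finrank K W = 1} < Nat.card {W : Submodule K V // finrank K W = 2}) :
    Cfsg.IsIrrCharacter (V ≃ₗ[K] V)
      (Cfsg.Agent.H464.PermIrr.pc (V ≃ₗ[K] V) (Gr K V 2) - Cfsg.Agent.H464.PermIrr.pc (V ≃ₗ[K] V) (Gr K V 1)) := by
  have hf : ∀ k, Finite (Gr K V k) := fun k => by
    have : Finite (Submodule K V) := inferInstance
    exact Subtype.finite
  have := hf 1
  have := hf 2
  have hG : Finite (V ≃ₗ[K] V) := Finite.of_injective (fun g : V ≃ₗ[K] V => (g : V → V)) DFunLike.coe_injective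
  exact Cfsg.Agent.H464.PermIrr.irr_sub _ _ _ hlt (orb_two hV) (orb_mixed hV) (orb_one hV) (by norm_num)

end Cfsg.Agent.H289.Eight
end
end
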