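import Cfsg.Agent.H53.HC.Flag_m3
import Cfsg.Agent.H477.HC.Rk3Chars_m3
import Mathlib.NumberTheory.LegendreSymbol.QuadraticChar.Basic
import Cfsg.Agent.H664.Eight.Base
import Cfsg.Agent.Nodes.RGDOrth
import Cfsg.Agent.H167.SteinbergRGD
import Cfsg.Agent.H113.PSU.Main
import Cfsg.Agent.H934.Eight.RealSix_m3
import Cfsg.Agent.S0280
import Cfsg.Agent.S0303
import Mathlib
import Cfsg.Agent.H167.HasStLie
import Cfsg.Agent.S0283
import Cfsg.Agent.H113.Two.PsuTwo
import Cfsg.Agent.H113.PSL.Main
import Cfsg.Agent.H277.ClsPsl
import Cfsg.Agent.S2544
import Cfsg.Agent.H363.PslCard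
import Cfsg.Prelude.Def_Classification2
import Cfsg.Prelude.Def_Sporadic
import Cfsg.Prelude.Def_Exceptional
import Cfsg.Agent.H612.Eight.Fam
import Cfsg.Agent.H996.Eight.Interval
import Cfsg.Agent.S0293
import Cfsg.Agent.S0296
import Cfsg.Agent.H570.Ore.Blk_m3
import Cfsg.Agent.Lib.SieveFast
import Cfsg.Agent.H187.Scheme.HN_m3
import Cfsg.Agent.H399.Two.HN
import Cfsg.Agent.H596.Degree
import Cfsg.Agent.Prune
set_option linter.all false

section
prune_inst 0x7fffedf8bbaa73ffdfff7e3fa6d8effc13868fffe6dff943ffe069bf8b9f13120945fb850de030fe0ed6e01410b87843fb7eeeffe06bdc7ffffd5ff41ffbee4fe5f73508119080240f340fff03f0778a6f3ffffffffffffffffffff7ffffffbeffbff3feffff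

-- part: H539/Eight/Ker
section
prune_inst 0x207404588002000018051060001e4292000092004b8000406007060eca9c68a042ae21a8300d1290b00cc428310048111001a0422800000a000000011901a088001402f1890108b20009001082410000000000000000000000000000041000004010000
set_option linter.all false
open scoped Cfsg.Agent.FastGrp

/-!
# Irreducible characters from invariant kernels (helper539)

A finite group `G` acts on a finite set `N`; `pr G N` is the representation on `N → ℂ`.
`isIrr_idem` : the image of an equivariant idempotent `π` is irreducible if the equivariant `k = π k π` are multiples of `π`.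
`exists_one` : `E`, `T` invariant kernels, `E² = E`, `E T = T E = T`, `T² = (λ + μ) T - λ μ E`, and every invariant kernel
`k = E k E` is a combination of `E` and `T`: there is an irreducible character `χ` with
`(λ - μ) χ(1) = tr T - μ tr E`.
-/

set_option autoImplicit false
set_option linter.unusedSectionVars false

open scoped ComplexConjugate
open Cfsg

namespace Cfsg.Agent.H539.Eight

open Cfsg.Agent.Characters Module Cfsg.Agent.H477.HC Representation

universe u v

theorem isIrr_idem {G : Type u} [Group G] [Finite G] {V : Type v} [AddCommGroup V] [Module ℂ V] [FiniteDimensional ℂ V]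
    (τ : Representation ℂ G V) (π : V →ₗ[ℂ] V) (h1 : π * π = π) (h2 : ∀ g, τ g * π = π * τ g) (h0 : π ≠ 0)
    (h3 : ∀ k : V →ₗ[ℂ] V, (∀ g, τ g * k = k * τ g) → π * k = k → k * π = k → ∃ a : ℂ, k = a • π) :
    IsIrrCharacter G (fun g => LinearMap.trace ℂ V (τ g * π)) := by
  classical
  have := Fintype.ofFinite G
  let W : Subrepresentation τ :=
    { toSubmodule := LinearMap.range π
      apply_mem_toSubmodule := by
        rintro g _ ⟨v, rfl⟩
        exact ⟨τ g v, (LinearMap.congr_fun (h2 g) v).symm⟩ }
  have hc : (fun g => LinearMap.trace ℂ V (τ g * π)) = W.toRepresentation.character := by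
    ext g
    have h4 : ∀ v, (τ g * π) v ∈ LinearMap.range π := fun v => ⟨τ g v, (LinearMap.congr_fun (h2 g) v).symm⟩
    rw [← LinearMap.trace_restrict_eq_of_forall_mem (LinearMap.range π) (τ g * π) h4]
    change _ = LinearMap.trace ℂ _ (W.toRepresentation g)
    congr 1
    refine LinearMap.ext fun v => ?_
    apply Subtype.ext
    obtain ⟨v, v', rfl⟩ := v
    exact congrArg (τ g) (LinearMap.congr_fun h1 v')
  rw [hc]
  have hch := Core.isCharacter_of_rep W.toRepresentation
  apply Core.isIrr_of_classInner_self hch
  rw [Core.classInner_character]
  have hfix : ∀ w : LinearMap.range π, π w = w := by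
    rintro ⟨_, v, rfl⟩
    exact LinearMap.congr_fun h1 v
  -- the dimension is at most one
  have hle : finrank ℂ (IntertwiningMap W.toRepresentation W.toRepresentation) ≤ 1 := by
    let I : IntertwiningMap W.toRepresentation W.toRepresentation := ⟨LinearMap.id, fun g => rfl⟩
    refine finrank_le_one I fun φ => ?_
    let k : V →ₗ[ℂ] V := (LinearMap.range π).subtype ∘ₗ φ.toLinearMap ∘ₗ π.rangeRestrict
    have hk : ∀ v, k v = (φ.toLinearMap (π.rangeRestrict v) : LinearMap.range π) := fun v => rfl
    obtain ⟨a, ha⟩ := h3 k (fun g => by
      refine LinearMap.ext fun v => ?_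
      have e1 : π.rangeRestrict (τ g v) = W.toRepresentation g (π.rangeRestrict v) :=
        Subtype.ext (LinearMap.congr_fun (h2 g) v).symm
      have e2 := LinearMap.congr_fun (φ.isIntertwining' g) (π.rangeRestrict v)
      change τ g (k v) = k (τ g v)
      rw [hk, hk, e1]
      exact (congrArg Subtype.val e2).symm) (by
      refine LinearMap.ext fun v => ?_
      exact hfix _) (by
      refine LinearMap.ext fun v => ?_
      change k (π v) = k v
      rw [hk, hk]
      have e1 : π.rangeRestrict (π v) = π.rangeRestrict v := Subtype.ext (LinearMap.congr_fun h1 v)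
      rw [e1])
    refine ⟨a, ?_⟩
    apply IntertwiningMap.ext
    refine LinearMap.ext fun w => ?_
    apply Subtype.ext
    obtain ⟨w, v, rfl⟩ := w
    have e1 := LinearMap.congr_fun ha v
    have e2 : (⟨π v, v, rfl⟩ : LinearMap.range π) = π.rangeRestrict v := rfl
    change a • π v = (φ.toLinearMap (⟨π v, v, rfl⟩ : LinearMap.range π) : V)
    rw [e2, ← hk, e1]
    rfl
  -- and not zero
  have hne : finrank ℂ (IntertwiningMap W.toRepresentation W.toRepresentation) ≠ 0 := by
    intro h
    have e1 : classInner W.toRepresentation.character W.toRepresentation.character = 0 := by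
      rw [Core.classInner_character, h, Nat.cast_zero]
    have e2 := Core.classInner_self_eq_zero e1
    have e3 := congrFun e2 1
    rw [Representation.char_one] at e3
    have e4 : finrank ℂ (LinearMap.range π) = 0 := Nat.cast_eq_zero.1 (e3.trans rfl)
    apply h0
    rw [← LinearMap.range_eq_bot]
    exact Submodule.finrank_eq_zero.1 e4
  have h5 : finrank ℂ (IntertwiningMap W.toRepresentation W.toRepresentation) = 1 := by omega
  rw [h5, Nat.cast_one]

section perm

variable (G : Type u) [Group G] (N : Type v) [MulAction G N]

/-- the representation on functions -/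
def pr : Representation ℂ G (N → ℂ) where
  toFun g := { toFun := fun f v => f (g⁻¹ • v), map_add' := fun _ _ => rfl, map_smul' := fun _ _ => rfl }
  map_one' := by
    refine LinearMap.ext fun f => ?_
    ext v
    change f ((1 : G)⁻¹ • v) = f v
    rw [inv_one, one_smul]
  map_mul' x y := by
    refine LinearMap.ext fun f => ?_
    ext v
    change f ((x * y)⁻¹ • v) = f (y⁻¹ • x⁻¹ • v)
    rw [mul_inv_rev, mul_smul]

variable {N} [Fintype N] [DecidableEq N]

/-- invariant kernels -/
def KInv (k : Matrix N N ℂ) : Prop := ∀ (g : G) (v w : N), k (g • v) (g • w) = k v w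

variable {G}

theorem comm_iff (k : Matrix N N ℂ) : (∀ g, pr G N g * Matrix.toLin' k = Matrix.toLin' k * pr G N g) ↔ KInv G k := by
  have key : ∀ (g : G) (f : N → ℂ) (v : N), (pr G N g * Matrix.toLin' k) f v = ∑ w, k (g⁻¹ • v) w * f w := fun g f v => rfl
  have key' : ∀ (g : G) (f : N → ℂ) (v : N), (Matrix.toLin' k * pr G N g) f v = ∑ w, k v (g • w) * f w := by
    intro g f v
    have e1 : (Matrix.toLin' k * pr G N g) f v = ∑ w, k v w * f (g⁻¹ • w) := rfl
    rw [e1]
    refine (Fintype.sum_equiv (MulAction.toPerm g) _ _ fun w => ?_).symm
    rw [MulAction.toPerm_apply, inv_smul_smul]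
  constructor
  · intro h g v w
    have h1 := congrFun (LinearMap.congr_fun (h g) (Pi.single w 1)) (g • v)
    rw [key, key'] at h1
    simp only [inv_smul_smul, Pi.single_apply, mul_ite, mul_one, mul_zero, Finset.sum_ite_eq', Finset.mem_univ,
      if_true] at h1
    exact h1.symm
  · intro h g
    refine LinearMap.ext fun f => ?_
    ext v
    rw [key, key']
    refine Finset.sum_congr rfl fun w _ => ?_
    have := h g⁻¹ v (g • w)
    rw [inv_smul_smul] at this
    rw [this]

theorem KInv.smul {k : Matrix N N ℂ} (h : KInv G k) (a : ℂ) : KInv G (a • k) := fun g v w => by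
  rw [Matrix.smul_apply, Matrix.smul_apply, h]

theorem KInv.add {k l : Matrix N N ℂ} (h : KInv G k) (h' : KInv G l) : KInv G (k + l) := fun g v w => by
  rw [Matrix.add_apply, Matrix.add_apply, h, h']

theorem KInv.sub {k l : Matrix N N ℂ} (h : KInv G k) (h' : KInv G l) : KInv G (k - l) := fun g v w => by
  rw [Matrix.sub_apply, Matrix.sub_apply, h, h']

theorem KInv.mul {k l : Matrix N N ℂ} (h : KInv G k) (h' : KInv G l) : KInv G (k * l) := fun g v w => by
  rw [Matrix.mul_apply, Matrix.mul_apply]
  refine (Fintype.sum_equiv (MulAction.toPerm g) _ _ fun u => ?_).symm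
  rw [MulAction.toPerm_apply, h, h']

/-- **one constituent** -/
theorem exists_one [Finite G] {E T : Matrix N N ℂ} (hE : KInv G E) (hT : KInv G T) (hEE : E * E = E) (hET : E * T = T)
    (hTE : T * E = T) {lam mu : ℂ} (hTT : T * T = (lam + mu) • T - (lam * mu) • E) (hne : lam ≠ mu)
    (hcom : ∀ k : Matrix N N ℂ, KInv G k → E * k = k → k * E = k → ∃ a b : ℂ, k = a • E + b • T)
    (h0 : Matrix.trace T - mu * Matrix.trace E ≠ 0) :
    ∃ χ : G → ℂ, IsIrrCharacter G χ ∧ (lam - mu) * χ 1 = Matrix.trace T - mu * Matrix.trace E ∧
      ∀ (z : G) (c : ℂ), pr G N z * Matrix.toLin' E = c • Matrix.toLin' E → χ z = c * χ 1 := by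
  have hlm : lam - mu ≠ 0 := sub_ne_zero.2 hne
  obtain ⟨P, hP⟩ : ∃ P, P = (lam - mu)⁻¹ • (T - mu • E) := ⟨_, rfl⟩
  have hPE : P * E = P := by rw [hP, Matrix.smul_mul, Matrix.sub_mul, Matrix.smul_mul, hTE, hEE]
  have hEP : E * P = P := by rw [hP, Matrix.mul_smul, Matrix.mul_sub, Matrix.mul_smul, hET, hEE]
  have hTT' : T * T - mu • T = lam • (T - mu • E) := by
    rw [hTT]
    module
  have hPT : P * T = lam • P := by
    rw [hP, Matrix.smul_mul, Matrix.sub_mul, Matrix.smul_mul, hET, hTT', smul_comm]
  have hPP : P * P = P := by
    have e1 : P * P = (lam - mu)⁻¹ • (P * T - mu • (P * E)) := by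
      conv_lhs => rw [hP]
      rw [Matrix.mul_smul, ← hP, Matrix.mul_sub, Matrix.mul_smul]
    rw [e1, hPT, hPE, ← sub_smul, smul_smul, inv_mul_cancel₀ hlm, one_smul]
  have hPi : KInv G P := by
    rw [hP]
    exact (hT.sub (hE.smul mu)).smul _
  have htr : (lam - mu) * Matrix.trace P = Matrix.trace T - mu * Matrix.trace E := by
    rw [hP, Matrix.trace_smul, Matrix.trace_sub, Matrix.trace_smul, smul_eq_mul, smul_eq_mul, ← mul_assoc,
      mul_inv_cancel₀ hlm, one_mul]
  have hP0 : P ≠ 0 := by
    intro h
    rw [h, Matrix.trace_zero, mul_zero] at htr
    exact h0 htr.symm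
  have hirr := isIrr_idem (pr G N) (Matrix.toLin' P) (by
      change Matrix.toLin' P ∘ₗ Matrix.toLin' P = Matrix.toLin' P
      rw [← Matrix.toLin'_mul, hPP])
    ((comm_iff P).2 hPi) (by
      intro h
      exact hP0 ((LinearEquiv.map_eq_zero_iff _).1 h)) (fun k hk1 hk2 hk3 => by
      obtain ⟨k, rfl⟩ := Matrix.toLin'.surjective k
      rw [comm_iff] at hk1
      have e2 : P * k = k := Matrix.toLin'.injective (by rw [Matrix.toLin'_mul]; exact hk2)
      have e3 : k * P = k := Matrix.toLin'.injective (by rw [Matrix.toLin'_mul]; exact hk3)
      obtain ⟨a, b, hab⟩ := hcom k hk1 (by rw [← e2, ← Matrix.mul_assoc, hEP]) (by rw [← e3, Matrix.mul_assoc, hPE])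
      refine ⟨a + b * lam, ?_⟩
      rw [← map_smul]
      congr 1
      conv_lhs => rw [← e2, hab, Matrix.mul_add, Matrix.mul_smul, Matrix.mul_smul, hPE, hPT]
      module)
  refine ⟨_, hirr, ?_, fun z c hz => ?_⟩
  · simp only [map_one, one_mul]
    rw [Matrix.trace_toLin'_eq]
    exact htr
  · have e1 : pr G N z * Matrix.toLin' P = c • Matrix.toLin' P := by
      rw [← hEP, Matrix.toLin'_mul]
      change pr G N z * (Matrix.toLin' E * Matrix.toLin' P) = c • (Matrix.toLin' E * Matrix.toLin' P)
      rw [← mul_assoc, hz, smul_mul_assoc]
    simp only [map_one, one_mul]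
    rw [e1, map_smul, smul_eq_mul]

end perm

end Cfsg.Agent.H539.Eight
end

-- part: H539/Eight/Cnt
section
prune_inst 0x80000000000000c010000
set_option linter.all false
open scoped Cfsg.Agent.FastGrp

/-!
# The exact number of totally singular subspaces (helper539)

`card_Om_rec` : `|Om_(k+1)(F)| (q^(k+1) - 1) = |{v ≠ 0 singular}| |Om_k(F')|` for a hyperbolic pair with complement `F'`;
`dg_rec`, `dg_one` : the degrees `dg F k`; `dg_odd`, `dg_plus`, `dg_minus` : exact values.
-/

set_option autoImplicit false

open Cfsg

namespace Cfsg.Agent.H539.Eight

open Module Cfsg.Agent.H477.HC Cfsg.Agent.H477.HC.CForm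

universe u v w

section

variable {K : Type u} [Field K] {V : Type v} [AddCommGroup V] [Module K V] {F : CForm K V}
  {X : Type w} [AddCommGroup X] [Module K X] {F' : CForm K X} {e f : V} {j : X →ₗ[K] V}

/-- the subspace `⟨e⟩ + j(W')` -/
def up (e : V) (j : X →ₗ[K] V) (W : Submodule K X) : Submodule K V := Submodule.span K {e} ⊔ W.map j

theorem mem_up {W : Submodule K X} {v : V} : v ∈ up e j W ↔ ∃ c : K, ∃ x ∈ W, v = c • e + j x := by
  unfold up
  rw [Submodule.mem_sup]
  constructor
  · rintro ⟨a, ha, b, hb, rfl⟩
    obtain ⟨c, rfl⟩ := Submodule.mem_span_singleton.1 ha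
    obtain ⟨x, hx, rfl⟩ := hb
    exact ⟨c, x, hx, rfl⟩
  · rintro ⟨c, x, hx, rfl⟩
    exact ⟨_, Submodule.smul_mem _ _ (Submodule.mem_span_singleton_self e), _, ⟨x, hx, rfl⟩, rfl⟩

theorem finrank_up [FiniteDimensional K V] (h : Hyp F F' e f j) (W : Submodule K X) :
    finrank K (up e j W) = finrank K W + 1 := by
  have h1 := Submodule.finrank_sup_add_finrank_inf_eq (Submodule.span K {e}) (W.map j)
  have h2 : Submodule.span K {e} ⊓ W.map j = ⊥ := by
    rw [eq_bot_iff]
    rintro _ ⟨h3, x, hx, rfl⟩
    obtain ⟨c, hc⟩ := Submodule.mem_span_singleton.1 h3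
    have h4 := h.hjf x
    rw [← hc, F.B_smul_left, h.hef, mul_one] at h4
    rw [← hc, h4, zero_smul]
    exact Submodule.zero_mem _
  have h3 : finrank K (W.map j) = finrank K W :=
    (Submodule.equivMapOfInjective j h.inj W).finrank_eq.symm
  rw [h2, finrank_bot, finrank_span_singleton h.e0, h3] at h1
  unfold up
  omega

theorem comap_up (h : Hyp F F' e f j) (W : Submodule K X) : (up e j W).comap j = W := by
  apply le_antisymm
  · intro x hx
    obtain ⟨c, y, hy, h1⟩ := mem_up.1 hx
    have h2 := h.hjf x
    rw [h1, F.B_add_left, F.B_smul_left, h.hef, h.hjf, mul_one, add_zero] at h2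
    rw [h2, zero_smul, zero_add] at h1
    rw [h.inj h1]
    exact hy
  · intro x hx
    exact mem_up.2 ⟨0, x, hx, by rw [zero_smul, zero_add]⟩

theorem up_comap (h : Hyp F F' e f j) {W : Submodule K V} (hW : F.TS W) (he : e ∈ W) : up e j (W.comap j) = W := by
  apply le_antisymm
  · intro v hv
    obtain ⟨c, x, hx, rfl⟩ := mem_up.1 hv
    exact W.add_mem (W.smul_mem c he) hx
  · intro v hv
    obtain ⟨x, hx⟩ := h.dec_e (hW.2 v hv e he)
    refine mem_up.2 ⟨_, x, ?_, hx⟩
    have h1 : j x = v - F.B v f • e := by rw [eq_sub_iff_add_eq, add_comm]; exact hx.symm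
    change j x ∈ W
    rw [h1]
    exact W.sub_mem hv (W.smul_mem _ he)

theorem TS_up (h : Hyp F F' e f j) {W : Submodule K X} (hW : F'.TS W) : F.TS (up e j W) := by
  have hs : ∀ v ∈ up e j W, F.Sing v := by
    intro v hv
    obtain ⟨c, x, hx, rfl⟩ := mem_up.1 hv
    exact h.sing_ej.2 (hW.sing hx)
  refine ⟨fun v hv => (hs v hv).1, fun v hv v' hv' => ?_⟩
  obtain ⟨c, x, hx, rfl⟩ := mem_up.1 hv
  obtain ⟨c', x', hx', rfl⟩ := mem_up.1 hv'
  have h1 := F.B_eq_zero (h.hje x')
  rw [F.B_add_left, F.B_add_right, F.B_add_right, F.B_smul_left, F.B_smul_left, F.B_smul_right, F.B_smul_right, h.he.2,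
    h1, h.hje, h.hjB, hW.2 x hx x' hx']
  ring

theorem TS_comap (h : Hyp F F' e f j) {W : Submodule K V} (hW : F.TS W) : F'.TS (W.comap j) :=
  ⟨fun x hx => by rw [← h.hjQ]; exact hW.1 _ hx, fun x hx y hy => by rw [← h.hjB]; exact hW.2 _ hx _ hy⟩

/-- the totally singular subspaces containing `e` -/
theorem card_containing [FiniteDimensional K V] (h : Hyp F F' e f j) (k : ℕ) :
    Nat.card {W : F.Om (k + 1) // e ∈ (W : Submodule K V)} = Nat.card (F'.Om k) := by
  refine Nat.card_congr
    { toFun := fun W => ⟨W.1.1.comap j, TS_comap h W.1.2.1, ?_⟩
      invFun := fun W => ⟨⟨up e j W.1, TS_up h W.2.1, ?_⟩, mem_up.2 ⟨1, 0, W.1.zero_mem, by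
        rw [one_smul, map_zero, add_zero]⟩⟩
      left_inv := fun W => Subtype.ext (Subtype.ext (up_comap h W.1.2.1 W.2))
      right_inv := fun W => Subtype.ext (comap_up h W.1) }
  · have h1 := finrank_up h (W.1.1.comap j)
    rw [up_comap h W.1.2.1 W.2, W.1.2.2] at h1
    omega
  · rw [finrank_up h, W.2.2]

theorem card_mem_le [Finite V] (g : F.iso) (v : V) (k : ℕ) :
    Nat.card {W : F.Om k // v ∈ (W : Submodule K V)} ≤
      Nat.card {W : F.Om k // (g : V ≃ₗ[K] V) v ∈ (W : Submodule K V)} := by
  have := finite_Om F k
  refine Nat.card_le_card_of_injective (fun W => ⟨⟨W.1.1.map (F.iso.subtype g : V →ₗ[K] V), F.Om_map g _ W.1.2⟩,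
    ⟨v, W.2, rfl⟩⟩) ?_
  intro W W' hW
  apply Subtype.ext
  apply Subtype.ext
  have h1 : W.1.1.map (F.iso.subtype g : V →ₗ[K] V) = W'.1.1.map (F.iso.subtype g : V →ₗ[K] V) :=
    congrArg (fun W => (W.1.1 : Submodule K V)) hW
  exact Submodule.map_injective_of_injective (LinearEquiv.injective (F.iso.subtype g)) h1

theorem card_mem_smul (v : V) {c : K} (hc : c ≠ 0) (k : ℕ) :
    Nat.card {W : F.Om k // c • v ∈ (W : Submodule K V)} = Nat.card {W : F.Om k // v ∈ (W : Submodule K V)} := by
  refine Nat.card_congr (Equiv.subtypeEquivRight fun W => ?_)
  exact Submodule.smul_mem_iff _ hc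

theorem card_mem [FiniteDimensional K V] [Finite V] {v w : V} (hv0 : v ≠ 0) (hv : F.Sing v) (hw0 : w ≠ 0) (hw : F.Sing w)
    (k : ℕ) : Nat.card {W : F.Om k // v ∈ (W : Submodule K V)} = Nat.card {W : F.Om k // w ∈ (W : Submodule K V)} := by
  have key : ∀ {v w : V} (hv0 : v ≠ 0) (hv : F.Sing v) (hw0 : w ≠ 0) (hw : F.Sing w),
      Nat.card {W : F.Om k // v ∈ (W : Submodule K V)} ≤ Nat.card {W : F.Om k // w ∈ (W : Submodule K V)} := by
    intro v w hv0 hv hw0 hw
    obtain ⟨g, hg⟩ := F.trans_Om (F.pt v hv0 hv).2 (F.pt w hw0 hw).2
    have hg' : g • F.pt v hv0 hv = F.pt w hw0 hw := Subtype.ext hg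
    rw [F.smul_pt, F.pt_eq_iff] at hg'
    obtain ⟨c, hc, hc'⟩ := hg'
    refine (card_mem_le g v k).trans (le_of_eq ?_)
    rw [hc', card_mem_smul w hc]
  exact le_antisymm (key hv0 hv hw0 hw) (key hw0 hw hv0 hv)

/-- **double counting** -/
theorem card_Om_rec [FiniteDimensional K V] [Finite K] [Finite V] (h : Hyp F F' e f j) (k : ℕ) :
    Nat.card (F.Om (k + 1)) * (Nat.card K ^ (k + 1) - 1) =
      Nat.card {v : V // v ≠ 0 ∧ F.Sing v} * Nat.card (F'.Om k) := by
  classical
  have hfin := finite_Om F (k + 1)
  have := Fintype.ofFinite (F.Om (k + 1))
  have := Fintype.ofFinite {v : V // v ≠ 0 ∧ F.Sing v}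
  have h1 : Nat.card (Σ W : F.Om (k + 1), {v : V // v ≠ 0 ∧ v ∈ (W : Submodule K V)}) =
      Nat.card (Σ v : {v : V // v ≠ 0 ∧ F.Sing v}, {W : F.Om (k + 1) // (v : V) ∈ (W : Submodule K V)}) :=
    Nat.card_congr
      { toFun := fun p => ⟨⟨p.2.1, p.2.2.1, p.1.2.1.sing p.2.2.2⟩, ⟨p.1, p.2.2.2⟩⟩
        invFun := fun p => ⟨p.2.1, ⟨p.1.1, p.1.2.1, p.2.2⟩⟩
        left_inv := fun p => rfl
        right_inv := fun p => rfl }
  rw [Nat.card_sigma, Nat.card_sigma] at h1
  have h2 : ∀ W : F.Om (k + 1), Nat.card {v : V // v ≠ 0 ∧ v ∈ (W : Submodule K V)} = Nat.card K ^ (k + 1) - 1 := by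
    intro W
    have h3 := card_ne_zero (V := V) (fun v => v ∈ (W : Submodule K V)) (Submodule.zero_mem _)
    have h4 : Nat.card {v : V // v ∈ (W : Submodule K V)} = Nat.card K ^ (k + 1) := by
      have := Module.natCard_eq_pow_finrank (K := K) (V := (W : Submodule K V))
      rw [W.2.2] at this
      exact this
    omega
  have h3 : ∀ v : {v : V // v ≠ 0 ∧ F.Sing v}, Nat.card {W : F.Om (k + 1) // (v : V) ∈ (W : Submodule K V)} =
      Nat.card (F'.Om k) := by
    intro v
    rw [← card_containing h k]
    exact card_mem v.2.1 v.2.2 h.e0 h.he _
  rw [Finset.sum_congr rfl fun W _ => h2 W, Finset.sum_congr rfl fun v _ => h3 v, Finset.sum_const, Finset.sum_const,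
    Finset.card_univ, Finset.card_univ, smul_eq_mul, smul_eq_mul, ← Nat.card_eq_fintype_card,
    ← Nat.card_eq_fintype_card] at h1
  exact h1

theorem card_Om_zero [FiniteDimensional K V] (F : CForm K V) : Nat.card (F.Om 0) = 1 := by
  rw [Nat.card_eq_one_iff_exists]
  refine ⟨⟨⊥, ⟨fun w hw => ?_, fun w hw w' hw' => ?_⟩, finrank_bot K V⟩, ?_⟩
  · rw [(Submodule.mem_bot K).1 hw, F.Q_zero]
  · rw [(Submodule.mem_bot K).1 hw, F.B_zero_left]
  · rintro ⟨W, hW, hW0⟩
    exact Subtype.ext (Submodule.finrank_eq_zero.1 hW0)

theorem dg_rec [FiniteDimensional K V] [Finite K] [Finite V] (h : Hyp F F' e f j) {k : ℕ} (hk : 0 < k) :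
    dg F (k + 1) * (Nat.card K ^ (k + 1) - 1) =
      Nat.card {v : V // v ≠ 0 ∧ F.Sing v} * (dg F' k * (Nat.card K ^ k - 1)) := by
  have h1 := card_Om_rec h k
  unfold dg
  rw [Finset.prod_Ico_succ_top (by omega)]
  calc Nat.card (F.Om (k + 1)) * ((∏ i ∈ Finset.Ico 1 k, (Nat.card K ^ i - 1)) * (Nat.card K ^ k - 1)) *
        (Nat.card K ^ (k + 1) - 1) = (Nat.card (F.Om (k + 1)) * (Nat.card K ^ (k + 1) - 1)) *
          ((∏ i ∈ Finset.Ico 1 k, (Nat.card K ^ i - 1)) * (Nat.card K ^ k - 1)) := by ring
    _ = _ := by rw [h1]; ring

theorem dg_one [FiniteDimensional K V] [FiniteDimensional K X] [Finite K] [Finite V] (h : Hyp F F' e f j) :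
    dg F 1 * (Nat.card K ^ 1 - 1) = Nat.card {v : V // v ≠ 0 ∧ F.Sing v} := by
  have h1 := card_Om_rec h 0
  rw [card_Om_zero, mul_one] at h1
  unfold dg
  rw [Finset.Ico_self, Finset.prod_empty, mul_one]
  exact h1

end

section models

variable (K : Type u) [Field K] [Finite K]

omit [Finite K] in
theorem card_ne_sing {V : Type v} [AddCommGroup V] [Module K V] [Finite V] (F : CForm K V) :
    Nat.card {v : V // v ≠ 0 ∧ F.Sing v} + 1 = Nat.card {v : V // F.Q v = 0} := by
  rw [card_ne_zero (V := V) (fun v => F.Sing v) sing_zero, card_Sing_quad]

theorem card_ns_odd (h2 : (2 : K) ≠ 0) (ho : Odd (Nat.card K)) (m : ℕ) :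
    Nat.card {v : Unit ⊕ (Fin m ⊕ Fin m) → K // v ≠ 0 ∧ (oddF K m h2).Sing v} = Nat.card K ^ (2 * m) - 1 := by
  let _ := Fintype.ofFinite K
  have h1 := card_ne_sing K (oddF K m h2)
  have h3 : Nat.card {v : Unit ⊕ (Fin m ⊕ Fin m) → K // (oddF K m h2).Q v = 0} = Nat.card K ^ (2 * m) :=
    S0291.result Nat.card_eq_fintype_card.symm ho m
  omega

theorem card_ns_plus {m : ℕ} (hm : 1 ≤ m) :
    Nat.card {v : Fin m ⊕ Fin m → K // v ≠ 0 ∧ (plusF K m).Sing v} =
      (Nat.card K ^ m - 1) * (Nat.card K ^ (m - 1) + 1) := by
  let _ := Fintype.ofFinite K
  have h1 := card_ne_sing K (plusF K m)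
  have h3 : Nat.card {v : Fin m ⊕ Fin m → K // (plusF K m).Q v = 0} =
      Nat.card K ^ (2 * m - 1) + Nat.card K ^ m - Nat.card K ^ (m - 1) :=
    S0289.result Nat.card_eq_fintype_card.symm m hm
  obtain ⟨n, rfl⟩ : ∃ n, m = n + 1 := ⟨m - 1, by omega⟩
  rw [Nat.add_sub_cancel, num_plus Finite.one_lt_card n] at h3
  rw [Nat.add_sub_cancel]
  omega

theorem dg_odd (h2 : (2 : K) ≠ 0) (ho : Odd (Nat.card K)) {k : ℕ} (hk : 1 ≤ k) (n : ℕ) :
    dg (oddF K (k + n) h2) k * (Nat.card K ^ k - 1) = ∏ i ∈ Finset.Ico n (k + n), (Nat.card K ^ (2 * (i + 1)) - 1) := by
  induction k, hk using Nat.le_induction with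
  | base =>
    obtain ⟨e, f, j, h⟩ := frm_odd (K := K) h2 (show 1 + n = 1 + n from rfl)
    rw [dg_one h.hyp, card_ns_odd K h2 ho, add_comm 1 n, Nat.Ico_succ_singleton, Finset.prod_singleton]
  | succ k hk ih =>
    obtain ⟨e, f, j, h⟩ := frm_odd (K := K) h2 (show 1 + (k + n) = k + 1 + n by omega)
    rw [dg_rec h.hyp hk, card_ns_odd K h2 ho, ih, show k + 1 + n = k + n + 1 by omega,
      Finset.prod_Ico_succ_top (by omega), mul_comm]

theorem dg_plus {k : ℕ} (hk : 1 ≤ k) (n : ℕ) :
    dg (plusF K (k + n)) k * (Nat.card K ^ k - 1) =
      ∏ i ∈ Finset.Ico n (k + n), ((Nat.card K ^ (i + 1) - 1) * (Nat.card K ^ i + 1)) := by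
  induction k, hk using Nat.le_induction with
  | base =>
    obtain ⟨e, f, j, h⟩ := frm_plus (K := K) (show 1 + n = 1 + n from rfl)
    rw [dg_one h.hyp, card_ns_plus K (by omega), add_comm 1 n, Nat.Ico_succ_singleton, Finset.prod_singleton,
      Nat.add_sub_cancel]
  | succ k hk ih =>
    obtain ⟨e, f, j, h⟩ := frm_plus (K := K) (show 1 + (k + n) = k + 1 + n by omega)
    rw [dg_rec h.hyp hk, card_ns_plus K (by omega), ih, show k + 1 + n = k + n + 1 by omega,
      Finset.prod_Ico_succ_top (by omega), mul_comm, Nat.add_sub_cancel]

end models

end Cfsg.Agent.H539.Eight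
end

-- part: H539/Eight/Sgn
section
prune_inst 0x120344448c000000018000060001e4292000092004880006800044604c808622000a821a0b0011290b20c540031004811100100420800000a0008000118008000000400c1c90000020000000000400000000000000000000000800000000000008000000
set_option linter.all false
open scoped Cfsg.Agent.FastGrp

/-!
# The constituents of the quadratic character induced from a point stabiliser (helper539)

`F : CForm K V` a quadratic form in odd characteristic. The functions `f` on the nonzero singular vectors with
`f(cv) = η(c) f(v)`, `η` the quadratic character, form a module for `F.iso` with commutant of dimension `2`.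

`exists_sgn` : if `λ + μ = ∑ x, η(-Q'(x))`, `λ μ = -|X|`, `λ ≠ μ` then there is an irreducible character `χ` with
`(λ - μ) χ(1) (q - 1) = -μ |N|`.
-/

set_option autoImplicit false
set_option linter.unusedSectionVars false

open scoped ComplexConjugate
open Cfsg

namespace Cfsg.Agent.H539.Eight

open Cfsg.Agent.Characters Module Cfsg.Agent.H477.HC Cfsg.Agent.H477.HC.CForm

universe u v w

section trans

variable {K : Type u} [Field K] {V : Type v} [AddCommGroup V] [Module K V] (F : CForm K V)

/-- transitive on the singular vectors -/
theorem trans_vec [FiniteDimensional K V] {v w : V} (hv0 : v ≠ 0) (hv : F.Sing v) (hw0 : w ≠ 0) (hw : F.Sing w) :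
    ∃ g : F.iso, (g : V ≃ₗ[K] V) v = w := by
  obtain ⟨g, hg⟩ := F.trans_Om (F.pt v hv0 hv).2 (F.pt w hw0 hw).2
  have hg' : g • F.pt v hv0 hv = F.pt w hw0 hw := Subtype.ext hg
  rw [F.smul_pt, F.pt_eq_iff] at hg'
  obtain ⟨c, hc, hc'⟩ := hg'
  obtain ⟨k, hk⟩ := F.exists_levi' (F.TS_span_singleton hw)
    (LinearEquiv.smulOfNeZero K (Submodule.span K {w}) c⁻¹ (inv_ne_zero hc))
  refine ⟨k * g, ?_⟩
  change (k : V ≃ₗ[K] V) ((g : V ≃ₗ[K] V) v) = w
  rw [hc', hk ⟨c • w, Submodule.smul_mem _ _ (Submodule.mem_span_singleton_self w)⟩]
  change c⁻¹ • (c • w) = w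
  rw [smul_smul, inv_mul_cancel₀ hc, one_smul]

/-- transitive on the hyperbolic pairs -/
theorem trans_pair [FiniteDimensional K V] {e f v w : V} (he0 : e ≠ 0) (he : F.Sing e) (hf : F.Sing f) (hef : F.B e f = 1)
    (hv0 : v ≠ 0) (hv : F.Sing v) (hw : F.Sing w) (hvw : F.B v w = 1) :
    ∃ g : F.iso, (g : V ≃ₗ[K] V) e = v ∧ (g : V ≃ₗ[K] V) f = w := by
  obtain ⟨g, hg⟩ := trans_vec F he0 he hv0 hv
  have h1 : (g : V ≃ₗ[K] V) (((g⁻¹ : F.iso) : V ≃ₗ[K] V) w) = w := (g : V ≃ₗ[K] V).apply_symm_apply w
  have h2 : F.B e (((g⁻¹ : F.iso) : V ≃ₗ[K] V) w) = 1 := by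
    rw [← F.iso_B g, h1, hg, hvw]
  obtain ⟨k, hk1, hk2⟩ := F.trans_hyp he hf (F.sing_map g⁻¹ hw) hef h2
  refine ⟨g * k, ?_, ?_⟩
  · change (g : V ≃ₗ[K] V) ((k : V ≃ₗ[K] V) e) = v
    rw [hk1, hg]
  · change (g : V ≃ₗ[K] V) ((k : V ≃ₗ[K] V) f) = w
    rw [hk2, h1]

/-- scaling the second vector -/
theorem trans_scale [FiniteDimensional K V] {v w : V} (hv0 : v ≠ 0) (hv : F.Sing v) (hw0 : w ≠ 0) (hw : F.Sing w)
    (hvw : F.B v w = 0) (hne : ∀ c : K, w ≠ c • v) (c : Kˣ) :
    ∃ g : F.iso, (g : V ≃ₗ[K] V) v = v ∧ (g : V ≃ₗ[K] V) w = (c : K) • w := by
  classical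
  have hwv := F.B_eq_zero hvw
  have hli : LinearIndependent K ![v, w] := by
    rw [LinearIndependent.pair_iff' hv0]
    exact fun a ha => hne a ha.symm
  have hTS : F.TS (Submodule.span K (Set.range ![v, w])) := by
    refine F.TS_span (fun i j => ?_) (fun i => ?_)
    · fin_cases i <;> fin_cases j
      · exact hv.2
      · exact hvw
      · exact hwv
      · exact hw.2
    · fin_cases i
      · exact hv.1
      · exact hw.1
  let b1 : Basis (Fin 2) K (Submodule.span K (Set.range ![v, w])) := Basis.span hli
  have hb1 : ∀ i, ((b1 i : Submodule.span K (Set.range ![v, w])) : V) = ![v, w] i := fun i => by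
    change ((Basis.span hli) i : V) = _
    rw [Basis.span_apply]
  obtain ⟨g, hg⟩ := F.exists_levi' hTS (b1.equiv (b1.unitsSMul ![1, c]) (Equiv.refl _))
  have hg' : ∀ i, (g : V ≃ₗ[K] V) (![v, w] i) = (((![1, c] : Fin 2 → Kˣ) i : Kˣ) : K) • (![v, w] i) := by
    intro i
    rw [← hb1, hg, Basis.equiv_apply, Equiv.refl_apply, Basis.unitsSMul_apply]
    rfl
  refine ⟨g, ?_, hg' 1⟩
  have := hg' 0
  simp only [Matrix.cons_val_zero, Units.val_one, one_smul] at this
  exact this

end trans

/-! ### the quadratic character -/

section qc

variable {K : Type u} [Field K] [Fintype K] [DecidableEq K]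

/-- the quadratic character with complex values -/
noncomputable def qc (x : K) : ℂ := ((quadraticChar K x : ℤ) : ℂ)

theorem qc_mul (x y : K) : qc (x * y) = qc x * qc y := by
  unfold qc
  rw [map_mul, Int.cast_mul]

theorem qc_zero : qc (0 : K) = 0 := by
  unfold qc
  rw [quadraticChar_zero, Int.cast_zero]

theorem qc_one : qc (1 : K) = 1 := by
  unfold qc
  rw [map_one, Int.cast_one]

theorem qc_sq {x : K} (hx : x ≠ 0) : qc x * qc x = 1 := by
  have h := quadraticChar_sq_one hx
  unfold qc
  rw [← Int.cast_mul, ← pow_two, h, Int.cast_one]

theorem qc_ne {x : K} (hx : x ≠ 0) : qc x ≠ 0 := fun h => by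
  have := qc_sq hx
  rw [h, mul_zero] at this
  exact zero_ne_one this

theorem qc_inv {x : K} (hx : x ≠ 0) : qc x⁻¹ = qc x := by
  have h1 : qc x * qc x⁻¹ = 1 := by rw [← qc_mul, mul_inv_cancel₀ hx, qc_one]
  have h2 := qc_sq hx
  exact mul_left_cancel₀ (qc_ne hx) (h1.trans h2.symm)

theorem rc_ne (h2 : (2 : K) ≠ 0) : ringChar K ≠ 2 := fun h => h2 (by
  have h1 := ringChar.Nat.cast_ringChar (R := K)
  rw [h] at h1
  exact_mod_cast h1)

theorem qc_sum (h2 : (2 : K) ≠ 0) : ∑ x : K, qc x = 0 := by
  have h := quadraticChar_sum_zero (F := K) (rc_ne h2)
  unfold qc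
  rw [← Int.cast_sum, h, Int.cast_zero]

theorem exists_qc_neg (h2 : (2 : K) ≠ 0) : ∃ c : Kˣ, qc (c : K) = -1 := by
  obtain ⟨a, ha⟩ := quadraticChar_exists_neg_one (F := K) (rc_ne h2)
  have ha0 : a ≠ 0 := by
    rintro rfl
    rw [quadraticChar_zero] at ha
    exact absurd ha (by norm_num)
  refine ⟨Units.mk0 a ha0, ?_⟩
  unfold qc
  rw [Units.val_mk0, ha]
  norm_num

theorem qc_neg_one_sq : qc (-1 : K) * qc (-1 : K) = 1 := by
  rw [← qc_mul]
  norm_num [qc_one]

end qc

/-! ### the character sums -/

section hyp

variable {K : Type u} [Field K] {V : Type v} [AddCommGroup V] [Module K V] {F : CForm K V}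
  {X : Type w} [AddCommGroup X] [Module K X] {F' : CForm K X} {e f : V} {j : X →ₗ[K] V}

/-- the form is quadratic -/
structure IsQ (F : CForm K V) : Prop where
  hσ : ∀ x, F.σ x = x
  hε : F.ε = 1
  hT : ∀ x, F.T x = x

theorem IsQ.symm (h : IsQ F) (u v : V) : F.B u v = F.B v u := by
  rw [F.B_symm, h.hε, h.hσ, one_mul]

theorem Q_par (h : Hyp F F' e f j) (hQ : IsQ F) (a b : K) (x : X) : F.Q (a • e + b • f + j x) = a * b + F'.Q x := by
  have h1 := F.B_eq_zero (h.hje x)
  have h3 := F.B_eq_zero (h.hjf x)
  rw [F.Q_add, F.Q_add, F.Q_smul, F.Q_smul, h.he.1, h.hf.1, hQ.hT, hQ.hT, F.B_add_left, F.B_smul_left,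
    F.B_smul_right, F.B_smul_left, F.B_smul_left, h1, h3, h.hef, hQ.hσ, hQ.hσ, h.hjQ]
  ring

theorem B_e_par (h : Hyp F F' e f j) (hQ : IsQ F) (a b : K) (x : X) : F.B e (a • e + b • f + j x) = b := by
  rw [F.B_add_right, F.B_add_right, F.B_smul_right, F.B_smul_right, h.he.2, h.hef, F.B_eq_zero (h.hje x), hQ.hσ, hQ.hσ]
  ring

theorem B_par_f (h : Hyp F F' e f j) (a b : K) (x : X) : F.B (a • e + b • f + j x) f = a := by
  rw [F.B_add_left, F.B_add_left, F.B_smul_left, F.B_smul_left, h.hf.2, h.hef, h.hjf]
  ring

theorem par_inj (h : Hyp F F' e f j) (hQ : IsQ F) {a b a' b' : K} {x x' : X}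
    (he : a • e + b • f + j x = a' • e + b' • f + j x') : a = a' ∧ b = b' ∧ x = x' := by
  have h1 := B_e_par h hQ a b x
  have h3 := B_par_f h a b x
  rw [he, B_e_par h hQ] at h1
  rw [he, B_par_f h] at h3
  subst h1 h3
  exact ⟨rfl, rfl, h.inj (add_left_cancel he)⟩

theorem exists_par (h : Hyp F F' e f j) (hQ : IsQ F) (v : V) : ∃ x, v = F.B v f • e + F.B v e • f + j x := by
  obtain ⟨x, hx⟩ := h.dec (v - F.B v f • e - F.B v e • f)
    (by
      rw [F.B_sub_left, F.B_sub_left, F.B_smul_left, F.B_smul_left, h.he.2, h.hfe, hQ.hε]
      ring)
    (by
      rw [F.B_sub_left, F.B_sub_left, F.B_smul_left, F.B_smul_left, h.hf.2, h.hef]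
      ring)
  exact ⟨x, by rw [← hx]; abel⟩

variable [Fintype K] [DecidableEq K]

/-- the character sum -/
noncomputable def qsum [Fintype X] (F' : CForm K X) : ℂ := ∑ x : X, qc (-F'.Q x)

/-- recursion for the character sum -/
theorem qsum_rec [Fintype V] [Fintype X] (h2 : (2 : K) ≠ 0) (h : Hyp F F' e f j) (hQ : IsQ F) :
    qsum F = (Fintype.card K : ℂ) * qsum F' := by
  have h1 : qsum F = ∑ p : X × K × K, qc (-(p.2.1 * p.2.2 + F'.Q p.1)) := by
    unfold qsum
    symm
    refine Fintype.sum_bijective (fun p : X × K × K => p.2.1 • e + p.2.2 • f + j p.1) ⟨?_, ?_⟩ _ _ fun p => ?_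
    · rintro ⟨x, a, b⟩ ⟨x', a', b'⟩ hp
      obtain ⟨h3, h4, h5⟩ := par_inj h hQ hp
      exact Prod.ext h5 (Prod.ext h3 h4)
    · intro v
      obtain ⟨x, hx⟩ := exists_par h hQ v
      exact ⟨(x, F.B v f, F.B v e), hx.symm⟩
    · rw [Q_par h hQ]
  have h3 : ∀ r : K, ∑ a : K, ∑ b : K, qc (-(a * b + r)) = (Fintype.card K : ℂ) * qc (-r) := by
    intro r
    rw [Finset.sum_eq_single (0 : K)]
    · simp [nsmul_eq_mul]
    · intro a _ ha
      rw [← qc_sum h2]
      refine Fintype.sum_bijective (fun b => -(a * b + r)) ⟨?_, ?_⟩ _ _ fun b => rfl
      · intro b b' hb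
        exact mul_left_cancel₀ ha (add_right_cancel (neg_injective hb))
      · intro s
        refine ⟨a⁻¹ * (-s - r), ?_⟩
        change -(a * (a⁻¹ * (-s - r)) + r) = s
        rw [← mul_assoc, mul_inv_cancel₀ ha]
        ring
    · intro h
      exact absurd (Finset.mem_univ _) h
  rw [h1, Fintype.sum_prod_type]
  simp only [Fintype.sum_prod_type]
  rw [Finset.sum_congr rfl fun x _ => h3 (F'.Q x), ← Finset.mul_sum]
  rfl

end hyp

/-! ### the kernels -/

section ker

variable {K : Type u} [Field K] {V : Type v} [AddCommGroup V] [Module K V] (F : CForm K V)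

/-- the nonzero singular vectors -/
abbrev NS : Type v := {v : V // v ≠ 0 ∧ F.Sing v}

variable {F}

theorem NS.ne (v : NS F) : (v : V) ≠ 0 := v.2.1

instance nsAct : MulAction F.iso (NS F) where
  smul g v := ⟨(g : V ≃ₗ[K] V) v, F.map_ne g v.2.1, F.sing_map g v.2.2⟩
  one_smul v := rfl
  mul_smul g h v := rfl

theorem ns_smul (g : F.iso) (v : NS F) : ((g • v : NS F) : V) = (g : V ≃ₗ[K] V) v := rfl

/-- scalars -/
instance nsUnits : MulAction Kˣ (NS F) where
  smul c v := ⟨(c : K) • (v : V), smul_ne_zero c.ne_zero v.2.1, F.sing_smul v.2.2 _⟩
  one_smul v := Subtype.ext (one_smul K (v : V))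
  mul_smul c d v := Subtype.ext (mul_smul (c : K) (d : K) (v : V))

theorem ns_units (c : Kˣ) (v : NS F) : ((c • v : NS F) : V) = (c : K) • (v : V) := rfl

theorem ns_comm (g : F.iso) (c : Kˣ) (v : NS F) : g • c • v = c • g • v :=
  Subtype.ext (map_smul (g : V ≃ₗ[K] V) (c : K) (v : V))

theorem ns_smul_eq (v : NS F) {c : Kˣ} (h : v = c • v) : c = 1 := by
  have h1 : (v : V) = (c : K) • (v : V) := congrArg Subtype.val h
  have h2 : ((c : K) - 1) • (v : V) = 0 := by rw [sub_smul, one_smul, ← h1, sub_self]
  rcases smul_eq_zero.1 h2 with h3 | h3
  · exact Units.ext (sub_eq_zero.1 h3)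
  · exact absurd h3 v.2.1

variable [Fintype K] [DecidableEq K] [Fintype (NS F)] [DecidableEq (NS F)]

/-- equivariant on the left -/
def LEq (k : Matrix (NS F) (NS F) ℂ) : Prop := ∀ (c : Kˣ) (v w : NS F), k (c • v) w = qc (c : K) * k v w

/-- equivariant on the right -/
def REq (k : Matrix (NS F) (NS F) ℂ) : Prop := ∀ (c : Kˣ) (v w : NS F), k v (c • w) = qc (c : K) * k v w

variable (F)

/-- the projection -/
noncomputable def kE : Matrix (NS F) (NS F) ℂ := fun v w =>
  (Fintype.card Kˣ : ℂ)⁻¹ * ∑ c : Kˣ, qc (c : K) * if w = c • v then 1 else 0

/-- the form -/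
noncomputable def kT : Matrix (NS F) (NS F) ℂ := fun v w => (Fintype.card Kˣ : ℂ)⁻¹ * qc (F.B v w)

variable {F}

theorem cardU_ne : (Fintype.card Kˣ : ℂ) ≠ 0 := Nat.cast_ne_zero.2 Fintype.card_ne_zero

theorem kE_mul (k : Matrix (NS F) (NS F) ℂ) (v w : NS F) :
    (kE F * k) v w = (Fintype.card Kˣ : ℂ)⁻¹ * ∑ c : Kˣ, qc (c : K) * k (c • v) w := by
  rw [Matrix.mul_apply]
  have h1 : ∀ u : NS F, kE F v u * k u w =
      (Fintype.card Kˣ : ℂ)⁻¹ * ∑ c : Kˣ, qc (c : K) * ((if u = c • v then 1 else 0) * k u w) := by
    intro u
    unfold kE
    rw [mul_assoc, Finset.sum_mul]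
    congr 1
    exact Finset.sum_congr rfl fun c _ => by ring
  rw [Finset.sum_congr rfl fun u _ => h1 u, ← Finset.mul_sum, Finset.sum_comm]
  congr 1
  refine Finset.sum_congr rfl fun c _ => ?_
  rw [← Finset.mul_sum]
  congr 1
  simp

theorem kE_mul_of {k : Matrix (NS F) (NS F) ℂ} (h : LEq k) : kE F * k = k := by
  ext v w
  rw [kE_mul, Finset.sum_congr rfl fun c _ => by rw [h c v w, ← mul_assoc, qc_sq c.ne_zero, one_mul], Finset.sum_const,
    Finset.card_univ, nsmul_eq_mul, ← mul_assoc, inv_mul_cancel₀ cardU_ne, one_mul]

theorem shift (g : NS F → ℂ) (d : Kˣ) (v : NS F) :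
    ∑ c : Kˣ, qc (c : K) * g (c • d • v) = qc (d : K) * ∑ c : Kˣ, qc (c : K) * g (c • v) := by
  rw [Finset.mul_sum]
  refine Fintype.sum_equiv (Equiv.mulRight d) _ _ fun c => ?_
  rw [Equiv.coe_mulRight, ← mul_smul, ← mul_assoc, Units.val_mul, qc_mul]
  congr 1
  rw [mul_left_comm, qc_sq d.ne_zero, mul_one]

theorem LEq_of {k : Matrix (NS F) (NS F) ℂ} (h : kE F * k = k) : LEq k := by
  intro d v w
  conv_lhs => rw [← h]
  conv_rhs => rw [← h]
  rw [kE_mul, kE_mul, shift (fun u => k u w) d v]
  ring

theorem kE_transpose : (kE F).transpose = kE F := by
  ext v w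
  change kE F w v = kE F v w
  unfold kE
  congr 1
  refine Fintype.sum_equiv (Equiv.inv Kˣ) _ _ fun c => ?_
  rw [Equiv.inv_apply, Units.val_inv_eq_inv_val, qc_inv c.ne_zero]
  have : v = c • w ↔ w = c⁻¹ • v := by
    constructor
    · rintro h; rw [h, inv_smul_smul]
    · rintro h; rw [h, smul_inv_smul]
  simp only [this]

theorem REq.transpose {k : Matrix (NS F) (NS F) ℂ} (h : REq k) : LEq k.transpose := fun c v w => h c w v

theorem mul_kE_of {k : Matrix (NS F) (NS F) ℂ} (h : REq k) : k * kE F = k := by
  have h1 := kE_mul_of h.transpose
  have h2 := congrArg Matrix.transpose h1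
  rwa [Matrix.transpose_mul, Matrix.transpose_transpose, kE_transpose] at h2

theorem REq_of {k : Matrix (NS F) (NS F) ℂ} (h : k * kE F = k) : REq k := by
  have h1 : kE F * k.transpose = k.transpose := by
    rw [← kE_transpose, ← Matrix.transpose_mul, h]
  intro c v w
  exact LEq_of h1 c w v

theorem LEq_kE : LEq (kE F) := by
  intro d v w
  unfold kE
  rw [shift (fun u => if w = u then 1 else 0) d v]
  ring

theorem kE_inv : KInv F.iso (kE F) := by
  intro g v w
  unfold kE
  congr 1
  refine Finset.sum_congr rfl fun c _ => ?_
  rw [← ns_comm]
  have : g • w = g • c • v ↔ w = c • v := ⟨fun h => MulAction.injective g h, fun h => by rw [h]⟩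
  simp only [this]

theorem kT_inv : KInv F.iso (kT F) := by
  intro g v w
  unfold kT
  rw [ns_smul, ns_smul, F.iso_B]

theorem kE_self (v : NS F) : kE F v v = (Fintype.card Kˣ : ℂ)⁻¹ := by
  unfold kE
  rw [Finset.sum_eq_single (1 : Kˣ)]
  · rw [one_smul, if_pos rfl, Units.val_one, qc_one, mul_one, mul_one]
  · intro c _ hc
    rw [if_neg fun h => hc (ns_smul_eq v h), mul_zero]
  · intro h
    exact absurd (Finset.mem_univ _) h

theorem kE_of_ne {v w : NS F} (h : F.B v w ≠ 0) : kE F v w = 0 := by
  unfold kE
  rw [Finset.sum_eq_zero, mul_zero]
  intro c _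
  rw [if_neg, mul_zero]
  rintro rfl
  rw [ns_units, F.B_smul_right, v.2.2.2, mul_zero] at h
  exact h rfl

theorem LEq_kT : LEq (kT F) := by
  intro c v w
  unfold kT
  rw [ns_units, F.B_smul_left, qc_mul]
  ring

theorem REq_kT (h : IsQ F) : REq (kT F) := by
  intro c v w
  unfold kT
  rw [ns_units, F.B_smul_right, h.hσ, qc_mul]
  ring

theorem REq_kE : REq (kE F) := REq_of (by
  rw [← kE_transpose, ← Matrix.transpose_mul, kE_mul_of LEq_kE])

theorem kT_self (v : NS F) : kT F v v = 0 := by
  unfold kT
  rw [v.2.2.2, qc_zero, mul_zero]

variable {X : Type w} [AddCommGroup X] [Module K X] {F' : CForm K X} {e f : V} {j : X →ₗ[K] V}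

/-- **the vanishing criterion** -/
theorem eq_zero_of [FiniteDimensional K V] (h2 : (2 : K) ≠ 0) (hQ : IsQ F) {v₀ w₀ : NS F} (h01 : F.B v₀ w₀ = 1)
    {k : Matrix (NS F) (NS F) ℂ} (hk : KInv F.iso k) (hl : LEq k) (hr : REq k) (h0 : k v₀ v₀ = 0) (h1 : k v₀ w₀ = 0) :
    k = 0 := by
  ext v w
  rw [Matrix.zero_apply]
  by_cases hvw : F.B v w = 0
  · by_cases hc : ∃ c : Kˣ, w = c • v
    · obtain ⟨c, rfl⟩ := hc
      rw [hr]
      obtain ⟨g, hg⟩ := trans_vec F v₀.2.1 v₀.2.2 v.2.1 v.2.2
      have h3 : g • v₀ = v := Subtype.ext hg
      rw [← h3, hk, h0, mul_zero]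
    · obtain ⟨c, hc1⟩ := exists_qc_neg h2
      obtain ⟨g, hg1, hg2⟩ := trans_scale F v.2.1 v.2.2 w.2.1 w.2.2 hvw (fun a ha => hc ⟨Units.mk0 a (by
        rintro rfl
        rw [zero_smul] at ha
        exact w.2.1 ha), Subtype.ext ha⟩) c
      have h3 : g • v = v := Subtype.ext hg1
      have h4 : g • w = c • w := Subtype.ext hg2
      have h5 := hk g v w
      rw [h3, h4, hr, hc1] at h5
      have h6 : (2 : ℂ) * k v w = 0 := by linear_combination -h5
      rcases mul_eq_zero.1 h6 with h7 | h7
      · exact absurd h7 two_ne_zero
      · exact h7
  · obtain ⟨u₀, hu₀⟩ : ∃ u₀ : Kˣ, (u₀ : K) = F.B v w := ⟨Units.mk0 _ hvw, rfl⟩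
    have hb : F.B (v : V) ((u₀⁻¹ • w : NS F) : V) = 1 := by
      rw [ns_units, F.B_smul_right, hQ.hσ, Units.val_inv_eq_inv_val, hu₀, inv_mul_cancel₀ hvw]
    obtain ⟨g, hg1, hg2⟩ := trans_pair F v₀.2.1 v₀.2.2 w₀.2.2 h01 v.2.1 v.2.2 (u₀⁻¹ • w : NS F).2.2 hb
    have h3 : g • v₀ = v := Subtype.ext hg1
    have h4 : g • w₀ = u₀⁻¹ • w := Subtype.ext hg2
    have h5 : k v (u₀⁻¹ • w) = 0 := by rw [← h3, ← h4, hk, h1]
    have h6 : w = u₀ • u₀⁻¹ • w := (smul_inv_smul _ _).symm
    rw [h6, hr, h5, mul_zero]

theorem LEq.comb {k l : Matrix (NS F) (NS F) ℂ} (h : LEq k) (h' : LEq l) (a b : ℂ) : LEq (a • k + b • l) := by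
  intro c v w
  rw [Matrix.add_apply, Matrix.add_apply, Matrix.smul_apply, Matrix.smul_apply, Matrix.smul_apply, Matrix.smul_apply,
    h, h', smul_eq_mul, smul_eq_mul, smul_eq_mul, smul_eq_mul]
  ring

theorem REq.comb {k l : Matrix (NS F) (NS F) ℂ} (h : REq k) (h' : REq l) (a b : ℂ) : REq (a • k + b • l) := by
  intro c v w
  rw [Matrix.add_apply, Matrix.add_apply, Matrix.smul_apply, Matrix.smul_apply, Matrix.smul_apply, Matrix.smul_apply,
    h, h', smul_eq_mul, smul_eq_mul, smul_eq_mul, smul_eq_mul]
  ring

/-- **the commutant** -/
theorem eq_comb [FiniteDimensional K V] (h2 : (2 : K) ≠ 0) (hQ : IsQ F) {v₀ w₀ : NS F} (h01 : F.B v₀ w₀ = 1)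
    {k : Matrix (NS F) (NS F) ℂ} (hk : KInv F.iso k) (hl : LEq k) (hr : REq k) :
    k = ((Fintype.card Kˣ : ℂ) * k v₀ v₀) • kE F + ((Fintype.card Kˣ : ℂ) * k v₀ w₀) • kT F := by
  have hne : F.B v₀ w₀ ≠ 0 := by rw [h01]; exact one_ne_zero
  have hU := cardU_ne (K := K)
  rw [← sub_eq_zero]
  have e1 : k - (((Fintype.card Kˣ : ℂ) * k v₀ v₀) • kE F + ((Fintype.card Kˣ : ℂ) * k v₀ w₀) • kT F) =
      (1 : ℂ) • k + (-1 : ℂ) • (((Fintype.card Kˣ : ℂ) * k v₀ v₀) • kE F + ((Fintype.card Kˣ : ℂ) * k v₀ w₀) • kT F) := by
    module
  refine eq_zero_of h2 hQ h01 (hk.sub ((kE_inv.smul _).add (kT_inv.smul _))) ?_ ?_ ?_ ?_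
  · rw [e1]
    exact hl.comb (LEq_kE.comb LEq_kT _ _) _ _
  · rw [e1]
    exact hr.comb (REq_kE.comb (REq_kT hQ) _ _) _ _
  · rw [Matrix.sub_apply, Matrix.add_apply, Matrix.smul_apply, Matrix.smul_apply, kE_self, kT_self, smul_zero, add_zero,
      smul_eq_mul]
    field_simp
    ring
  · rw [Matrix.sub_apply, Matrix.add_apply, Matrix.smul_apply, Matrix.smul_apply, kE_of_ne hne, smul_zero, zero_add,
      smul_eq_mul]
    unfold kT
    rw [h01, qc_one]
    field_simp
    ring

/-! ### the sums -/

section sums

/-- the singular vectors not perpendicular to `e` -/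
noncomputable def par (h : Hyp F F' e f j) (hQ : IsQ F) (p : Kˣ × X) : NS F :=
  ⟨(-(((p.1⁻¹ : Kˣ) : K) * F'.Q p.2)) • e + (p.1 : K) • f + j p.2, by
    intro h0
    have h1 := B_e_par h hQ (-(((p.1⁻¹ : Kˣ) : K) * F'.Q p.2)) (p.1 : K) p.2
    rw [h0, F.B_zero_right] at h1
    exact p.1.ne_zero h1.symm, by
    have h1 : F.Q ((-(((p.1⁻¹ : Kˣ) : K) * F'.Q p.2)) • e + (p.1 : K) • f + j p.2) = 0 := by
      rw [Q_par h hQ]
      have := p.1.inv_mul
      linear_combination (-F'.Q p.2) * this
    exact ⟨h1, F.alt _ h1⟩⟩

theorem sum_par [Fintype X] (h : Hyp F F' e f j) (hQ : IsQ F) (g : NS F → ℂ) (hg : ∀ w : NS F, F.B e w = 0 → g w = 0) :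
    ∑ w, g w = ∑ p : Kˣ × X, g (par h hQ p) := by
  symm
  refine Fintype.sum_of_injective (par h hQ) ?_ _ _ (fun w hw => ?_) fun p => rfl
  · rintro ⟨b, x⟩ ⟨b', x'⟩ hp
    obtain ⟨-, h3, h4⟩ := par_inj h hQ (congrArg Subtype.val hp)
    exact Prod.ext (Units.ext h3) h4
  · apply hg
    by_contra hb
    apply hw
    have hb' : F.B (w : V) e ≠ 0 := by rwa [hQ.symm]
    obtain ⟨x, hx⟩ := exists_par h hQ w
    have h1 := w.2.2.1
    rw [hx, Q_par h hQ] at h1
    refine ⟨(Units.mk0 _ hb', x), Subtype.ext ?_⟩
    have h3 : -((((Units.mk0 _ hb' : Kˣ)⁻¹ : Kˣ) : K) * F'.Q x) = F.B (w : V) f := by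
      rw [Units.val_inv_eq_inv_val, Units.val_mk0]
      field_simp
      linear_combination -h1
    change (-((((Units.mk0 _ hb' : Kˣ)⁻¹ : Kˣ) : K) * F'.Q x)) • e + F.B (w : V) e • f + j x = w
    rw [h3]
    exact hx.symm

theorem kT_sq [FiniteDimensional K V] [Fintype X] (h2 : (2 : K) ≠ 0) (h : Hyp F F' e f j) (hQ : IsQ F) :
    kT F * kT F = (qsum F') • kT F + (Fintype.card X : ℂ) • kE F := by
  have hU := cardU_ne (K := K)
  obtain ⟨v₀, hv₀⟩ : ∃ v₀ : NS F, (v₀ : V) = e := ⟨⟨e, h.e0, h.he⟩, rfl⟩
  obtain ⟨w₀, hw₀⟩ : ∃ w₀ : NS F, (w₀ : V) = f := ⟨⟨f, h.f0, h.hf⟩, rfl⟩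
  have h01 : F.B v₀ w₀ = 1 := by rw [hv₀, hw₀, h.hef]
  have hl : LEq (kT F * kT F) := LEq_of (by rw [← Matrix.mul_assoc, kE_mul_of LEq_kT])
  have hr : REq (kT F * kT F) := REq_of (by rw [Matrix.mul_assoc, mul_kE_of (REq_kT hQ)])
  have h1 := eq_comb h2 hQ h01 (kT_inv.mul kT_inv) hl hr
  have e1 : (Fintype.card Kˣ : ℂ) * (kT F * kT F) v₀ v₀ = Fintype.card X := by
    rw [Matrix.mul_apply, sum_par h hQ _ (fun w hw => by
      unfold kT
      rw [hv₀, hw, qc_zero, mul_zero, zero_mul])]
    have e3 : ∀ p : Kˣ × X, kT F v₀ (par h hQ p) * kT F (par h hQ p) v₀ =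
        (Fintype.card Kˣ : ℂ)⁻¹ * (Fintype.card Kˣ : ℂ)⁻¹ := by
      intro p
      unfold kT
      have e4 : F.B e (par h hQ p) = p.1 := B_e_par h hQ _ _ _
      rw [hv₀, hQ.symm (par h hQ p) e, e4]
      have := qc_sq p.1.ne_zero
      linear_combination ((Fintype.card Kˣ : ℂ)⁻¹ * (Fintype.card Kˣ : ℂ)⁻¹) * this
    rw [Finset.sum_congr rfl fun p _ => e3 p, Finset.sum_const, Finset.card_univ, Fintype.card_prod, nsmul_eq_mul,
      Nat.cast_mul]
    field_simp
  have e2 : (Fintype.card Kˣ : ℂ) * (kT F * kT F) v₀ w₀ = qsum F' := by
    rw [Matrix.mul_apply, sum_par h hQ _ (fun w hw => by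
      unfold kT
      rw [hv₀, hw, qc_zero, mul_zero, zero_mul])]
    have e3 : ∀ p : Kˣ × X, kT F v₀ (par h hQ p) * kT F (par h hQ p) w₀ =
        (Fintype.card Kˣ : ℂ)⁻¹ * (Fintype.card Kˣ : ℂ)⁻¹ * qc (-F'.Q p.2) := by
      intro p
      unfold kT
      have e4 : F.B e (par h hQ p) = p.1 := B_e_par h hQ _ _ _
      have e5 : F.B (par h hQ p) f = -(((p.1⁻¹ : Kˣ) : K) * F'.Q p.2) := B_par_f h _ _ _
      have e6 : -(((p.1⁻¹ : Kˣ) : K) * F'.Q p.2) = (p.1 : K)⁻¹ * (-F'.Q p.2) := by
        rw [Units.val_inv_eq_inv_val]; ring
      rw [hv₀, hw₀, e4, e5, e6, qc_mul, qc_inv p.1.ne_zero]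
      have := qc_sq p.1.ne_zero
      linear_combination ((Fintype.card Kˣ : ℂ)⁻¹ * (Fintype.card Kˣ : ℂ)⁻¹ * qc (-F'.Q p.2)) * this
    rw [Finset.sum_congr rfl fun p _ => e3 p, ← Finset.mul_sum, Fintype.sum_prod_type]
    simp only [Finset.sum_const, Finset.card_univ, nsmul_eq_mul]
    unfold qsum
    field_simp
  rw [e1, e2] at h1
  rw [h1]
  abel

theorem trace_kT : Matrix.trace (kT F) = 0 := by
  unfold Matrix.trace
  exact Finset.sum_eq_zero fun v _ => kT_self v

theorem trace_kE : Matrix.trace (kE F) = (Fintype.card Kˣ : ℂ)⁻¹ * Fintype.card (NS F) := by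
  unfold Matrix.trace
  have : ∀ v : NS F, (kE F).diag v = (Fintype.card Kˣ : ℂ)⁻¹ := fun v => kE_self v
  rw [Finset.sum_congr rfl fun v _ => this v, Finset.sum_const, Finset.card_univ, nsmul_eq_mul, mul_comm]

/-- **the constituents** -/
theorem exists_sgn [FiniteDimensional K V] [Finite V] [Fintype X] (h2 : (2 : K) ≠ 0) (h : Hyp F F' e f j) (hQ : IsQ F)
    {lam mu : ℂ} (hs : lam + mu = qsum F') (hp : lam * mu = -(Fintype.card X : ℂ)) (hne : lam ≠ mu) :
    ∃ χ : F.iso → ℂ, IsIrrCharacter F.iso χ ∧
      (lam - mu) * χ 1 * (Fintype.card Kˣ : ℂ) = -mu * (Nat.card (NS F) : ℂ) ∧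
      ∀ (z : F.iso) (c : Kˣ), (∀ v, (z : V ≃ₗ[K] V) v = (c : K) • v) → χ z = qc (c : K) * χ 1 := by
  have hU := cardU_ne (K := K)
  have hfi := finite_iso F
  have hX : (Fintype.card X : ℂ) ≠ 0 := by
    have : 0 < Fintype.card X := Fintype.card_pos_iff.2 ⟨0⟩
    exact_mod_cast this.ne'
  have hmu : mu ≠ 0 := by
    rintro rfl
    rw [mul_zero] at hp
    exact hX (neg_eq_zero.1 hp.symm)
  have hN : (Fintype.card (NS F) : ℂ) ≠ 0 := by
    have : 0 < Fintype.card (NS F) := Fintype.card_pos_iff.2 ⟨⟨e, h.e0, h.he⟩⟩
    exact_mod_cast this.ne'
  have h01 : F.B ((⟨e, h.e0, h.he⟩ : NS F) : V) ((⟨f, h.f0, h.hf⟩ : NS F) : V) = 1 := h.hef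
  obtain ⟨χ, hχ, h3, h4⟩ := exists_one (G := F.iso) (N := NS F) (E := kE F) (T := kT F) kE_inv kT_inv
    (kE_mul_of LEq_kE) (kE_mul_of LEq_kT) (mul_kE_of (REq_kT hQ)) (lam := lam) (mu := mu) (by
      rw [kT_sq h2 h hQ, hs, hp]
      module) hne (fun k hk hl hr => ⟨_, _, eq_comb h2 hQ h01 hk (LEq_of hl) (REq_of hr)⟩) (by
      rw [trace_kT, trace_kE, zero_sub, neg_ne_zero]
      exact mul_ne_zero hmu (mul_ne_zero (inv_ne_zero hU) hN))
  refine ⟨χ, hχ, ?_, fun z c hz => ?_⟩
  · rw [h3, trace_kT, trace_kE, Nat.card_eq_fintype_card]
    field_simp
    ring
  · apply h4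
    refine LinearMap.ext fun g => ?_
    ext v
    have e1 : z⁻¹ • v = c⁻¹ • v := by
      rw [inv_smul_eq_iff]
      apply Subtype.ext
      rw [ns_smul, hz, ns_units, smul_smul, Units.val_inv_eq_inv_val, mul_inv_cancel₀ c.ne_zero, one_smul]
    change ∑ w, kE F (z⁻¹ • v) w * g w = qc (c : K) * ∑ w, kE F v w * g w
    rw [e1, Finset.mul_sum]
    refine Finset.sum_congr rfl fun w _ => ?_
    rw [LEq_kE, Units.val_inv_eq_inv_val, qc_inv c.ne_zero, mul_assoc]

end sums

end ker

end Cfsg.Agent.H539.Eight

private theorem dce_ea27959d236f : _root_.True := by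
  try have : _root_.True := by simp only [_root_.Cfsg.Agent.H539.Eight.qc.congr_simp]
  try have : _root_.True := by simp only [_root_.Cfsg.Agent.H539.Eight.qsum.congr_simp]
  exact _root_.True.intro
end

-- part: H539/Eight/SgnModels
section
prune_inst 0x120740458c002000018059271003e469600009200488000a860064206c84e6aa042a821bcb0151290a680447039004811100130420000000a000400011901a088801604f1d9a2088e000f000084400000000000000000000000800000000000008000000
set_option linter.all false
open scoped Cfsg.Agent.FastGrp

/-!
# The sign constituents for the orthogonal groups (helper539)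

`sgn_odd` : `(q² - 1) χ(1) = q^(2m) - 1` and `(q² - 1) χ(1) = q (q^(2m) - 1)` for `O_(2m+1)(q)`;
`sgn_plus` : `2 (q - 1) χ(1) = (q^m - 1)(q^(m-1) + 1)` for `O⁺_2m(q)`.
-/

set_option autoImplicit false
set_option linter.unusedSectionVars false

open scoped ComplexConjugate
open Cfsg

namespace Cfsg.Agent.H539.Eight

open Cfsg.Agent.Characters Module Cfsg.Agent.H477.HC Cfsg.Agent.H477.HC.CForm

universe u v w

variable (K : Type u) [Field K] [Finite K]

omit [Finite K] in
theorem isQ_odd (m : ℕ) (h2 : (2 : K) ≠ 0) : IsQ (oddF K m h2) := ⟨fun _ => rfl, rfl, fun _ => rfl⟩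

theorem qsum_odd [Fintype K] [DecidableEq K] (h2 : (2 : K) ≠ 0) (n : ℕ) :
    qsum (oddF K n h2) = qc (-1 : K) * ((Fintype.card K : ℂ) - 1) * (Fintype.card K : ℂ) ^ n := by
  induction n with
  | zero =>
    have h1 : qsum (oddF K 0 h2) = ∑ t : K, qc (-(t ^ 2)) := by
      unfold qsum
      refine Fintype.sum_bijective (fun x : Unit ⊕ (Fin 0 ⊕ Fin 0) → K => x (Sum.inl ())) ⟨?_, ?_⟩ _ _ fun x => ?_
      · intro x y hxy
        ext i
        rcases i with ⟨⟩ | i | i
        · exact hxy
        · exact i.elim0
        · exact i.elim0
      · exact fun t => ⟨fun _ => t, rfl⟩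
      · have e1 : (oddF K 0 h2).Q x = x (Sum.inl ()) ^ 2 := by
          change quadFormOdd 0 K x = _
          simp [quadFormOdd]
        rw [e1]
    have h3 : ∀ t : K, qc (-(t ^ 2)) = qc (-1 : K) - if t = 0 then qc (-1 : K) else 0 := by
      intro t
      have e1 : -(t ^ 2) = -1 * (t * t) := by ring
      rw [e1, qc_mul, qc_mul]
      by_cases ht : t = 0
      · rw [if_pos ht, ht, qc_zero]
        ring
      · rw [if_neg ht, qc_sq ht]
        ring
    rw [h1, Finset.sum_congr rfl fun t _ => h3 t, Finset.sum_sub_distrib, Finset.sum_const, Finset.card_univ,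
      Finset.sum_ite_eq' Finset.univ (0 : K), if_pos (Finset.mem_univ _), nsmul_eq_mul, pow_zero]
    ring
  | succ n ih =>
    obtain ⟨e, f, j, h⟩ := frm_odd (K := K) h2 (show 1 + n = n + 1 by omega)
    rw [qsum_rec h2 h.hyp (isQ_odd K (n + 1) h2), ih, pow_succ]
    ring

/-- **odd dimension** -/
theorem sgn_odd (h2 : (2 : K) ≠ 0) (ho : Odd (Nat.card K)) {m : ℕ} (hm : 1 ≤ m) :
    (∃ (χ : (oddF K m h2).iso → ℂ) (a : ℕ), IsIrrCharacter (oddF K m h2).iso χ ∧ χ 1 = a ∧
      (Nat.card K ^ 2 - 1) * a = Nat.card K ^ (2 * m) - 1) ∧
    ∃ (χ : (oddF K m h2).iso → ℂ) (b : ℕ), IsIrrCharacter (oddF K m h2).iso χ ∧ χ 1 = b ∧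
      (Nat.card K ^ 2 - 1) * b = Nat.card K * (Nat.card K ^ (2 * m) - 1) := by
  classical
  have hfin := Fintype.ofFinite K
  have := Fintype.ofFinite (NS (oddF K m h2))
  have hq : 2 ≤ Nat.card K := Finite.one_lt_card
  obtain ⟨q, hqq⟩ : ∃ q, q = Nat.card K := ⟨_, rfl⟩
  obtain ⟨n, rfl⟩ : ∃ n, m = n + 1 := ⟨m - 1, by omega⟩
  obtain ⟨e, f, j, h⟩ := frm_odd (K := K) h2 (show 1 + n = n + 1 by omega)
  have hN : Nat.card (NS (oddF K (n + 1) h2)) = q ^ (2 * (n + 1)) - 1 := by
    rw [hqq]
    exact card_ns_odd K h2 ho (n + 1)
  have hU : (Fintype.card Kˣ : ℂ) = (q : ℂ) - 1 := by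
    have h1 : Fintype.card Kˣ = q - 1 := by
      rw [hqq, ← Nat.card_units, Nat.card_eq_fintype_card]
    rw [h1, Nat.cast_sub (by omega), Nat.cast_one]
  have hX : (Fintype.card (Unit ⊕ (Fin n ⊕ Fin n) → K) : ℂ) = (q : ℂ) ^ (2 * n + 1) := by
    have h1 : Fintype.card (Unit ⊕ (Fin n ⊕ Fin n) → K) = q ^ (2 * n + 1) := by
      rw [Fintype.card_fun, hqq, Nat.card_eq_fintype_card]
      congr 1
      simp
      ring
    rw [h1, Nat.cast_pow]
  have hS := qsum_odd K h2 n
  rw [show (Fintype.card K : ℂ) = (q : ℂ) by rw [hqq, Nat.card_eq_fintype_card]] at hS
  obtain ⟨ε, hε⟩ : ∃ ε : ℂ, ε = qc (-1 : K) := ⟨_, rfl⟩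
  have hεε : ε * ε = 1 := by rw [hε]; exact qc_neg_one_sq
  have hε0 : ε ≠ 0 := by
    rintro rfl
    rw [mul_zero] at hεε
    exact zero_ne_one hεε
  rw [← hε] at hS
  have hqc : (q : ℂ) ≠ 0 := by exact_mod_cast (by omega : q ≠ 0)
  have hq1 : (q : ℂ) + 1 ≠ 0 := by exact_mod_cast (by omega : q + 1 ≠ 0)
  have hNc : (Nat.card (NS (oddF K (n + 1) h2)) : ℂ) = (q : ℂ) ^ (2 * (n + 1)) - 1 := by
    rw [hN, Nat.cast_sub (Nat.one_le_pow _ _ (by omega)), Nat.cast_pow, Nat.cast_one]
  have hlm : ε * (q : ℂ) ^ (n + 1) - (-(ε * (q : ℂ) ^ n)) = ε * (q : ℂ) ^ n * ((q : ℂ) + 1) := by ring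
  have hne : ε * (q : ℂ) ^ (n + 1) ≠ -(ε * (q : ℂ) ^ n) := by
    intro h0
    rw [← sub_eq_zero, hlm] at h0
    exact mul_ne_zero (mul_ne_zero hε0 (pow_ne_zero _ hqc)) hq1 h0
  have hzn : ε * (q : ℂ) ^ n ≠ 0 := mul_ne_zero hε0 (pow_ne_zero _ hqc)
  constructor
  · obtain ⟨χ, hχ, h3, -⟩ := exists_sgn h2 h.hyp (isQ_odd K (n + 1) h2) (lam := ε * (q : ℂ) ^ (n + 1))
      (mu := -(ε * (q : ℂ) ^ n)) (by rw [hS]; ring) (by
        rw [hX]
        linear_combination (-(q : ℂ) ^ (2 * n + 1)) * hεε) hne
    obtain ⟨a, ha⟩ := Core.isCharacter_apply_one (Core.isIrr_isCharacter hχ)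
    refine ⟨χ, a, hχ, ha, ?_⟩
    rw [ha, hlm, hU, hNc] at h3
    have h4 : ((q : ℂ) ^ 2 - 1) * a = (q : ℂ) ^ (2 * (n + 1)) - 1 := by
      apply mul_left_cancel₀ hzn
      linear_combination h3
    rw [← hqq]
    have h5 : (((q ^ 2 - 1) * a : ℕ) : ℂ) = ((q ^ (2 * (n + 1)) - 1 : ℕ) : ℂ) := by
      rw [Nat.cast_mul, Nat.cast_sub (Nat.one_le_pow _ _ (by omega)), Nat.cast_sub (Nat.one_le_pow _ _ (by omega)),
        Nat.cast_pow, Nat.cast_pow, Nat.cast_one]
      exact h4
    exact_mod_cast h5
  · obtain ⟨χ, hχ, h3, -⟩ := exists_sgn h2 h.hyp (isQ_odd K (n + 1) h2) (lam := -(ε * (q : ℂ) ^ n))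
      (mu := ε * (q : ℂ) ^ (n + 1)) (by rw [hS]; ring) (by
        rw [hX]
        linear_combination (-(q : ℂ) ^ (2 * n + 1)) * hεε) hne.symm
    obtain ⟨b, hb⟩ := Core.isCharacter_apply_one (Core.isIrr_isCharacter hχ)
    refine ⟨χ, b, hχ, hb, ?_⟩
    rw [hb, hU, hNc] at h3
    have h4 : ((q : ℂ) ^ 2 - 1) * b = (q : ℂ) * ((q : ℂ) ^ (2 * (n + 1)) - 1) := by
      apply mul_left_cancel₀ hzn
      linear_combination -h3
    rw [← hqq]
    have h5 : (((q ^ 2 - 1) * b : ℕ) : ℂ) = ((q * (q ^ (2 * (n + 1)) - 1) : ℕ) : ℂ) := by
      rw [Nat.cast_mul, Nat.cast_mul, Nat.cast_sub (Nat.one_le_pow _ _ (by omega)),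
        Nat.cast_sub (Nat.one_le_pow _ _ (by omega)), Nat.cast_pow, Nat.cast_pow, Nat.cast_one]
      exact h4
    exact_mod_cast h5

end Cfsg.Agent.H539.Eight
end

-- part: H539/Eight/Odd
section
prune_inst 0x12064055840020000040582110020851400009000400001c86400440808c2288002a0000c801012102200801001000811000030420000000a0004000001012088801004b17c0d0406000980008401000000000000000000000080000000000000c010000
set_option linter.all false
open scoped Cfsg.Agent.FastGrp

/-!
# `PΩ_{2m+1}(q)`, `q` odd, `m ≥ 3`, has at least eight character degrees (helper539)

The degrees: `1`, Steinberg, the two rank 3 characters, the two constituents of the quadratic character induced from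
the point stabiliser of `O(V)`, and two Harish-Chandra induced cuspidal characters of `GL_m`, `GL_(m-1)`.
-/

set_option autoImplicit false
set_option linter.unusedSectionVars false

open scoped ComplexConjugate
open Cfsg

namespace Cfsg.Agent.H539.Eight

open Cfsg.Agent.Characters Module Cfsg.Agent.H477.HC Cfsg.Agent.H477.HC.CForm Cfsg.Agent.H664.Eight

universe u v w

/-! ### arithmetic -/

theorem arith_g {q x g : ℤ} (hq : 3 ≤ q) (hx : q ^ 2 ≤ x) (hg : (q ^ 2 - 1) * g = q ^ 2 * x ^ 2 - 1) : 4 < g := by
  have hx9 : 9 ≤ x := by nlinarith only [hq, hx]
  have h1 : 9 ≤ q ^ 2 := by nlinarith only [hq]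
  have h2 : 81 ≤ x ^ 2 := by nlinarith only [hx9]
  by_contra h
  have h3 : (q ^ 2 - 1) * g ≤ (q ^ 2 - 1) * 4 := mul_le_mul_of_nonneg_left (not_lt.1 h) (by linarith)
  nlinarith only [hg, h2, h3]

theorem arith_D1 {q x g P D1 : ℤ} (hq : 3 ≤ q) (hx : q ^ 2 ≤ x) (hP : 1 ≤ P)
    (hg : (q ^ 2 - 1) * g = q ^ 2 * x ^ 2 - 1) (hD1 : D1 = P * (x + 1) * (q ^ 2 * x ^ 2 - 1)) : 4 * g < D1 := by
  have hx9 : 9 ≤ x := by nlinarith only [hq, hx]
  have h1 : 9 ≤ q ^ 2 := by nlinarith only [hq]
  have hg4 := arith_g hq hx hg
  have h2 : 8 * g ≤ (q ^ 2 - 1) * g := mul_le_mul_of_nonneg_right (by linarith) (by linarith)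
  have h3 : 1 ≤ P * (x + 1) := by nlinarith only [hP, hx9]
  rw [hD1, ← hg]
  have h4 : 1 * ((q ^ 2 - 1) * g) ≤ P * (x + 1) * ((q ^ 2 - 1) * g) := mul_le_mul_of_nonneg_right h3 (by linarith)
  linarith

theorem arith_Dm {q x P D1 Dm : ℤ} (hq : 3 ≤ q) (hx : q ^ 2 ≤ x) (hP : 1 ≤ P)
    (hD1 : D1 = P * (x + 1) * (q ^ 2 * x ^ 2 - 1)) (hDm : Dm = (q ^ 2 - 1) * P * (x ^ 2 - 1) * (q * x + 1)) :
    D1 ≤ Dm := by
  have hx9 : 9 ≤ x := by nlinarith only [hq, hx]
  have h0 : q + 5 ≤ q ^ 2 - 1 := by nlinarith only [hq]
  have h0' : (q + 5) * (x - 1) ≤ (q ^ 2 - 1) * (x - 1) := mul_le_mul_of_nonneg_right h0 (by linarith)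
  have h0'' : q ≤ x := by linarith only [hx, h0]
  have h1 : q * x - 1 ≤ (q ^ 2 - 1) * (x - 1) := by linarith only [hx, hx9, h0, h0']
  have h2 : 0 ≤ P * (x + 1) * (q * x + 1) := by positivity
  have h3 := mul_le_mul_of_nonneg_left h1 h2
  have e1 : D1 = P * (x + 1) * (q * x + 1) * (q * x - 1) := by rw [hD1]; ring
  have e2 : Dm = P * (x + 1) * (q * x + 1) * ((q ^ 2 - 1) * (x - 1)) := by rw [hDm]; ring
  rw [e1, e2]
  exact h3

theorem arith_ne {q x P D1 Dm z w y : ℤ} (hq : q = 3 ∨ 5 ≤ q) (hx : q ^ 2 ≤ x) (hP : 1 ≤ P)
    (hD1 : D1 = P * (x + 1) * (q ^ 2 * x ^ 2 - 1)) (hDm : Dm = (q ^ 2 - 1) * P * (x ^ 2 - 1) * (q * x + 1))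
    (h1 : Dm = z * w) (h2 : D1 = z * y) (hw : w = 1 ∨ w = 2 ∨ w = 4) (hy : y = 1 ∨ y = 2 ∨ y = 4) : False := by
  have hq3 : 3 ≤ q := by omega
  have hx9 : 9 ≤ x := by nlinarith only [hx, hq3]
  have hqx : 0 < q * x + 1 := by positivity
  have hC : 0 < P * (x + 1) * (q * x + 1) := by positivity
  have e1 : P * (x + 1) * (q * x + 1) * (q * x - 1) = z * y := by rw [← h2, hD1]; ring
  have e2 : P * (x + 1) * (q * x + 1) * ((q ^ 2 - 1) * (x - 1)) = z * w := by rw [← h1, hDm]; ring
  have hz : z ≠ 0 := by
    rintro rfl
    rw [zero_mul] at e1
    have h3 : 0 < q * x - 1 := by nlinarith only [hx, hq3, hx9]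
    have := mul_pos hC h3
    linarith
  have key : w * (q * x - 1) = y * ((q ^ 2 - 1) * (x - 1)) := by
    have h3 : (z * (P * (x + 1) * (q * x + 1))) * (w * (q * x - 1)) =
        (z * (P * (x + 1) * (q * x + 1))) * (y * ((q ^ 2 - 1) * (x - 1))) := by
      calc (z * (P * (x + 1) * (q * x + 1))) * (w * (q * x - 1)) =
            (z * w) * (P * (x + 1) * (q * x + 1) * (q * x - 1)) := by ring
        _ = (P * (x + 1) * (q * x + 1) * ((q ^ 2 - 1) * (x - 1))) * (z * y) := by rw [e1, e2]
        _ = _ := by ring
    exact mul_left_cancel₀ (mul_ne_zero hz hC.ne') h3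
  rcases hq with rfl | hq
  · rcases hw with rfl | rfl | rfl <;> rcases hy with rfl | rfl | rfl <;> (clear * - hx9 key; omega)
  · have h3 : w ≤ 4 := by omega
    have h4 : 1 ≤ y := by omega
    have h5 : 0 < q * x - 1 := by nlinarith only [hx, hq3, hx9]
    have h6 : w * (q * x - 1) ≤ 4 * (q * x - 1) := mul_le_mul_of_nonneg_right h3 h5.le
    have h7 : 0 ≤ (q ^ 2 - 1) * (x - 1) := by nlinarith only [hx, hq3, hx9, hqx, hq]
    have h8 : 1 * ((q ^ 2 - 1) * (x - 1)) ≤ y * ((q ^ 2 - 1) * (x - 1)) := mul_le_mul_of_nonneg_right h4 h7
    have h9 : 4 ≤ q ^ 2 - 4 * q - 1 := by nlinarith only [hq3, hq]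
    have h10 : 4 * x ≤ (q ^ 2 - 4 * q - 1) * x := mul_le_mul_of_nonneg_right h9 (by linarith)
    linarith only [hx, key, hq, h6, h8, h9, h10]

theorem arith_st {q x s t : ℤ} (hq : 3 ≤ q) (hs : 2 * (q - 1) * s = q * (x + 1) * (q * x - 1))
    (ht : 2 * (q - 1) * t = q * (x - 1) * (q * x + 1)) : s = t + q * x := by
  have h1 : 2 * (q - 1) ≠ 0 := by
    have : 0 < 2 * (q - 1) := by linarith
    exact this.ne'
  apply mul_left_cancel₀ h1
  linear_combination hs - ht

theorem arith_B {q x s t B : ℤ} (hq : 3 ≤ q) (hx : q ^ 2 ≤ x) (hs : 2 * (q - 1) * s = q * (x + 1) * (q * x - 1))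
    (ht : 2 * (q - 1) * t = q * (x - 1) * (q * x + 1)) (hB : (q ^ 2 - 1) * B = q * (q ^ 2 * x ^ 2 - 1)) :
    s < B ∧ B < 2 * t := by
  have hx9 : 9 ≤ x := by nlinarith only [hq, hx]
  have hqx : q < x := by nlinarith only [hq, hx]
  have hc : 0 < 2 * (q - 1) * (q + 1) := by nlinarith only [hq]
  constructor
  · have h1 : 2 * (q - 1) * (q + 1) * (B - s) = q * (q * x - 1) * ((q - 1) * (x - 1)) := by
      linear_combination 2 * hB - (q + 1) * hs
    have h2 : 0 < q * (q * x - 1) * ((q - 1) * (x - 1)) := by
      have h3 : 0 < q * x - 1 := by nlinarith only [hq, hx, hx9]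
      have h4 : 0 < q - 1 := by linarith
      have h5 : 0 < x - 1 := by linarith
      (clear * - hq h3 h4 h5; positivity)
    rw [← h1] at h2
    have := (mul_pos_iff_of_pos_left hc).1 h2
    linarith
  · have h1 : 2 * (q - 1) * (q + 1) * (2 * t - B) = 2 * q * (q * x + 1) * (x - q) := by
      linear_combination 2 * (q + 1) * ht - 2 * hB
    have h2 : 0 < 2 * q * (q * x + 1) * (x - q) := by
      have h4 : 0 < x - q := by linarith
      positivity
    rw [← h1] at h2
    have := (mul_pos_iff_of_pos_left hc).1 h2
    linarith

theorem arith_St {q x s B : ℤ} (hq : 3 ≤ q) (hx : q ^ 2 ≤ x) (hs : 2 * (q - 1) * s = q * (x + 1) * (q * x - 1))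
    (hs0 : 0 ≤ s) (hB0 : 0 ≤ B) (hB : (q ^ 2 - 1) * B = q * (q ^ 2 * x ^ 2 - 1)) :
    s < q ^ 3 * x ^ 3 ∧ B < q ^ 3 * x ^ 3 := by
  have hx9 : 9 ≤ x := by nlinarith only [hq, hx]
  have h9 : 9 ≤ q ^ 2 := by nlinarith only [hq]
  have h3x : 0 < q ^ 2 * x ^ 2 := by positivity
  have h27 : 27 ≤ q * x := by nlinarith only [hq, hx9]
  have e3 : q ^ 3 * x ^ 3 = (q ^ 2 * x ^ 2) * (q * x) := by ring
  constructor
  · have h1 : s ≤ 2 * (q - 1) * s := by nlinarith only [hq, hs0]
    have h2 : q * (x + 1) * (q * x - 1) ≤ 2 * (q ^ 2 * x ^ 2) := by nlinarith only [hq, hx, h9, h27]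
    rw [e3]
    nlinarith only [hq, hx, hs, hs0, h9, h3x, h27]
  · have h1 : B ≤ (q ^ 2 - 1) * B := by nlinarith only [hB0, h9]
    have h2 : q * (q ^ 2 * x ^ 2 - 1) < q * (q ^ 2 * x ^ 2) := by linarith only [hq]
    have h4 : q * (q ^ 2 * x ^ 2) ≤ (q ^ 2 * x ^ 2) * (q * x) := by nlinarith only [hq, hx, hB0, hB, h27, h1]
    rw [e3]
    linarith

/-! ### descent -/

theorem mem_of_ch {S : Type*} [Group S] {d : ℕ} (h : Ch S d) : d ∈ charDegrees S := by
  obtain ⟨χ, hχ⟩ := h.exists_irr
  exact ⟨χ, hχ⟩

theorem four_cases {t : ℕ} (h : t ∣ 4) : t = 1 ∨ t = 2 ∨ t = 4 := by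
  have h1 := Nat.le_of_dvd (by norm_num) h
  interval_cases t <;> revert h <;> decide

section

variable (K : Type u) [Field K] [Finite K] {p : ℕ} [Fact p.Prime] [CharP K p]

include p in
theorem down_odd (ho : Odd (Nat.card K)) (h2 : (2 : K) ≠ 0) {m : ℕ} (hm : 3 ≤ m) {χ : (oddF K m h2).iso → ℂ}
    (hχ : IsIrrCharacter (oddF K m h2).iso χ) {D : ℕ} (hD : χ 1 = D) :
    ∃ e t : ℕ, Ch (POmega K (quadFormOdd m K)) e ∧ D = e * t ∧ (t = 1 ∨ t = 2 ∨ t = 4) := by
  obtain ⟨hidx, hcen⟩ := odd_idx K (p := p) ho hm
  have hχ' : IsIrrCharacter _ (χ ∘ (isoQuad (oddF K m h2) (odd_hB K m h2)).toMonoidHom) :=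
    Core.isIrr_comp _ (isoQuad (oddF K m h2) (odd_hB K m h2)).surjective hχ
  have hD' : (χ ∘ (isoQuad (oddF K m h2) (odd_hB K m h2)).toMonoidHom) 1 = (D : ℂ) := by
    rw [Function.comp_apply, map_one, hD]
  obtain ⟨e, h1, h3, h4, h5⟩ := ch_down (Omega K (oddF K m h2).Q) hχ' hD' (fun z hz => by
    have := hcen z hz
    rw [this]
    rfl)
  change D / e ∣ (Omega K (quadFormOdd m K)).index at h4
  rw [hidx] at h4
  exact ⟨e, D / e, h1, (Nat.mul_div_cancel' h3).symm, four_cases h4⟩

/-- the Steinberg character -/
theorem st_odd (ho : Odd (Nat.card K)) {m : ℕ} (hm : 3 ≤ m) :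
    ∃ d, Ch (POmega K (quadFormOdd m K)) d ∧ Nat.card K ^ m ^ 2 ≤ d ∧ p ∣ d := by
  have hp : p.Prime := Fact.out
  have hp2 : p ≠ 2 := char_ne_two_of_odd (K := K) ho
  have hq : 1 < Nat.card K := Finite.one_lt_card
  let _ := Fintype.ofFinite K
  have hfin : Finite (POmega K (quadFormOdd m K)) := inferInstance
  obtain ⟨χ, hχ, h1⟩ := H167.SteinbergRGD.steinberg_of_hasRGD
    (Nodes.RGDOrth.hasRGD_odd K (hp.odd_of_ne_two hp2) (show 2 ≤ m by omega))
  have P : Sylow p (POmega K (quadFormOdd m K)) := default
  obtain ⟨h3, -⟩ := h1 P
  obtain ⟨s, hs⟩ := card_pow K p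
  have hs0 : s ≠ 0 := by
    rintro rfl
    rw [hs, pow_zero] at hq
    exact absurd hq (lt_irrefl 1)
  have h4 : 2 * Nat.card (POmega K (quadFormOdd m K)) =
      Nat.card K ^ (m ^ 2) * ∏ i ∈ Finset.range m, (Nat.card K ^ (2 * (i + 1)) - 1) := by
    rw [Nat.card_eq_fintype_card (α := K)] at ho ⊢
    exact Cfsg.Agent.S0292.result rfl ho m hm
  have h5 : p ^ (s * m ^ 2) ∣ Nat.card (POmega K (quadFormOdd m K)) := by
    have h6 : p ^ (s * m ^ 2) ∣ 2 * Nat.card (POmega K (quadFormOdd m K)) := by
      rw [h4, hs, ← pow_mul]
      exact Dvd.intro _ rfl
    exact (Nat.Coprime.pow_left _ ((Nat.coprime_primes hp Nat.prime_two).2 hp2)).dvd_of_dvd_mul_left h6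
  have h6 : Nat.card P = p ^ (Nat.card (POmega K (quadFormOdd m K))).factorization p := P.card_eq_multiplicity
  have h7 : s * m ^ 2 ≤ (Nat.card (POmega K (quadFormOdd m K))).factorization p :=
    (hp.pow_dvd_iff_le_factorization Nat.card_pos.ne').1 h5
  refine ⟨Nat.card P, ⟨χ, hχ, h3⟩, ?_, ?_⟩
  · rw [h6, hs, ← pow_mul]
    exact Nat.pow_le_pow_right hp.pos h7
  · rw [h6]
    apply dvd_pow_self
    have : 0 < s * m ^ 2 := Nat.mul_pos (Nat.pos_of_ne_zero hs0) (pow_pos (by omega) 2)
    omega

omit [CharP K p] in
theorem not_dvd_prod (hpq : p ∣ Nat.card K) (s : Finset ℕ) :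
    ¬ p ∣ ∏ i ∈ s, (Nat.card K ^ (2 * (i + 1)) - 1) := by
  have hp : p.Prime := Fact.out
  have hq : 1 < Nat.card K := Finite.one_lt_card
  intro h
  obtain ⟨i, -, h1⟩ := (Prime.dvd_finsetProd_iff hp.prime _).1 h
  have h3 : p ∣ Nat.card K ^ (2 * (i + 1)) := hpq.trans (dvd_pow_self _ (by omega))
  have h4 : Nat.card K ^ (2 * (i + 1)) = (Nat.card K ^ (2 * (i + 1)) - 1) + 1 := by
    have := Nat.one_le_pow (2 * (i + 1)) (Nat.card K) (by omega)
    omega
  rw [h4] at h3
  exact hp.one_lt.ne' (Nat.dvd_one.1 ((Nat.dvd_add_right h1).1 h3))

end

theorem nodup_eight {P : ℕ → Prop} {a b c d e f g h : ℕ} (ha : ¬ P a) (hb : ¬ P b) (hc : ¬ P c) (hd : ¬ P d) (he : P e)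
    (hf : P f) (hg : P g) (hh : P h) (h1 : a < b) (h2 : b < c) (h3 : b < d) (h4 : c ≠ d) (h5 : e ≠ f) (h6 : e ≠ g)
    (h7 : e ≠ h) (h8 : f ≠ g) (h9 : f ≠ h) (h10 : g ≠ h) : [a, b, c, d, e, f, g, h].Nodup := by
  have key : ∀ {x y : ℕ}, ¬ P x → P y → x ≠ y := fun hx hy hxy => hx (hxy ▸ hy)
  have k1 : a ≠ b := h1.ne
  have k2 : a ≠ c := (h1.trans h2).ne
  have k3 : a ≠ d := (h1.trans h3).ne
  have k4 : b ≠ c := h2.ne
  have k5 : b ≠ d := h3.ne
  simp only [List.nodup_cons, List.mem_cons, List.not_mem_nil, or_false, not_or, List.nodup_nil, and_true,
    not_false_eq_true]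
  exact ⟨⟨k1, k2, k3, key ha he, key ha hf, key ha hg, key ha hh⟩, ⟨k4, k5, key hb he, key hb hf, key hb hg, key hb hh⟩,
    ⟨h4, key hc he, key hc hf, key hc hg, key hc hh⟩, ⟨key hd he, key hd hf, key hd hg, key hd hh⟩, ⟨h5, h6, h7⟩,
    ⟨h8, h9⟩, h10⟩

/-! ### the theorem -/

section main

variable (K : Type u) [Field K] [Finite K] {p : ℕ} [Fact p.Prime] [CharP K p]

include p in
theorem cus_odd (ho : Odd (Nat.card K)) (h2 : (2 : K) ≠ 0) {k n : ℕ} (hk : 2 ≤ k) (hm : 3 ≤ k + n) :
    ∃ e t : ℕ, Ch (POmega K (quadFormOdd (k + n) K)) e ∧ dg (oddF K (k + n) h2) k = e * t ∧ (t = 1 ∨ t = 2 ∨ t = 4) := by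
  have hq3 : 3 ≤ Nat.card K := by
    have : 1 < Nat.card K := Finite.one_lt_card
    rcases ho with ⟨j, hj⟩; omega
  obtain ⟨c, hc⟩ := exists_cus_one (K := K) rfl k (by omega) (by
    have : Nat.card K ^ 2 ≤ Nat.card K ^ k := Nat.pow_le_pow_right (by omega) hk
    nlinarith only [hq3, this]) (by rintro ⟨h3, -⟩; omega)
  obtain ⟨⟨W₀, hW₀⟩, -⟩ := CForm.oddF_frame (K := K) (p := p) h2 k n
  obtain ⟨χ, hχ, hχ1, -⟩ := exists_char (oddF K (k + n) h2) hW₀ hc
  exact down_odd K (p := p) ho h2 hm hχ hχ1

include p in
theorem eight_aux (ho : Odd (Nat.card K)) (r : ℕ) : Eight (POmega K (quadFormOdd (r + 3) K)) := by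
  have hp : p.Prime := Fact.out
  have h2 := two_ne_zero_of_odd (K := K) (p := p) ho
  have hp2 : p ≠ 2 := char_ne_two_of_odd (K := K) ho
  have hcard : 1 < Nat.card K := Finite.one_lt_card
  let _ := Fintype.ofFinite K
  have hfin : Finite (POmega K (quadFormOdd (r + 3) K)) := inferInstance
  have hpq : p ∣ Nat.card K := by
    obtain ⟨s, hs⟩ := card_pow K p
    rw [hs]
    apply dvd_pow_self
    rintro rfl
    rw [hs, pow_zero] at hcard
    exact absurd hcard (lt_irrefl 1)
  obtain ⟨s, t, cs, ct, hs, ht⟩ := rk3_odd K h2 ho (show 3 ≤ r + 3 by omega)
  obtain ⟨⟨χa, a, hχa, ha1, ha⟩, ⟨χb, b, hχb, hb1, hb⟩⟩ := sgn_odd K h2 ho (show 1 ≤ r + 3 by omega)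
  obtain ⟨g', u, cg, hg', hu⟩ := down_odd K (p := p) ho h2 (show 3 ≤ r + 3 by omega) hχa ha1
  obtain ⟨B', v, cB, hB', hv⟩ := down_odd K (p := p) ho h2 (show 3 ≤ r + 3 by omega) hχb hb1
  obtain ⟨D1', y, cD1, hD1', hy⟩ := cus_odd K (p := p) ho h2 (k := r + 2) (n := 1) (by omega) (by omega)
  obtain ⟨Dm', w, cDm, hDm', hw⟩ := cus_odd K (p := p) ho h2 (k := r + 3) (n := 0) (by omega) (by omega)
  obtain ⟨St, cSt, hSt, hSt'⟩ := st_odd K (p := p) ho (show 3 ≤ r + 3 by omega)
  have hD1 := dg_odd K h2 ho (k := r + 2) (by omega) 1
  have hDm := dg_odd K h2 ho (k := r + 3) (by omega) 0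
  have hpD1 := not_dvd_prod K hpq (Finset.Ico 1 (r + 2 + 1))
  have hpDm := not_dvd_prod K hpq (Finset.Ico 0 (r + 3 + 0))
  rw [← hD1] at hpD1
  rw [← hDm] at hpDm
  obtain ⟨D1, hD1e⟩ : ∃ D1, D1 = dg (oddF K (r + 2 + 1) h2) (r + 2) := ⟨_, rfl⟩
  obtain ⟨Dm, hDme⟩ : ∃ Dm, Dm = dg (oddF K (r + 3 + 0) h2) (r + 3) := ⟨_, rfl⟩
  rw [← hD1e] at hD1' hD1 hpD1
  rw [← hDme] at hDm' hDm hpDm
  obtain ⟨P, hP⟩ : ∃ P, P = ∏ i ∈ Finset.Ico 1 (r + 1), (Nat.card K ^ (2 * (i + 1)) - 1) := ⟨_, rfl⟩
  have hP1 : 0 < P := by
    rw [hP]
    apply Finset.prod_pos
    intro i _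
    have : 1 < Nat.card K ^ (2 * (i + 1)) := Nat.one_lt_pow (by omega) hcard
    omega
  rw [show r + 2 + 1 = r + 1 + 1 + 1 by omega, Finset.prod_Ico_succ_top (by omega), Finset.prod_Ico_succ_top (by omega),
    ← hP] at hD1
  rw [show r + 3 + 0 = r + 1 + 1 + 1 by omega, Finset.prod_eq_prod_Ico_succ_bot (by omega),
    Finset.prod_Ico_succ_top (by omega), Finset.prod_Ico_succ_top (by omega), zero_add, ← hP] at hDm
  obtain ⟨q, hq⟩ : ∃ q, q = Nat.card K := ⟨_, rfl⟩
  rw [← hq] at ha hb hs ht hD1 hDm ho hcard hpq hSt hpD1 hpDm
  have hq3 : q = 3 ∨ 5 ≤ q := by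
    rcases ho with ⟨i, hi⟩
    omega
  have cst : ∀ n : ℕ, ((q ^ n - 1 : ℕ) : ℤ) = (q : ℤ) ^ n - 1 := fun n => by
    rw [Nat.cast_sub (Nat.one_le_pow _ _ (by omega)), Nat.cast_pow, Nat.cast_one]
  obtain ⟨x, hx⟩ : ∃ x : ℕ, x = q ^ (r + 2) := ⟨_, rfl⟩
  have hxZ : (x : ℤ) = (q : ℤ) ^ (r + 2) := by rw [hx, Nat.cast_pow]
  have hxq : q ^ 2 ≤ x := by
    rw [hx]
    exact Nat.pow_le_pow_right (by omega) (by omega)
  have e1 : (q : ℤ) ^ (2 * (r + 3)) = (q : ℤ) ^ 2 * (x : ℤ) ^ 2 := by rw [hxZ]; ring
  have e2 : (q : ℤ) ^ (2 * (r + 1 + 1)) = (x : ℤ) ^ 2 := by rw [hxZ]; ring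
  have e3 : (q : ℤ) ^ (2 * (r + 1 + 1 + 1)) = (q : ℤ) ^ 2 * (x : ℤ) ^ 2 := by rw [hxZ]; ring
  have e4 : (q : ℤ) ^ (r + 3) = (q : ℤ) * x := by rw [hxZ]; ring
  -- integer equations
  have hqZ : (3 : ℤ) ≤ q := by exact_mod_cast (by omega : 3 ≤ q)
  have hqZ' : (q : ℤ) = 3 ∨ (5 : ℤ) ≤ q := by
    rcases hq3 with h | h
    · left; exact_mod_cast h
    · right; exact_mod_cast h
  have hxqZ : (q : ℤ) ^ 2 ≤ x := by exact_mod_cast hxq
  have hx9 : (9 : ℤ) ≤ x := by nlinarith only [hxq, hqZ]
  have hPZ : (1 : ℤ) ≤ P := by exact_mod_cast hP1
  have haZ : ((q : ℤ) ^ 2 - 1) * a = (q : ℤ) ^ 2 * (x : ℤ) ^ 2 - 1 := by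
    have := congrArg (Nat.cast : ℕ → ℤ) ha
    rwa [Nat.cast_mul, cst, cst, e1] at this
  have hbZ : ((q : ℤ) ^ 2 - 1) * b = q * ((q : ℤ) ^ 2 * (x : ℤ) ^ 2 - 1) := by
    have := congrArg (Nat.cast : ℕ → ℤ) hb
    rwa [Nat.cast_mul, Nat.cast_mul, cst, cst, e1] at this
  have hsZ : 2 * ((q : ℤ) - 1) * s = q * ((x : ℤ) + 1) * (q * x - 1) := by
    rw [show r + 3 - 1 = r + 2 by omega, ← hxZ, e4] at hs
    exact hs
  have htZ : 2 * ((q : ℤ) - 1) * t = q * ((x : ℤ) - 1) * (q * x + 1) := by
    rw [show r + 3 - 1 = r + 2 by omega, ← hxZ, e4] at ht
    exact ht
  have hD1Z : (D1 : ℤ) = P * ((x : ℤ) + 1) * ((q : ℤ) ^ 2 * (x : ℤ) ^ 2 - 1) := by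
    have := congrArg (Nat.cast : ℕ → ℤ) hD1
    rw [Nat.cast_mul, Nat.cast_mul, Nat.cast_mul, cst, cst, cst, e2, e3, ← hxZ] at this
    have h3 : (x : ℤ) - 1 ≠ 0 := by
      have : (0 : ℤ) < x - 1 := by linarith only [hx9]
      exact this.ne'
    apply mul_right_cancel₀ h3
    rw [this]
    ring
  have hDmZ : (Dm : ℤ) = ((q : ℤ) ^ 2 - 1) * P * ((x : ℤ) ^ 2 - 1) * (q * x + 1) := by
    have := congrArg (Nat.cast : ℕ → ℤ) hDm
    rw [Nat.cast_mul, Nat.cast_mul, Nat.cast_mul, Nat.cast_mul, cst, cst, cst, cst, e2, e3, e4] at this
    have h3 : (q : ℤ) * x - 1 ≠ 0 := by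
      have : (0 : ℤ) < q * x - 1 := by nlinarith only [hcard, hxq, hqZ]
      exact this.ne'
    apply mul_right_cancel₀ h3
    rw [this]
    ring
  -- inequalities
  have i1 := arith_g hqZ hxqZ haZ
  have i2 := arith_D1 hqZ hxqZ hPZ haZ hD1Z
  have i3 := arith_Dm hqZ hxqZ hPZ hD1Z hDmZ
  have i4 := arith_st hqZ hsZ htZ
  obtain ⟨i5, i6⟩ := arith_B hqZ hxqZ hsZ htZ hbZ
  obtain ⟨i7, i8⟩ := arith_St hqZ hxqZ hsZ (Int.natCast_nonneg s) (Int.natCast_nonneg b) hbZ
  have i9 : q ^ 3 * x ^ 3 ≤ St := by
    refine le_trans ?_ hSt
    have : q ^ 3 * x ^ 3 = q ^ (3 * (r + 3)) := by rw [hx]; ring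
    rw [this]
    refine Nat.pow_le_pow_right (by omega) ?_
    nlinarith only []
  have j1 : 4 < a := by exact_mod_cast i1
  have j2 : 4 * a < D1 := by exact_mod_cast i2
  have j3 : D1 ≤ Dm := by exact_mod_cast i3
  have j4 : s = t + q * x := by exact_mod_cast i4
  have j5 : s < b := by exact_mod_cast i5
  have j6 : b < 2 * t := by exact_mod_cast i6
  have j7 : s < q ^ 3 * x ^ 3 := by exact_mod_cast i7
  have j8 : b < q ^ 3 * x ^ 3 := by exact_mod_cast i8
  have j9 : 0 < q * x := by
    have : 0 < x := by exact_mod_cast (by linarith only [hx9] : (0 : ℤ) < x)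
    exact Nat.mul_pos (by omega) this
  have k1 : 1 < g' := by rcases hu with rfl | rfl | rfl <;> (clear * - h2 i1 hg'; omega)
  have k2 : g' ≤ a := by rcases hu with rfl | rfl | rfl <;> omega
  have k3 : g' < D1' := by rcases hy with rfl | rfl | rfl <;> omega
  have k4 : g' < Dm' := by rcases hw with rfl | rfl | rfl <;> omega
  have k5 : D1' ≠ Dm' := by
    rintro rfl
    have h3 : (Dm : ℤ) = D1' * w := by exact_mod_cast hDm'
    have h4 : (D1 : ℤ) = D1' * y := by exact_mod_cast hD1'
    exact arith_ne hqZ' hxqZ hPZ hD1Z hDmZ h3 h4 (by rcases hw with rfl | rfl | rfl <;> simp)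
      (by rcases hy with rfl | rfl | rfl <;> simp)
  -- divisibility
  have hpodd : ∀ {n l : ℕ}, (l = 1 ∨ l = 2 ∨ l = 4) → p ∣ n * l → p ∣ n := by
    intro n l hl h
    rcases hp.dvd_mul.1 h with h1 | h1
    · exact h1
    · exfalso
      have h3 : p ∣ 2 ^ 2 := h1.trans (by rcases hl with rfl | rfl | rfl <;> norm_num)
      exact hp2 ((Nat.prime_dvd_prime_iff_eq hp Nat.prime_two).1 (hp.dvd_of_dvd_pow h3))
  have hpq1 : ¬ (p : ℤ) ∣ (q : ℤ) - 1 := by
    intro h
    have h3 : (p : ℤ) ∣ 1 := by
      have h4 : (p : ℤ) ∣ q := Int.natCast_dvd_natCast.2 hpq
      have := dvd_sub h4 h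
      simpa only [_root_.sub_sub_cancel] using this
    exact hp.one_lt.ne' (Nat.dvd_one.1 (by exact_mod_cast h3))
  have hp2Z : ¬ (p : ℤ) ∣ 2 := by
    intro h
    exact hp2 ((Nat.prime_dvd_prime_iff_eq hp Nat.prime_two).1 (by exact_mod_cast h))
  have hpZ : Prime (p : ℤ) := Nat.prime_iff_prime_int.1 hp
  have hpqZ : (p : ℤ) ∣ q := Int.natCast_dvd_natCast.2 hpq
  have l1 : ¬ p ∣ 1 := fun h => hp.one_lt.ne' (Nat.dvd_one.1 h)
  have l2 : ¬ p ∣ g' := by
    intro h
    have h3 : (p : ℤ) ∣ a := Int.natCast_dvd_natCast.2 (hg' ▸ Dvd.dvd.mul_right h u)
    have h4 : (p : ℤ) ∣ 1 := by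
      have h5 : (p : ℤ) ∣ ((q : ℤ) ^ 2 - 1) * a := Dvd.dvd.mul_left h3 _
      rw [haZ] at h5
      have h6 : (p : ℤ) ∣ (q : ℤ) ^ 2 * (x : ℤ) ^ 2 := Dvd.dvd.mul_right (dvd_pow hpqZ two_ne_zero) _
      have := dvd_sub h6 h5
      simpa only [_root_.sub_sub_cancel] using this
    exact hp.one_lt.ne' (Nat.dvd_one.1 (by exact_mod_cast h4))
  have l3 : ¬ p ∣ D1' := fun h => hpD1 (Dvd.dvd.mul_right (hD1' ▸ Dvd.dvd.mul_right h y) _)
  have l4 : ¬ p ∣ Dm' := fun h => hpDm (Dvd.dvd.mul_right (hDm' ▸ Dvd.dvd.mul_right h w) _)
  have l5 : p ∣ t := by
    have h3 : (p : ℤ) ∣ 2 * ((q : ℤ) - 1) * t := by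
      rw [htZ]
      exact Dvd.dvd.mul_right (Dvd.dvd.mul_right hpqZ _) _
    rcases hpZ.dvd_mul.1 h3 with h4 | h4
    · rcases hpZ.dvd_mul.1 h4 with h5 | h5
      · exact absurd h5 hp2Z
      · exact absurd h5 hpq1
    · exact Int.natCast_dvd_natCast.1 h4
  have l6 : p ∣ s := by
    rw [j4]
    exact dvd_add l5 (Dvd.dvd.mul_right hpq x)
  have l7 : p ∣ B' := by
    apply hpodd hv
    rw [← hB']
    have h3 : (p : ℤ) ∣ ((q : ℤ) ^ 2 - 1) * b := by
      rw [hbZ]
      exact Dvd.dvd.mul_right hpqZ _
    rcases hpZ.dvd_mul.1 h3 with h4 | h4
    · exfalso
      have h5 : (p : ℤ) ∣ 1 := by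
        have := dvd_sub (dvd_pow hpqZ two_ne_zero) h4
        simpa using this
      exact hp.one_lt.ne' (Nat.dvd_one.1 (by exact_mod_cast h5))
    · exact Int.natCast_dvd_natCast.1 h4
  refine eight_of_list [1, g', D1', Dm', t, s, B', St] (nodup_eight (P := fun n => p ∣ n) l1 l2 l3 l4 l5 l6 l7 hSt' k1 k3
    k4 k5 (by omega) ?_ ?_ ?_ ?_ ?_) (le_refl 8) ?_
  · rcases hv with rfl | rfl | rfl <;> omega
  · omega
  · rcases hv with rfl | rfl | rfl <;> omega
  · omega
  · rcases hv with rfl | rfl | rfl <;> omega
  · intro d hd
    simp only [List.mem_cons, List.not_mem_nil, or_false] at hd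
    rcases hd with rfl | rfl | rfl | rfl | rfl | rfl | rfl | rfl
    · exact _root_.Cfsg.Agent.H664.Eight.one_mem
    · exact mem_of_ch cg
    · exact mem_of_ch cD1
    · exact mem_of_ch cDm
    · exact mem_of_ch ct
    · exact mem_of_ch cs
    · exact mem_of_ch cB
    · exact mem_of_ch cSt

end main

/-- **`PΩ_{2m+1}(q)` has at least eight character degrees** -/
theorem eight_oo {F : Type u} [Field F] [Fintype F] (ho : Odd (Fintype.card F)) {m : ℕ} (hm : 3 ≤ m) :
    Eight (POmega F (quadFormOdd m F)) := by
  obtain ⟨p, hp⟩ := CharP.exists F
  have hpr : p.Prime := (CharP.char_is_prime_or_zero F p).resolve_right (CharP.char_ne_zero_of_finite F p)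
  have : Fact p.Prime := ⟨hpr⟩
  obtain ⟨r, rfl⟩ : ∃ r, m = r + 3 := ⟨m - 3, by omega⟩
  exact eight_aux F (p := p) (by rwa [Nat.card_eq_fintype_card]) r

end Cfsg.Agent.H539.Eight
end

-- part: H934/Eight/CusOne
section
prune_inst 0x120744458c002000000058041003ec697000090006b8001e92402440e88c74b80428f21b490171291eeb2e458784048111001b9421000000a003400411b01a08883560672d1ae08be000f00080441000000000000000000000080000000000400c010000
set_option linter.all false
open scoped Cfsg.Agent.FastGrp

/-!
# A linear character of `K^*`, `|K| = q²`, for the unitary groups (helper934)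

`exists_cusU_one` : `exists_cusU` for `k = 1`, `q ≥ 4`.
-/

set_option autoImplicit false

open scoped ComplexConjugate
open Cfsg

namespace Cfsg.Agent.H934.Eight

open Cfsg.Agent.OddOrderCharacters.Clifford Cfsg.Agent.Characters MulAction Module Cfsg.Agent.H53.HC
open Cfsg.Agent.H139.Cusp Cfsg.Agent.H477.HC Cfsg.Agent.H345.CusU

universe u

theorem size_dual_one {q : ℕ} (hq : 4 ≤ q) : ¬ ((q ^ 2) ^ 1 - 1) ∣ (q + 1) * (q ^ 2) ^ 0 + (q + 1) * q := by
  obtain ⟨r, rfl⟩ : ∃ r, q = r + 4 := ⟨q - 4, by omega⟩
  rintro ⟨c, hc⟩
  have h1 : ((r + 4) ^ 2) ^ 1 - 1 = (r + 5) * (r + 3) := by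
    rw [pow_one]
    have : (r + 4) ^ 2 = (r + 5) * (r + 3) + 1 := by ring
    rw [this, Nat.add_sub_cancel]
  rw [h1, pow_zero] at hc
  have h2 : (r + 5) * (r + 5) = (r + 5) * ((r + 3) * c) := by
    rw [← mul_assoc, ← hc]; ring
  have h3 := Nat.eq_of_mul_eq_mul_left (by omega) h2
  rcases c with _ | _ | c
  · omega
  · omega
  · have : (r + 3) * (c + 1 + 1) = (r + 3) * c + 2 * (r + 3) := by ring
    rw [this] at h3
    have := Nat.zero_le ((r + 3) * c)
    omega

theorem exists_cusU_one {K : Type u} [Field K] [Finite K] {q : ℕ} (hq : Nat.card K = q ^ 2) (hq4 : 4 ≤ q) :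
    ∃ c : GL (Fin 1) K → ℂ, Cus K 1 (CForm.powHom hq) (fun z => z ^ (q + 1) = 1) c := by
  classical
  have hk0 : 0 < 1 := by omega
  have hq2 : 2 ≤ q := by omega
  obtain ⟨L, _, _, _, hL⟩ := exists_L K 1 hk0
  obtain ⟨θ, hθ⟩ := exists_theta L
  have hcardL : Nat.card Lˣ = Nat.card K ^ 1 - 1 := by
    rw [Nat.card_units, Module.natCard_eq_pow_finrank (K := K), hL]
  have ha : q + 1 ≠ 0 := by omega
  have hb : (q + 1) * q ≠ 0 := Nat.mul_ne_zero ha (by omega)
  have hR : Regular K 1 (powTheta θ (q + 1) ha) := (regular_powTheta_iff hθ ha hL).2 (by
    intro i hi hik h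
    omega)
  refine ⟨psi L (powTheta θ (q + 1) ha), psi_isIrr _ hL hR, psi_isCusp L _, ?_, ?_, ?_⟩
  · intro h
    have h1 : ∀ g : ((Fin 1 → K) →ₗ[K] (Fin 1 → K))ˣ,
        cusp L (powTheta θ (q + 1) ha) (g : (Fin 1 → K) →ₗ[K] (Fin 1 → K)) =
        cusp L (conjTheta (powTheta θ ((q + 1) * q) hb)) (g : (Fin 1 → K) →ₗ[K] (Fin 1 → K)) := by
      intro g
      let A : GL (Fin 1) K := Matrix.GeneralLinearGroup.toLin.symm g
      have h2 := congrFun h A
      rw [Function.comp_apply, MonoidHom.comp_apply,
        psi_map_pow (powTheta θ (q + 1) ha) (powTheta θ ((q + 1) * q) hb) hL hq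
          (fun x => by rw [powTheta_apply, powTheta_apply, map_pow, ← pow_mul, mul_comm q]),
        psi_invT _ hL] at h2
      have h4 : ∀ θ₁ : L →*₀ ℂ, psi L θ₁ A = cusp L θ₁ (g : (Fin 1 → K) →ₗ[K] (Fin 1 → K)) := by
        intro θ₁
        have h5 : Matrix.GeneralLinearGroup.toLin A = g := MulEquiv.apply_symm_apply _ g
        rw [← h5]
        rfl
      rw [h4, h4, cusp_star] at h2
      exact h2.symm
    obtain ⟨i, hi, h2⟩ := (cusp_eq_iff (V := Fin 1 → K) (powTheta θ (q + 1) ha)
      (conjTheta (powTheta θ ((q + 1) * q) hb))
      (by rw [Module.finrank_fin_fun, hL]) (by rw [hL]; exact hR)).1 h1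
    rw [hL] at hi
    have h3 := (conj_powTheta_eq_iff hθ ha hb (pow_ne_zero i (Nat.card_pos (α := K)).ne')).1 h2
    rw [hcardL, hq] at h3
    obtain rfl : i = 0 := by omega
    exact size_dual_one hq4 h3
  · intro z hz
    have h1 := psi_scalar (powTheta θ (q + 1) ha) hL z 1
    rw [mul_one] at h1
    rw [h1, powTheta_eq_one ha, one_mul]
    rw [← map_pow, ← Units.val_pow_eq_pow_val, hz, Units.val_one, map_one]
  · rw [psi_one L _ hk0, degP_eq_Ico]

end Cfsg.Agent.H934.Eight
end

-- part: H934/Eight/Chars
section
prune_inst 0x100744558c00200001c058251003e879700019000288001e82402460e88cf2a8042a921bcb0110090e0a2c45039004811000130420000000a000400011901a08883460473e5a10ca6000980008041000000000000000000000080000000000400c010000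
set_option linter.all false
open scoped Cfsg.Agent.FastGrp

/-!
# Characters of `PSU₄(q)` (helper934)
-/

set_option autoImplicit false

open scoped ComplexConjugate
open Cfsg

namespace Cfsg.Agent.H934.Eight

open Module Cfsg.Agent.H477.HC Cfsg.Agent.H477.HC.CForm Cfsg.Agent.H113.PSU.Levi

universe u v

section unitary

variable {F : Type u} [Field F] [Fintype F] {q : ℕ}

theorem card_Om_four (hF : Nat.card F = q ^ 2) :
    Nat.card ((CForm.hermF F hF 4).Om 1) = (q ^ 2 + 1) * (q ^ 3 + 1) := by
  classical
  have hq2 : 2 ≤ q := CForm.two_le_of_card hF
  have hF' : Fintype.card F = q ^ 2 := by rw [← Nat.card_eq_fintype_card, hF]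
  have h1 := CForm.card_sing (F := CForm.hermF F hF 4)
  have h2 : Nat.card {v : Fin 4 → F // (CForm.hermF F hF 4).Sing v} = Nat.card {v : Fin 4 → F // hermForm 4 F q v v = 0} :=
    Nat.card_congr (Equiv.subtypeEquivRight fun v => ⟨fun h => h.2, fun h => ⟨h, h⟩⟩)
  have h3 := LieClassical.HermCount.card_isotropic hF' 4
  rw [if_pos (by decide)] at h3
  rw [h2, h3, hF] at h1
  have h4 : (q ^ 2 - 1) * Nat.card (CForm.hermF F hF 4).Pt = (q ^ 4 - 1) * (q ^ (4 - 1) + 1) := by omega
  have h5 : q ^ 4 - 1 = (q ^ 2 - 1) * (q ^ 2 + 1) := by
    have := Nat.sq_sub_sq (q ^ 2) 1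
    rw [one_pow] at this
    rw [mul_comm, ← this]
    ring_nf
  have h6 : 0 < q ^ 2 - 1 := by
    have : 2 ^ 2 ≤ q ^ 2 := Nat.pow_le_pow_left hq2 2
    omega
  rw [h5, mul_assoc] at h4
  exact Nat.eq_of_mul_eq_mul_left h6 h4

/-- `(q² + 1)(q³ + 1)/t` -/
theorem ch_six (hF : Fintype.card F = q ^ 2) (hq4 : 4 ≤ q) :
    ∃ e, Ch (PSU 4 F q) e ∧ e ∣ (q ^ 2 + 1) * (q ^ 3 + 1) ∧ (q ^ 2 + 1) * (q ^ 3 + 1) / e ∣ q + 1 := by
  have hF' : Nat.card F = q ^ 2 := by rw [Nat.card_eq_fintype_card, hF]
  obtain ⟨c, hc⟩ := exists_cusU_one hF' hq4
  obtain ⟨χ, hχ, hχ1, hχz⟩ := gu_char (k := 1) (n' := 2) hF' hc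
  have h1 : dg (CForm.hermF F hF' (1 + (1 + 2))) 1 = (q ^ 2 + 1) * (q ^ 3 + 1) := by
    unfold dg
    rw [Finset.Ico_self, Finset.prod_empty, mul_one]
    exact card_Om_four hF'
  rw [h1] at hχ1
  obtain ⟨η, e, hη, he, he0, hed, hdt⟩ := H113.PSU.Descent.exists_psu hF (by omega) hχ hχ1 hχz
  exact ⟨e, ⟨η, hη, he⟩, hed, hdt⟩

/-- `(q + 1)(q² - 1)(q³ + 1)/t` -/
theorem ch_eight (hF : Fintype.card F = q ^ 2) {p : ℕ} [Fact p.Prime] [CharP F p] :
    ∃ e t a, Ch (PSU 4 F q) e ∧ t ∣ q + 1 ∧ (q + 1) * (q ^ 2 - 1) * (q ^ 3 + 1) ∣ p ^ a * (e * t) := by
  obtain ⟨η, e, t, a, h1, h2, h3, h4⟩ := levi_char (q := q) hF (fun hq k hk => H345.CusU.exists_cusU hq k hk)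
    (p := p) (n := 4) le_rfl
  refine ⟨e, t, a, ⟨η, h1, h2⟩, h3, ?_⟩
  refine (dvd_of_eq ?_).trans h4
  unfold AA
  rw [if_pos (by decide)]
  have h5 : ¬ Even 3 := by decide
  simp [Finset.prod_range_succ, uu, h5]

end unitary

section orth

variable (K : Type u) [Field K] [Finite K]

theorem card_Om_six {a b : K} (hab : ∀ z₁ z₂ : K, z₁ ^ 2 + a * z₁ * z₂ + b * z₂ ^ 2 = 0 → z₁ = 0 ∧ z₂ = 0) :
    Nat.card ((CForm.minusF K 2 a b hab).Om 1) = (Nat.card K + 1) * (Nat.card K ^ 3 + 1) := by
  classical
  have hfin := Fintype.ofFinite K
  have hq : 2 ≤ Nat.card K := Finite.one_lt_card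
  have hc : Fintype.card K = Nat.card K := Nat.card_eq_fintype_card.symm
  have h1 := CForm.card_sing (F := CForm.minusF K 2 a b hab)
  have h2 := S0290.result hc 3 (by omega) a b hab
  have h3 := num_minus hq 2
  rw [card_Sing_quad] at h1
  have h4 : (Nat.card K - 1) * Nat.card (CForm.minusF K 2 a b hab).Pt + 1 =
      (Nat.card K ^ 2 - 1) * (Nat.card K ^ 3 + 1) + 1 := h1.trans (h2.trans h3)
  have h5 : Nat.card K ^ 2 - 1 = (Nat.card K - 1) * (Nat.card K + 1) := by
    have := Nat.sq_sub_sq (Nat.card K) 1
    rw [one_pow] at this
    rw [this, mul_comm]
  rw [h5, mul_assoc] at h4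
  exact Nat.eq_of_mul_eq_mul_left (by omega) (Nat.add_right_cancel h4)

/-- `(q + 1)(q³ + 1)/t` -/
theorem ch_nine (hq4 : 4 ≤ Nat.card K) {a b : K}
    (hab : ∀ z₁ z₂ : K, z₁ ^ 2 + a * z₁ * z₂ + b * z₂ ^ 2 = 0 → z₁ = 0 ∧ z₂ = 0)
    (hidx : (Omega K (quadFormMinus 2 K a b)).index ∣ 8)
    (hcen : Nat.card K % 4 ≠ 3 → ∀ z : Omega K (quadFormMinus 2 K a b), z ∈ Subgroup.center _ → z = 1) :
    ∃ e, Ch (POmega K (quadFormMinus 2 K a b)) e ∧ e ∣ (Nat.card K + 1) * (Nat.card K ^ 3 + 1) ∧
      (Nat.card K + 1) * (Nat.card K ^ 3 + 1) / e ∣ 8 := by
  classical
  obtain ⟨p, hp⟩ := CharP.exists K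
  have hpr : p.Prime := (CharP.char_is_prime_or_zero K p).resolve_right (CharP.char_ne_zero_of_finite K p)
  have : Fact p.Prime := ⟨hpr⟩
  obtain ⟨Z, c, hc, hZ⟩ : ∃ (Z : Kˣ → Prop) (c : GL (Fin 1) K → ℂ), Cus K 1 (RingHom.id K) Z c ∧
      ∀ z : Omega K (quadFormMinus 2 K a b), z ∈ Subgroup.center (Omega K (quadFormMinus 2 K a b)) →
        ∃ a : Kˣ, Z a ∧ ∀ v, (omMat z).mulVec v = (a : K) • v := by
    by_cases h3 : Nat.card K % 4 = 3
    · obtain ⟨c, hc⟩ := exists_cus_two (K := K) rfl (by omega) 1 one_pos (by rw [pow_one]; omega) (by omega)
      exact ⟨_, c, hc, fun z hz => scal_of (cen_minus K (by omega) a b hab z hz)⟩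
    · obtain ⟨c, hc⟩ := exists_cus_one (K := K) rfl 1 one_pos (by rw [pow_one]; omega) (by omega)
      refine ⟨_, c, hc, fun z hz => ⟨1, one_pow 1, fun v => ?_⟩⟩
      rw [hcen h3 z hz, Units.val_one, one_smul]
      change (1 : Matrix _ _ K).mulVec v = v
      rw [Matrix.one_mulVec]
  obtain ⟨⟨W₀, hW₀⟩, -⟩ := CForm.minusF_frame (K := K) (p := p) hab 1 1
  obtain ⟨χ, hχ, hχ1, hχz⟩ := om_char (CForm.minusF K (1 + 1) a b hab) (minus_hB K (1 + 1) a b hab) hW₀ hc
  have h1 : dg (CForm.minusF K (1 + 1) a b hab) 1 = (Nat.card K + 1) * (Nat.card K ^ 3 + 1) := by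
    unfold dg
    rw [Finset.Ico_self, Finset.prod_empty, mul_one]
    exact card_Om_six K hab
  rw [h1] at hχ1
  obtain ⟨e, h2, h3, h4, h5⟩ := ch_down (Omega K (quadFormMinus 2 K a b)) hχ hχ1 (fun z hz => by
    obtain ⟨c', hc', hc''⟩ := hZ z hz
    exact hχz z c' hc' hc'')
  exact ⟨e, h2, h3, h4.trans hidx⟩

theorem six_idx {F : Type v} [Field F] [Fintype F] (hF : Fintype.card F = Nat.card K ^ 2) {a b : K}
    (hab : ∀ z₁ z₂ : K, z₁ ^ 2 + a * z₁ * z₂ + b * z₂ ^ 2 = 0 → z₁ = 0 ∧ z₂ = 0) :
    (Omega K (quadFormMinus 2 K a b)).index * Nat.card (Subgroup.center (Omega K (quadFormMinus 2 K a b))) =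
      2 * Nat.gcd 4 (Nat.card K + 1) := by
  classical
  let _ := Fintype.ofFinite K
  have hc : Fintype.card K = Nat.card K := Nat.card_eq_fintype_card.symm
  refine idx_eq (quadFormMinus 2 K a b) (g := Nat.gcd 4 (Nat.card K + 1))
    (X := Nat.card K ^ 6 * (Nat.card K ^ 3 + 1) * ∏ i ∈ Finset.range 2, (Nat.card K ^ (2 * (i + 1)) - 1)) ?_ ?_
  · have := Cfsg.Agent.S0288.result (F := K) hc 3 (by omega) a b hab
    rw [show (3 : ℕ) - 1 = 2 from rfl] at this
    rw [this]
    ring
  · obtain ⟨φ⟩ := S0303.result hc hF a b hab
    have h1 := S0280.result hF 4 (by omega)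
    rw [Nat.card_congr φ.toEquiv]
    have h2 : (Nat.card K + 1) * (Nat.gcd 4 (Nat.card K + 1) * Nat.card (PSU 4 F (Nat.card K))) =
        (Nat.card K + 1) * (Nat.card K ^ 6 * (Nat.card K ^ 3 + 1) *
          ∏ i ∈ Finset.range 2, (Nat.card K ^ (2 * (i + 1)) - 1)) := by
      have h3 : ¬ Even 3 := by decide
      have h4 : ¬ Even 1 := by decide
      have h5 : Even 2 := by decide
      simp only [Finset.prod_range_succ, Finset.prod_range_zero, one_mul, h3, h4, h5, if_true, if_false,
        Even.zero] at h1
      calc _ = Nat.gcd 4 (Nat.card K + 1) * ((Nat.card K + 1) * Nat.card (PSU 4 F (Nat.card K))) := by ring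
        _ = _ := by
          rw [h1]
          simp only [Finset.prod_range_succ, Finset.prod_range_zero, one_mul]
          norm_num
          ring
    exact Nat.eq_of_mul_eq_mul_left (by omega) h2

theorem six_idx_dvd {F : Type v} [Field F] [Fintype F] (hF : Fintype.card F = Nat.card K ^ 2) {a b : K}
    (hab : ∀ z₁ z₂ : K, z₁ ^ 2 + a * z₁ * z₂ + b * z₂ ^ 2 = 0 → z₁ = 0 ∧ z₂ = 0) :
    (Omega K (quadFormMinus 2 K a b)).index ∣ 8 :=
  (Dvd.intro _ (six_idx K hF hab)).trans
    ((Nat.mul_dvd_mul_left 2 (Nat.gcd_dvd_left 4 _)).trans (by norm_num))

theorem six_cen {F : Type v} [Field F] [Fintype F] (hF : Fintype.card F = Nat.card K ^ 2) {a b : K}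
    (hab : ∀ z₁ z₂ : K, z₁ ^ 2 + a * z₁ * z₂ + b * z₂ ^ 2 = 0 → z₁ = 0 ∧ z₂ = 0) (h3 : Nat.card K % 4 ≠ 3)
    (z : Omega K (quadFormMinus 2 K a b)) (hz : z ∈ Subgroup.center (Omega K (quadFormMinus 2 K a b))) : z = 1 := by
  classical
  obtain ⟨p, hp⟩ := CharP.exists K
  have hpr : p.Prime := (CharP.char_is_prime_or_zero K p).resolve_right (CharP.char_ne_zero_of_finite K p)
  have : Fact p.Prime := ⟨hpr⟩
  rcases Nat.even_or_odd (Nat.card K) with he | ho
  · -- characteristic two: `-1 = 1`
    have h2 : (2 : K) = 0 := by
      have h1 : ((Nat.card K : ℕ) : K) = 0 := by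
        have := Fintype.ofFinite K
        rw [Nat.card_eq_fintype_card]
        exact FiniteField.cast_card_eq_zero K
      obtain ⟨k, hk⟩ := he
      obtain ⟨⟨p', n, hp', hn, hpn⟩⟩ : Nonempty (Σ' (p' n : ℕ) (_ : p'.Prime) (_ : 0 < n), Nat.card K = p' ^ n) := by
        obtain ⟨n, hn⟩ := card_pow K p
        refine ⟨⟨p, n, hpr, ?_, hn⟩⟩
        rcases Nat.eq_zero_or_pos n with rfl | h
        · have : 1 < Nat.card K := Finite.one_lt_card
          rw [hn, pow_zero] at this
          omega
        · exact h
      have hp2 : p = 2 := by
        obtain ⟨n, hn⟩ := card_pow K p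
        have h2 : 2 ∣ p ^ n := by rw [← hn, hk]; exact ⟨k, by ring⟩
        exact ((Nat.prime_dvd_prime_iff_eq Nat.prime_two hpr).1 (Nat.prime_two.dvd_of_dvd_pow h2)).symm
      subst hp2
      exact_mod_cast CharP.cast_eq_zero K 2
    have hm := cen_minus K (show 1 ≤ 2 by omega) a b hab z hz
    have h1 : omMat z = 1 := by
      rcases hm with h | h
      · exact h
      · rw [h]
        ext i j
        have h4 : (-1 : K) = 1 := by linear_combination -h2
        rcases eq_or_ne i j with rfl | hij
        · simp [h4]
        · simp [hij]
    apply Subtype.ext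
    apply Subtype.ext
    apply Units.ext
    exact h1
  · have h1 := six_idx K hF hab
    rw [minus_idx_four K (p := p) ho a b hab 2] at h1
    have h2 : Nat.gcd 4 (Nat.card K + 1) = 2 := by
      have h4 : Nat.card K % 4 = 1 := by
        obtain ⟨k, hk⟩ := ho; omega
      have h5 : (Nat.card K + 1) % 4 = 2 := by omega
      rw [Nat.gcd_rec, h5]
      norm_num
    rw [h2] at h1
    have h3 : Nat.card (Subgroup.center (Omega K (quadFormMinus 2 K a b))) = 1 := by omega
    have h4 := (Subgroup.card_eq_one).1 h3
    rw [h4, Subgroup.mem_bot] at hz
    exact hz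

end orth

end Cfsg.Agent.H934.Eight

private theorem dce_157cc5e89fc9 : _root_.True := by
  try have : _root_.True := by simp only [_root_.Cfsg.Agent.H113.PSU.Levi.uu.eq_1]
  exact _root_.True.intro
end

-- part: H934/Eight/Num
section
prune_inst 0x120544158c0020000040592510020851500019000208001f92407460a0ed36a8042a1004c801c00106ab28018010000001000f0400000000a0034000003012088aa160471f50f0c8e000f803087590c0000000000000000000080000004100400c010000
set_option linter.all false
open scoped Cfsg.Agent.FastGrp

/-!
# Arithmetic of the degrees of `PSU₄(q)` (helper934)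
-/

set_option autoImplicit false

namespace Cfsg.Agent.H934.Eight

theorem exists_a {q : ℕ} (hq : 2 ≤ q) : ∃ a, a.Prime ∧ a ≠ 2 ∧ a ∣ q ^ 2 + 1 := by
  rcases Nat.even_or_odd' q with ⟨k, rfl | rfl⟩
  · have h1 : (2 * k) ^ 2 + 1 ≠ 1 := by
      have : 0 < (2 * k) ^ 2 := by positivity
      omega
    obtain ⟨a, ha, had⟩ := Nat.exists_prime_and_dvd h1
    refine ⟨a, ha, ?_, had⟩
    rintro rfl
    have h2 : (2 * k) ^ 2 = 2 * (2 * k ^ 2) := by ring
    omega
  · have h1 : 2 * (k * (k + 1)) + 1 ≠ 1 := by
      have : 0 < k * (k + 1) := Nat.mul_pos (by omega) (by omega)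
      omega
    obtain ⟨a, ha, had⟩ := Nat.exists_prime_and_dvd h1
    refine ⟨a, ha, ?_, ?_⟩
    · rintro rfl
      omega
    · have h2 : (2 * k + 1) ^ 2 + 1 = 2 * (2 * (k * (k + 1)) + 1) := by ring
      rw [h2]
      exact Dvd.dvd.mul_left had _

theorem exists_l {q m : ℕ} (hq : 3 ≤ q) (hm : m + q = q ^ 2 + 1) : ∃ l, l.Prime ∧ l ≠ 3 ∧ l ∣ m := by
  have hm3 : 3 < m := by nlinarith
  by_cases h3 : 3 ∣ m
  · obtain ⟨n, rfl⟩ := h3
    have hn : ¬ 3 ∣ n := by
      rintro ⟨c, rfl⟩
      have h1 : (3 * (3 * c) + q) % 9 = (q ^ 2 + 1) % 9 := by rw [hm]
      rw [Nat.add_mod, Nat.add_mod (q ^ 2), Nat.pow_mod] at h1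
      have h2 : 3 * (3 * c) % 9 = 0 := by omega
      rw [h2] at h1
      have h3 : q % 9 < 9 := Nat.mod_lt _ (by norm_num)
      interval_cases q % 9 <;> simp at h1
    obtain ⟨l, hl, hld⟩ := Nat.exists_prime_and_dvd (show n ≠ 1 by omega)
    refine ⟨l, hl, ?_, Dvd.dvd.mul_left hld _⟩
    rintro rfl
    exact hn hld
  · obtain ⟨l, hl, hld⟩ := Nat.exists_prime_and_dvd (show m ≠ 1 by omega)
    refine ⟨l, hl, ?_, hld⟩
    rintro rfl
    exact h3 hld

section

variable {q : ℕ}

theorem a_not_q {a : ℕ} (ha : a.Prime) (h : a ∣ q ^ 2 + 1) : ¬ a ∣ q := by
  intro h1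
  have h2 : a ∣ q ^ 2 := dvd_pow h1 two_ne_zero
  have h3 := (Nat.dvd_add_right h2).1 h
  exact ha.one_lt.ne' (Nat.dvd_one.1 h3)

theorem a_not_succ {a : ℕ} (ha : a.Prime) (h2 : a ≠ 2) (h : a ∣ q ^ 2 + 1) : ¬ a ∣ q + 1 := by
  intro h1
  have h3 : ((a : ℕ) : ℤ) ∣ (q : ℤ) + 1 := by exact_mod_cast h1
  have h4 : ((a : ℕ) : ℤ) ∣ (q : ℤ) ^ 2 + 1 := by exact_mod_cast h
  have h5 : ((a : ℕ) : ℤ) ∣ 2 := by
    have h6 := Int.dvd_sub h4 (Dvd.dvd.mul_right h3 ((q : ℤ) - 1))
    have e : (q : ℤ) ^ 2 + 1 - ((q : ℤ) + 1) * ((q : ℤ) - 1) = 2 := by ring
    rwa [e] at h6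
  have h7 : a ∣ 2 := by exact_mod_cast h5
  exact h2 ((Nat.prime_dvd_prime_iff_eq ha Nat.prime_two).1 h7)

theorem a_not_cube {a : ℕ} (ha : a.Prime) (h2 : a ≠ 2) (h : a ∣ q ^ 2 + 1) : ¬ a ∣ q ^ 3 + 1 := by
  intro h1
  have h3 : ((a : ℕ) : ℤ) ∣ (q : ℤ) ^ 3 + 1 := by exact_mod_cast h1
  have h4 : ((a : ℕ) : ℤ) ∣ (q : ℤ) ^ 2 + 1 := by exact_mod_cast h
  have h5 : ((a : ℕ) : ℤ) ∣ 2 := by
    have h6 := Int.dvd_add (Dvd.dvd.mul_right h3 ((q : ℤ) + 1)) (Dvd.dvd.mul_right h4 (1 - (q : ℤ) - (q : ℤ) ^ 2))
    have e : ((q : ℤ) ^ 3 + 1) * ((q : ℤ) + 1) + ((q : ℤ) ^ 2 + 1) * (1 - (q : ℤ) - (q : ℤ) ^ 2) = 2 := by ring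
    rwa [e] at h6
  have h7 : a ∣ 2 := by exact_mod_cast h5
  exact h2 ((Nat.prime_dvd_prime_iff_eq ha Nat.prime_two).1 h7)

theorem l_not_succ {l m : ℕ} (hm : m + q = q ^ 2 + 1) (hl : l.Prime) (h2 : l ≠ 3) (h : l ∣ m) : ¬ l ∣ q + 1 := by
  intro h1
  have h3 : ((l : ℕ) : ℤ) ∣ (q : ℤ) + 1 := by exact_mod_cast h1
  have h4 : ((l : ℕ) : ℤ) ∣ (m : ℤ) := by exact_mod_cast h
  have hm' : (m : ℤ) = (q : ℤ) ^ 2 + 1 - q := by
    have : ((m + q : ℕ) : ℤ) = ((q ^ 2 + 1 : ℕ) : ℤ) := by rw [hm]
    push_cast at this
    linarith
  have h5 : ((l : ℕ) : ℤ) ∣ 3 := by
    have h6 := Int.dvd_sub h4 (Dvd.dvd.mul_right h3 ((q : ℤ) - 2))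
    have e : (m : ℤ) - ((q : ℤ) + 1) * ((q : ℤ) - 2) = 3 := by rw [hm']; ring
    rwa [e] at h6
  have h7 : l ∣ 3 := by exact_mod_cast h5
  exact h2 ((Nat.prime_dvd_prime_iff_eq hl Nat.prime_three).1 h7)

theorem l_not_q {l m : ℕ} (hm : m + q = q ^ 2 + 1) (hl : l.Prime) (h : l ∣ m) : ¬ l ∣ q := by
  intro h1
  have h2 : l ∣ q ^ 2 := dvd_pow h1 two_ne_zero
  have h3 : l ∣ q ^ 2 + 1 := by rw [← hm]; exact dvd_add h h1
  have h4 := (Nat.dvd_add_right h2).1 h3
  exact hl.one_lt.ne' (Nat.dvd_one.1 h4)

theorem l_not_sq {l m : ℕ} (hm : m + q = q ^ 2 + 1) (hl : l.Prime) (h : l ∣ m) : ¬ l ∣ q ^ 2 + 1 := by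
  intro h1
  rw [← hm] at h1
  exact l_not_q hm hl h ((Nat.dvd_add_right h).1 h1)

theorem l_dvd_cube {l m : ℕ} (hm : m + q = q ^ 2 + 1) (h : l ∣ m) : l ∣ q ^ 3 + 1 := by
  have e : q ^ 3 + 1 = m * (q + 1) := by
    have h1 : m * (q + 1) + q * (q + 1) = (q ^ 2 + 1) * (q + 1) := by rw [← add_mul, hm]
    nlinarith
  rw [e]
  exact Dvd.dvd.mul_right h _

theorem l_odd {l m : ℕ} (hm : m + q = q ^ 2 + 1) (h : l ∣ m) : l ≠ 2 := by
  rintro rfl
  obtain ⟨c, rfl⟩ := h
  have h1 : (q * q) % 2 = q % 2 := by
    rcases Nat.even_or_odd' q with ⟨k, rfl | rfl⟩
    · rw [show 2 * k * (2 * k) = 2 * (2 * k * k) by ring]; omega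
    · rw [show (2 * k + 1) * (2 * k + 1) = 2 * (2 * k * k + 2 * k) + 1 by ring]; omega
  rw [pow_two] at hm
  omega

theorem dvd_eight (hq : 2 ≤ q) {p k e t : ℕ} (hp : p.Prime) (hpq : p ∣ q) (ht : t ∣ q + 1)
    (h : (q + 1) * (q ^ 2 - 1) * (q ^ 3 + 1) ∣ p ^ k * (e * t)) : (q ^ 2 - 1) * (q ^ 3 + 1) ∣ e := by
  have h1 : Nat.Coprime ((q + 1) * (q ^ 2 - 1) * (q ^ 3 + 1)) (p ^ k) := by
    apply Nat.Coprime.pow_right
    refine Nat.Coprime.symm ((Nat.Prime.coprime_iff_not_dvd hp).2 fun h => ?_)
    rcases hp.dvd_mul.1 h with h | h
    · rcases hp.dvd_mul.1 h with h | h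
      · exact hp.one_lt.ne' (Nat.dvd_one.1 ((Nat.dvd_add_right hpq).1 h))
      · have h6 : p ∣ q ^ 2 := dvd_pow hpq (by omega)
        have h7 : 1 ≤ q ^ 2 := Nat.one_le_pow _ _ (by omega)
        exact hp.one_lt.ne' (Nat.dvd_one.1 ((Nat.dvd_sub_iff_right h7 h6).1 h))
    · exact hp.one_lt.ne' (Nat.dvd_one.1 ((Nat.dvd_add_right (dvd_pow hpq (by norm_num))).1 h))
  have h2 := h1.dvd_of_dvd_mul_left h
  obtain ⟨s, hs⟩ := ht
  have h3 : (q + 1) * ((q ^ 2 - 1) * (q ^ 3 + 1)) ∣ (q + 1) * e := by
    refine Dvd.dvd.trans (dvd_of_eq (by ring)) (h2.trans ?_)
    rw [hs]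
    exact ⟨s, by ring⟩
  exact (Nat.mul_dvd_mul_iff_left (by omega)).1 h3

/-- the distinctness -/
theorem nodup_of (hq : 3 ≤ q) {p m a l e6 e8 e9 : ℕ} (hp : p.Prime) (hpq : p ∣ q) (hm : m + q = q ^ 2 + 1)
    (ha : a.Prime) (ha2 : a ≠ 2) (had : a ∣ q ^ 2 + 1) (hl : l.Prime) (hl3 : l ≠ 3) (hld : l ∣ m)
    (h6a : a ∣ e6) (h6l : l ∣ e6) (h6 : e6 ∣ (q ^ 2 + 1) * (q ^ 3 + 1))
    (h8 : (q ^ 2 - 1) * (q ^ 3 + 1) ∣ e8) (h80 : 0 < e8) (h9l : l ∣ e9) (h9 : e9 ∣ (q + 1) * (q ^ 3 + 1)) :
    [1, q ^ 6, q ^ 2 * (q ^ 2 + 1), q ^ 3 * m, q * m, e6, e8, e9].Nodup := by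
  have hq0 : 0 < q := by omega
  have hal : a ≠ l := by
    rintro rfl
    exact l_not_sq hm hl hld had
  have haq := a_not_q ha had
  have hlq := l_not_q hm hl hld
  have hlm : ¬ a ∣ m := by
    intro h
    exact a_not_cube ha ha2 had (l_dvd_cube hm h)
  have h8l : l ∣ e8 := (Dvd.dvd.mul_left (l_dvd_cube hm hld) _).trans h8
  have h9a : ¬ a ∣ e9 := by
    intro h
    rcases ha.dvd_mul.1 (h.trans h9) with h | h
    · exact a_not_succ ha ha2 had h
    · exact a_not_cube ha ha2 had h
  have h9p : ¬ p ∣ e9 := by
    intro h
    rcases hp.dvd_mul.1 (h.trans h9) with h | h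
    · exact hp.one_lt.ne' (Nat.dvd_one.1 ((Nat.dvd_add_right hpq).1 h))
    · exact hp.one_lt.ne' (Nat.dvd_one.1 ((Nat.dvd_add_right (dvd_pow hpq (by norm_num))).1 h))
  have hq2 : 9 ≤ q ^ 2 := by nlinarith
  have hm0 : 0 < m := by nlinarith
  have hb8 : (q ^ 2 - 1) * (q ^ 3 + 1) ≤ e8 := Nat.le_of_dvd h80 h8
  have hb9 : e9 ≤ (q + 1) * (q ^ 3 + 1) := Nat.le_of_dvd (by positivity) h9
  have hqq : q + 1 < q ^ 2 - 1 := by
    have : q + 2 < q ^ 2 := by nlinarith
    omega
  have h98 : e9 < e8 := by
    refine lt_of_le_of_lt hb9 (lt_of_lt_of_le ?_ hb8)
    exact Nat.mul_lt_mul_of_pos_right hqq (by positivity)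
  have hD4 : q ^ 3 * m < e8 := by
    refine lt_of_lt_of_le ?_ hb8
    have h1 : m ≤ q ^ 2 - 1 := by omega
    calc q ^ 3 * m ≤ q ^ 3 * (q ^ 2 - 1) := Nat.mul_le_mul_left _ h1
      _ < (q ^ 3 + 1) * (q ^ 2 - 1) := Nat.mul_lt_mul_of_pos_right (by omega) (by omega)
      _ = _ := mul_comm _ _
  have hq13 : q < q ^ 3 := by
    calc q = q ^ 1 := (pow_one q).symm
      _ < q ^ 3 := Nat.pow_lt_pow_right (by omega) (by norm_num)
  have hD5 : q * m < q ^ 3 * m := Nat.mul_lt_mul_of_pos_right hq13 hm0
  have h68 : e6 ≠ e8 := by
    rintro rfl
    have h1 := h8.trans h6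
    have h2 := (Nat.mul_dvd_mul_iff_right (by positivity : 0 < q ^ 3 + 1)).1 h1
    have h3 : q ^ 2 - 1 ∣ (q ^ 2 + 1) - (q ^ 2 - 1) := Nat.dvd_sub h2 (dvd_refl _)
    have h4 : (q ^ 2 + 1) - (q ^ 2 - 1) = 2 := by omega
    rw [h4] at h3
    have := Nat.le_of_dvd (by norm_num) h3
    omega
  have nl : ∀ {x y : ℕ}, l ∣ y → ¬ l ∣ x → x ≠ y := by
    rintro x y h1 h2 rfl
    exact h2 h1
  have na : ∀ {x y : ℕ}, a ∣ y → ¬ a ∣ x → x ≠ y := by
    rintro x y h1 h2 rfl
    exact h2 h1
  have l1 : ¬ l ∣ 1 := fun h => hl.one_lt.ne' (Nat.dvd_one.1 h)
  have a1 : ¬ a ∣ 1 := fun h => ha.one_lt.ne' (Nat.dvd_one.1 h)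
  have l2 : ¬ l ∣ q ^ 6 := fun h => hlq (hl.dvd_of_dvd_pow h)
  have a2 : ¬ a ∣ q ^ 6 := fun h => haq (ha.dvd_of_dvd_pow h)
  have l3 : ¬ l ∣ q ^ 2 * (q ^ 2 + 1) := fun h => (hl.dvd_mul.1 h).elim (fun h => hlq (hl.dvd_of_dvd_pow h))
    (l_not_sq hm hl hld)
  have a3 : a ∣ q ^ 2 * (q ^ 2 + 1) := Dvd.dvd.mul_left had _
  have a4 : ¬ a ∣ q ^ 3 * m := fun h => (ha.dvd_mul.1 h).elim (fun h => haq (ha.dvd_of_dvd_pow h)) hlm
  have a5 : ¬ a ∣ q * m := fun h => (ha.dvd_mul.1 h).elim haq hlm
  have l4 : l ∣ q ^ 3 * m := Dvd.dvd.mul_left hld _
  have l5 : l ∣ q * m := Dvd.dvd.mul_left hld _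
  have p4 : p ∣ q ^ 3 * m := Dvd.dvd.mul_right (dvd_pow hpq (by norm_num)) _
  have p5 : p ∣ q * m := Dvd.dvd.mul_right hpq _
  have h12 : 1 ≠ q ^ 6 := (Nat.one_lt_pow (by norm_num) (by omega)).ne
  simp only [List.nodup_cons, List.mem_cons, List.not_mem_nil, or_false, not_or, not_false_eq_true, and_true,
    List.nodup_nil]
  refine ⟨⟨h12, na a3 a1, nl l4 l1, nl l5 l1, nl h6l l1, nl h8l l1, nl h9l l1⟩,
    ⟨na a3 a2, nl l4 l2, nl l5 l2, nl h6l l2, nl h8l l2, nl h9l l2⟩,
    ⟨nl l4 l3, nl l5 l3, nl h6l l3, nl h8l l3, nl h9l l3⟩,
    ⟨hD5.ne', na h6a a4, hD4.ne, fun h => h9p (h ▸ p4)⟩,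
    ⟨na h6a a5, (hD5.trans hD4).ne, fun h => h9p (h ▸ p5)⟩,
    ⟨h68, fun h => h9a (h ▸ h6a)⟩, h98.ne'⟩

end

end Cfsg.Agent.H934.Eight
end

-- part: H934/Eight/Big
section
prune_inst 0x120644558c000000004059251003a079400019000200001e86401460808c32a8042a9000c801012102ea28010010040000000f0400000000a0004000001010008a81604f1d9ac0890000080008441000000000000000000000080000000000400c010000
set_option linter.all false
open scoped Cfsg.Agent.FastGrp

/-!
# At least eight character degrees: `PSU₄(q)`, `q ≥ 4` (helper934)
-/

set_option autoImplicit false

open scoped ComplexConjugate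
open Cfsg

namespace Cfsg.Agent.H934.Eight

open Module Cfsg.Agent.H477.HC Cfsg.Agent.H664.Eight

universe u v

/-- an anisotropic binary form exists -/
theorem exists_ab (K : Type u) [Field K] [Finite K] :
    ∃ a b : K, ∀ z₁ z₂ : K, z₁ ^ 2 + a * z₁ * z₂ + b * z₂ ^ 2 = 0 → z₁ = 0 ∧ z₂ = 0 := by
  have h1 : ¬ Function.Surjective (fun x : K => x ^ 2 - x) := by
    intro h
    have h2 := (Finite.injective_iff_surjective (f := fun x : K => x ^ 2 - x)).2 h
    have h3 : (0 : K) = 1 := h2 (by simp)
    exact zero_ne_one h3
  obtain ⟨c, hc⟩ := not_forall.1 h1
  refine ⟨-1, -c, fun z₁ z₂ h => ?_⟩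
  have h2 : z₂ = 0 := by
    by_contra h0
    apply hc
    refine ⟨z₁ / z₂, ?_⟩
    simp only
    field_simp
    linear_combination h
  rw [h2] at h
  refine ⟨?_, h2⟩
  have h3 : z₁ ^ 2 = 0 := by linear_combination h
  exact pow_eq_zero_iff two_ne_zero |>.1 h3

theorem exists_K {F : Type u} [Field F] [Fintype F] {q : ℕ} (hF : Fintype.card F = q ^ 2) :
    ∃ (K : Type) (_ : Field K) (_ : Finite K), Nat.card K = q := by
  classical
  obtain ⟨p, hp⟩ := CharP.exists F
  have hpr : p.Prime := (CharP.char_is_prime_or_zero F p).resolve_right (CharP.char_ne_zero_of_finite F p)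
  have : Fact p.Prime := ⟨hpr⟩
  obtain ⟨n, -, hn⟩ := FiniteField.card F p
  rw [hF] at hn
  obtain ⟨e, -, he⟩ := (Nat.dvd_prime_pow hpr).1 (Dvd.intro_left q (by rw [← pow_two]; exact hn) : q ∣ p ^ (n : ℕ))
  have he0 : e ≠ 0 := by
    rintro rfl
    rw [pow_zero] at he
    rw [he, one_pow] at hF
    have := Fintype.one_lt_card (α := F)
    omega
  exact ⟨GaloisField p e, inferInstance, inferInstance, by rw [GaloisField.card p e he0, he]⟩

theorem mem_of_ch {S : Type u} [Group S] {d : ℕ} (h : Ch S d) : d ∈ charDegrees S := by
  obtain ⟨χ, hχ⟩ := h.exists_irr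
  exact ⟨χ, hχ⟩

theorem dvd_of_down {t N e n : ℕ} (ht : t.Prime) (h1 : e ∣ N) (h2 : N / e ∣ n) (h3 : t ∣ N) (h4 : ¬ t ∣ n) : t ∣ e := by
  obtain ⟨c, rfl⟩ := h1
  rcases Nat.eq_zero_or_pos e with rfl | h0
  · exact dvd_zero _
  rw [Nat.mul_div_cancel_left c h0] at h2
  exact (ht.dvd_mul.1 h3).resolve_right fun h => h4 (h.trans h2)

theorem finite_psu (F : Type u) [Field F] [Finite F] (n q : ℕ) : Finite (PSU n F q) := by
  have : Finite (GL (Fin n) F) := inferInstance
  have : Finite (SU n F q) := inferInstance
  exact inferInstanceAs (Finite (_ ⧸ _))

/-- the Steinberg character -/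
theorem ch_st {F : Type} [Field F] [Fintype F] {q : ℕ} (hF : Fintype.card F = q ^ 2) (hq : 3 ≤ q) :
    Ch (PSU 4 F q) (q ^ 6) := by
  classical
  obtain ⟨p, hp⟩ := CharP.exists F
  have hpr : p.Prime := (CharP.char_is_prime_or_zero F p).resolve_right (CharP.char_ne_zero_of_finite F p)
  have : Fact p.Prime := ⟨hpr⟩
  have := finite_psu F 4 q
  have := S0283.result hF 4 (by omega) (by omega)
  obtain ⟨n, -, hn⟩ := FiniteField.card F p
  rw [hF] at hn
  obtain ⟨e, -, he⟩ := (Nat.dvd_prime_pow hpr).1 (Dvd.intro_left q (by rw [← pow_two]; exact hn) : q ∣ p ^ (n : ℕ))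
  have he0 : e ≠ 0 := by
    rintro rfl
    rw [pow_zero] at he
    omega
  have hpq : p ∣ q := by rw [he]; exact dvd_pow_self p he0
  have hlie : IsLieTypeChar p (PSU 4 F q) :=
    Or.inr (Or.inr (Or.inl ⟨F, inferInstance, inferInstance, hp, 4, q, hF, by norm_num, by omega, ⟨MulEquiv.refl _⟩⟩))
  obtain ⟨χ, hχ, h1, -⟩ := H167.StChar.hasSt_of_lie hpr hlie
  refine ⟨χ, hχ, ?_⟩
  rw [h1]
  congr 1
  have h2 := S0280.result hF 4 (by omega)
  have h3 : ¬ Even 3 := by decide
  have h4 : ¬ Even 1 := by decide
  have h5 : Even 2 := by decide
  simp only [Finset.prod_range_succ, Finset.prod_range_zero, one_mul, h3, h4, h5, if_true, if_false,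
    Even.zero] at h2
  have hp1 : ∀ k, ¬ p ∣ q ^ (k + 1) + 1 := fun k h =>
    hpr.one_lt.ne' (Nat.dvd_one.1 ((Nat.dvd_add_right (dvd_pow hpq (by omega))).1 h))
  have hp2 : ∀ k, ¬ p ∣ q ^ (k + 1) - 1 := fun k h => by
    have h6 : p ∣ q ^ (k + 1) := dvd_pow hpq (by omega)
    have h7 : 1 ≤ q ^ (k + 1) := Nat.one_le_pow _ _ (by omega)
    have h8 := (Nat.dvd_sub_iff_right h7 h6).1 h
    exact hpr.one_lt.ne' (Nat.dvd_one.1 h8)
  have hg : ¬ p ∣ Nat.gcd 4 (q + 1) := fun h => by
    have := h.trans (Nat.gcd_dvd_right _ _)
    have h9 := hp1 0
    rw [zero_add, pow_one] at h9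
    exact h9 this
  have hg0 : Nat.gcd 4 (q + 1) ≠ 0 := fun h => by
    have := Nat.eq_zero_of_gcd_eq_zero_left h
    omega
  have hG0 : Nat.card (PSU 4 F q) ≠ 0 := Nat.card_pos.ne'
  have h6 := congrArg (fun N : ℕ => N.factorization p) h2
  beta_reduce at h6
  have z1 : (q + 1).factorization p = 0 := Nat.factorization_eq_zero_of_not_dvd (by simpa using hp1 0)
  have z2 : (Nat.gcd 4 (q + 1)).factorization p = 0 := Nat.factorization_eq_zero_of_not_dvd hg
  have hM : ¬ p ∣ (q ^ (0 + 1) + 1) * (q ^ (1 + 1) - 1) * (q ^ (2 + 1) + 1) * (q ^ (3 + 1) - 1) := by
    intro h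
    rcases hpr.dvd_mul.1 h with h | h
    · rcases hpr.dvd_mul.1 h with h | h
      · rcases hpr.dvd_mul.1 h with h | h
        · exact hp1 0 h
        · exact hp2 1 h
      · exact hp1 2 h
    · exact hp2 3 h
  have hM0 : (q ^ (0 + 1) + 1) * (q ^ (1 + 1) - 1) * (q ^ (2 + 1) + 1) * (q ^ (3 + 1) - 1) ≠ 0 := fun h =>
    hM (by rw [h]; exact dvd_zero _)
  rw [Nat.factorization_mul hg0 (Nat.mul_ne_zero (by omega) hG0), Nat.factorization_mul (by omega) hG0,
    Nat.factorization_mul (pow_ne_zero _ (by omega)) hM0, Finsupp.add_apply, Finsupp.add_apply, Finsupp.add_apply,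
    z1, z2, Nat.factorization_eq_zero_of_not_dvd hM, zero_add, zero_add, add_zero] at h6
  rw [h6]
  have h7 : 4 * (4 - 1) / 2 = 6 := by norm_num
  rw [h7, he, ← pow_mul, Nat.Prime.factorization_pow hpr, Finsupp.single_eq_same]

/-- **`PSU₄(q)`, `q ≥ 4`** -/
theorem eight_big {F : Type} [Field F] [Fintype F] {q : ℕ} (hF : Fintype.card F = q ^ 2) (hq : 4 ≤ q) :
    Eight (PSU 4 F q) := by
  classical
  have := finite_psu F 4 q
  obtain ⟨p, hp⟩ := CharP.exists F
  have hpr : p.Prime := (CharP.char_is_prime_or_zero F p).resolve_right (CharP.char_ne_zero_of_finite F p)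
  have : Fact p.Prime := ⟨hpr⟩
  obtain ⟨n, -, hn⟩ := FiniteField.card F p
  rw [hF] at hn
  have hpq : p ∣ q := by
    have h1 : p ∣ q ^ 2 := by rw [hn]; exact dvd_pow_self _ n.ne_zero
    exact hpr.dvd_of_dvd_pow h1
  obtain ⟨m, hm⟩ : ∃ m, m + q = q ^ 2 + 1 := ⟨q ^ 2 + 1 - q, by
    have : q ≤ q ^ 2 := Nat.le_self_pow two_ne_zero q
    omega⟩
  have hmm : (m : ℤ) = (q : ℤ) ^ 2 + 1 - q := by
    have : ((m + q : ℕ) : ℤ) = ((q ^ 2 + 1 : ℕ) : ℤ) := by rw [hm]
    push_cast at this
    linarith
  obtain ⟨a, ha, ha2, had⟩ := exists_a (q := q) (by omega)
  obtain ⟨l, hl, hl3, hld⟩ := exists_l (q := q) (by omega) hm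
  obtain ⟨K, _, _, hK⟩ := exists_K hF
  obtain ⟨x, y, hxy⟩ := exists_ab K
  have hfK := Fintype.ofFinite K
  have hKF : Fintype.card K = q := by rw [← Nat.card_eq_fintype_card, hK]
  obtain ⟨φ⟩ := S0303.result hKF hF x y hxy
  have hF' : Fintype.card F = Nat.card K ^ 2 := by rw [hK, hF]
  -- the characters
  obtain ⟨s, t, hs, ht, hs', ht'⟩ := rk3_six K x y hxy
  rw [hK] at hs' ht'
  have hq1 : ((q : ℤ) ^ 2 - 1) ≠ 0 := by
    have h1 : (4 : ℤ) ≤ q := by exact_mod_cast hq
    nlinarith
  have es : s = q ^ 2 * (q ^ 2 + 1) := by
    have h1 : (s : ℤ) = (q : ℤ) ^ 2 * ((q : ℤ) ^ 2 + 1) := by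
      apply mul_left_cancel₀ hq1
      linear_combination hs'
    exact_mod_cast h1
  have et : t = q * m := by
    have h1 : (t : ℤ) = (q : ℤ) * m := by
      apply mul_left_cancel₀ hq1
      rw [hmm]
      linear_combination ht'
    exact_mod_cast h1
  obtain ⟨ψ, hψ⟩ := H113.PSU.Facts.exG (F := F) hF (le_refl 4)
  have eψ : charDegree (ψ : PSU 4 F q → ℂ) = q ^ 3 * m := by
    have h1 : ((q : ℤ) ^ 2 - 1) * ((q : ℤ) + 1) * (charDegree (ψ : PSU 4 F q → ℂ) : ℤ) =
        (q : ℤ) ^ 3 * ((q : ℤ) ^ 3 + 1) * ((q : ℤ) ^ 2 - 1) := by
      have h2 := congrArg (Nat.cast : ℕ → ℤ) hψ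
      have h3 : 1 ≤ q ^ 2 := Nat.one_le_pow _ _ (by omega)
      rw [show 4 - 1 = 3 from rfl, show 4 - 2 = 2 from rfl] at h2
      push_cast [Nat.cast_sub h3] at h2
      rw [H113.PSU.Levi.uu_cast (by omega), H113.PSU.Levi.uu_cast (by omega)] at h2
      linear_combination h2
    have h4 : (charDegree (ψ : PSU 4 F q → ℂ) : ℤ) = (q : ℤ) ^ 3 * m := by
      have h5 : ((q : ℤ) + 1) ≠ 0 := by positivity
      apply mul_left_cancel₀ hq1
      apply mul_left_cancel₀ h5
      rw [hmm]
      linear_combination h1
    exact_mod_cast h4
  obtain ⟨e6, c6, d6, i6⟩ := ch_six hF hq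
  obtain ⟨e8, t8, k8, c8, d8, i8⟩ := ch_eight hF (p := p)
  obtain ⟨e9, c9, d9, i9⟩ := ch_nine K (by omega) hxy (six_idx_dvd K hF' hxy)
    (fun h z hz => six_cen K hF' hxy h z hz)
  rw [hK] at d9 i9
  have hl2 := l_odd hm hld
  have h6a : a ∣ e6 := dvd_of_down ha d6 i6 (Dvd.dvd.mul_right had _) (a_not_succ ha ha2 had)
  have h6l : l ∣ e6 := dvd_of_down hl d6 i6 (Dvd.dvd.mul_left (l_dvd_cube hm hld) _) (l_not_succ hm hl hl3 hld)
  have h9l : l ∣ e9 := dvd_of_down hl d9 i9 (Dvd.dvd.mul_left (l_dvd_cube hm hld) _) (fun h => by
    have h1 : l ∣ 2 ^ 3 := h
    exact hl2 ((Nat.prime_dvd_prime_iff_eq hl Nat.prime_two).1 (hl.dvd_of_dvd_pow h1)))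
  have h80 : 0 < e8 := by
    obtain ⟨χ, hχ, h1⟩ := c8
    have h2 := Cfsg.Agent.Characters.Core.isIrr_apply_one_ne_zero hχ
    rcases Nat.eq_zero_or_pos e8 with h0 | h0
    · rw [h0, Nat.cast_zero] at h1
      exact absurd h1 h2
    · exact h0
  have h8 : (q ^ 2 - 1) * (q ^ 3 + 1) ∣ e8 := dvd_eight (by omega) hpr hpq d8 i8
  refine eight_of_list _ (nodup_of (by omega) hpr hpq hm ha ha2 had hl hl3 hld h6a h6l d6 h8 h80 h9l d9) (by simp) ?_
  intro d hd
  simp only [List.mem_cons, List.not_mem_nil, or_false] at hd
  rcases hd with rfl | rfl | rfl | rfl | rfl | rfl | rfl | rfl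
  · exact one_mem
  · exact mem_of_ch (ch_st hF (by omega))
  · rw [← es]; exact mem_of_ch (hs.congr φ.symm)
  · rw [← eψ]; exact ⟨ψ, rfl⟩
  · rw [← et]; exact mem_of_ch (ht.congr φ.symm)
  · exact mem_of_ch c6
  · exact mem_of_ch c8
  · exact mem_of_ch (c9.congr φ.symm)

end Cfsg.Agent.H934.Eight
end

-- part: H934/Eight/U4
section
prune_inst 0x120744458c002000004059271003e0796000190002b8001c96403460e88cf6b80422f20bcb0130291eea2a450394048110001f9420000002a000600411901a088ab5686f3fdad0cb6000980988541000000000000000000000080000000000400c010000
set_option linter.all false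
open scoped Cfsg.Agent.FastGrp

/-!
# At least eight character degrees: `PSU₄(q)` (helper934, for S4899)
-/

set_option autoImplicit false

open scoped ComplexConjugate
open Cfsg

namespace Cfsg.Agent.H934.Eight

open Module Cfsg.Agent.H477.HC Cfsg.Agent.H664.Eight Cfsg.Agent.Characters

universe u v

/-- **`PSU₄(3)`** -/
theorem eight_three {F : Type} [Field F] [Fintype F] (hF : Fintype.card F = 3 ^ 2) : Eight (PSU 4 F 3) := by
  classical
  have := finite_psu F 4 3
  have hs : IsSimpleGroup (PSU 4 F 3) := S0283.result hF 4 (by norm_num) (by norm_num)
  obtain ⟨p, hp⟩ := CharP.exists F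
  have hpr : p.Prime := (CharP.char_is_prime_or_zero F p).resolve_right (CharP.char_ne_zero_of_finite F p)
  have : Fact p.Prime := ⟨hpr⟩
  obtain ⟨n, -, hn⟩ := FiniteField.card F p
  rw [hF] at hn
  have hpq : p ∣ 3 := by
    have h1 : p ∣ 3 ^ 2 := by rw [hn]; exact dvd_pow_self _ n.ne_zero
    exact hpr.dvd_of_dvd_pow h1
  obtain ⟨K, _, _, hK⟩ := exists_K hF
  obtain ⟨x, y, hxy⟩ := exists_ab K
  have hfK := Fintype.ofFinite K
  have hKF : Fintype.card K = 3 := by rw [← Nat.card_eq_fintype_card, hK]
  obtain ⟨φ⟩ := S0303.result hKF hF x y hxy
  obtain ⟨η, hη, h21, hreal⟩ := real_six K x y hxy hK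
  have hη' : IsIrrCharacter (PSU 4 F 3) (η ∘ φ.symm.toMonoidHom) :=
    Core.isIrr_comp φ.symm.toMonoidHom φ.symm.surjective hη
  have h21' : (η ∘ φ.symm.toMonoidHom) 1 = 21 := by
    rw [Function.comp_apply, map_one, h21]
  obtain ⟨ψ, hψ1, hψ⟩ := exists_deg hη' (fun g => hreal _) h21'
  have m21 : 21 ∈ charDegrees (PSU 4 F 3) :=
    mem_of_ch ⟨_, hη', by rw [h21']; norm_num⟩
  have m90 := H113.Two.PsuSmall.mem90 hF
  have m640 := H113.Two.PsuSmall.mem640 hF
  have m729 : 729 ∈ charDegrees (PSU 4 F 3) := mem_of_ch (ch_st hF le_rfl)
  obtain ⟨ξ, hξ⟩ := H113.PSU.Facts.exG (F := F) hF (le_refl 4)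
  have m189 : 189 ∈ charDegrees (PSU 4 F 3) := by
    refine ⟨ξ, ?_⟩
    have e4 : H113.PSU.Levi.uu 3 (4 - 1) = 28 := by decide
    have e1 : H113.PSU.Levi.uu 3 (4 - 2) = 8 := by decide
    rw [e4, e1] at hξ
    omega
  obtain ⟨e8, t8, k8, c8, d8, i8⟩ := ch_eight hF (p := p)
  have h8 := dvd_eight (q := 3) (by omega) hpr hpq d8 i8
  have h80 : 0 < e8 := by
    obtain ⟨χ, hχ, h1⟩ := c8
    have h2 := Cfsg.Agent.Characters.Core.isIrr_apply_one_ne_zero hχ
    rcases Nat.eq_zero_or_pos e8 with h0 | h0
    · rw [h0, Nat.cast_zero] at h1
      exact absurd h1 h2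
    · exact h0
  obtain ⟨c, hc⟩ := h8
  norm_num at hc
  have hc0 : 0 < c := by
    rcases Nat.eq_zero_or_pos c with h0 | h0
    · rw [h0] at hc; omega
    · exact h0
  have hcard : Nat.card (PSU 4 F 3) = 3265920 := CTwoTab.card_psu_four_three (by rw [hF]; norm_num)
  have hd1 : charDegree (ψ : PSU 4 F 3 → ℂ) ≠ 1 := by
    have h3 := H424.BlockTools.three_le (G := PSU 4 F 3) (by rw [hcard]; norm_num) (by rw [hcard]; norm_num) ψ.2 hψ1
    omega
  have hd0 : charDegree (ψ : PSU 4 F 3 → ℂ) ∈ charDegrees (PSU 4 F 3) := ⟨ψ, rfl⟩
  refine eight_of_list [1, 21, 90, 189, 640, 729, e8, charDegree (ψ : PSU 4 F 3 → ℂ)] ?_ (by simp) ?_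
  · generalize charDegree (ψ : PSU 4 F 3 → ℂ) = d at *
    unfold PP at hψ
    simp only [List.nodup_cons, List.mem_cons, List.not_mem_nil, or_false, not_or, not_false_eq_true, and_true,
      List.nodup_nil]
    omega
  · intro d hd
    simp only [List.mem_cons, List.not_mem_nil, or_false] at hd
    rcases hd with rfl | rfl | rfl | rfl | rfl | rfl | rfl | rfl
    · exact one_mem
    · exact m21
    · exact m90
    · exact m189
    · exact m640
    · exact m729
    · exact mem_of_ch c8
    · exact hd0

theorem eight_small {F : Type} [Field F] [Fintype F] {q : ℕ} (hF : Fintype.card F = q ^ 2) (hq : 3 ≤ q) :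
    Eight (PSU 4 F q) := by
  rcases Nat.eq_or_lt_of_le hq with rfl | h
  · exact eight_three hF
  · exact eight_big hF h

/-- **`PSU₄(q)`, `q ≥ 3`** -/
theorem eight_u4 {F : Type u} [Field F] [Fintype F] {q : ℕ} (hF : Fintype.card F = q ^ 2) (hq : 3 ≤ q) :
    Eight (PSU 4 F q) := by
  classical
  obtain ⟨K, _, _, hK⟩ := exists_K hF
  obtain ⟨x, y, hxy⟩ := exists_ab K
  have hfK := Fintype.ofFinite K
  have hKF : Fintype.card K = q := by rw [← Nat.card_eq_fintype_card, hK]
  obtain ⟨F', _, _, hF'⟩ : ∃ (F' : Type) (_ : Field F') (_ : Finite F'), Nat.card F' = q ^ 2 := by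
    obtain ⟨p, hp⟩ := CharP.exists F
    have hpr : p.Prime := (CharP.char_is_prime_or_zero F p).resolve_right (CharP.char_ne_zero_of_finite F p)
    have : Fact p.Prime := ⟨hpr⟩
    obtain ⟨n, -, hn⟩ := FiniteField.card F p
    exact ⟨GaloisField p n, inferInstance, inferInstance, by rw [GaloisField.card p n n.ne_zero, ← hn, hF]⟩
  have hfF := Fintype.ofFinite F'
  have hFF : Fintype.card F' = q ^ 2 := by rw [← Nat.card_eq_fintype_card, hF']
  obtain ⟨φ⟩ := S0303.result hKF hF x y hxy
  obtain ⟨φ'⟩ := S0303.result hKF hFF x y hxy
  exact (eight_small hFF hq).of_equiv (φ.symm.trans φ')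

end Cfsg.Agent.H934.Eight
end

-- part: H934/Eight/U4_mg
section

end

-- part: H289/Eight/Num
section
prune_inst 0x80000000000000c010000
set_option linter.all false
open scoped Cfsg.Agent.FastGrp

/-!
# Arithmetic of the degrees of `PSL_n(q)` (helper289, S4899)
-/

set_option autoImplicit false

namespace Cfsg.Agent.H289.Eight.Num

theorem core1 {q Y t s : ℕ} (ht : 0 < t) (htq : t ≤ q - 1) (hY : q ^ 2 - 1 ≤ Y)
    (h : (q * Y + (q - 1)) * t = Y * s) : False := by
  obtain ⟨a, rfl⟩ : ∃ a, q = a + 1 := ⟨q - 1, by omega⟩
  rw [Nat.add_sub_cancel] at h htq
  have e1 : (a + 1) ^ 2 - 1 = a * a + 2 * a := by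
    have : (a + 1) ^ 2 = a * a + 2 * a + 1 := by ring
    omega
  rw [e1] at hY
  have h1 : Y ∣ a * t := by
    have h2 : Y ∣ ((a + 1) * Y + a) * t := ⟨s, h⟩
    have h3 : ((a + 1) * Y + a) * t = Y * ((a + 1) * t) + a * t := by ring
    rw [h3] at h2
    exact (Nat.dvd_add_right ⟨_, rfl⟩).1 h2
  have h2 := Nat.le_of_dvd (Nat.mul_pos (by omega) ht) h1
  have h3 : a * t ≤ a * a := Nat.mul_le_mul_left a htq
  omega

theorem pow_succ_sub {q m : ℕ} (hq : 1 ≤ q) : q ^ (m + 1) - 1 = q * (q ^ m - 1) + (q - 1) := by
  have h1 : 1 ≤ q ^ m := Nat.one_le_pow _ _ hq
  obtain ⟨y, hy⟩ : ∃ y, q ^ m = y + 1 := ⟨q ^ m - 1, by omega⟩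
  obtain ⟨a, rfl⟩ : ∃ a, q = a + 1 := ⟨q - 1, by omega⟩
  rw [pow_succ, hy, Nat.add_sub_cancel, Nat.add_sub_cancel]
  have : (y + 1) * (a + 1) = (a + 1) * y + a + 1 := by ring
  omega

theorem sq_sub_le {q m : ℕ} (hq : 1 ≤ q) (hm : 2 ≤ m) : q ^ 2 - 1 ≤ q ^ m - 1 :=
  Nat.sub_le_sub_right (Nat.pow_le_pow_right hq hm) 1

/-- `A ≠ B` -/
theorem ab {q m P x t s : ℕ} (hq : 2 ≤ q) (hm : 2 ≤ m) (hP : 0 < P) (ht : 0 < t) (htq : t ≤ q - 1)
    (h1 : x * t = P * (q ^ m - 1)) (h2 : x * s * (q - 1) = (q ^ (m + 1) - 1) * P) : False := by
  refine core1 (q := q) (Y := q ^ m - 1) (t := t) (s := s * (q - 1)) ht htq (sq_sub_le (by omega) hm) ?_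
  rw [← pow_succ_sub (by omega)]
  apply Nat.eq_of_mul_eq_mul_right hP
  calc (q ^ (m + 1) - 1) * t * P = (q ^ (m + 1) - 1) * P * t := by ring
    _ = x * s * (q - 1) * t := by rw [← h2]
    _ = x * t * (s * (q - 1)) := by ring
    _ = P * (q ^ m - 1) * (s * (q - 1)) := by rw [h1]
    _ = _ := by ring

/-- `B ≠ C` -/
theorem bc {q m P N x t s : ℕ} (hq : 2 ≤ q) (hm : 2 ≤ m) (hP : 0 < P) (hN : 0 < N) (ht : 0 < t) (htq : t ≤ q - 1)
    (h1 : x * t * (q - 1) = N * (P * (q ^ m - 1)))
    (h2 : x * s * ((q ^ 2 - 1) * (q - 1)) = N * (q ^ (m + 1) - 1) * P) : False := by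
  refine core1 (q := q) (Y := q ^ m - 1) (t := t) (s := s * (q ^ 2 - 1)) ht htq (sq_sub_le (by omega) hm) ?_
  rw [← pow_succ_sub (by omega)]
  apply Nat.eq_of_mul_eq_mul_right (Nat.mul_pos hN hP)
  calc (q ^ (m + 1) - 1) * t * (N * P) = N * (q ^ (m + 1) - 1) * P * t := by ring
    _ = x * s * ((q ^ 2 - 1) * (q - 1)) * t := by rw [← h2]
    _ = x * t * (q - 1) * (s * (q ^ 2 - 1)) := by ring
    _ = N * (P * (q ^ m - 1)) * (s * (q ^ 2 - 1)) := by rw [h1]
    _ = _ := by ring

/-- `A ≠ C`, the integer equation -/
theorem ac_int {q w t s : ℤ} (hq : 2 ≤ q) (ht : 0 < t) (htq : t < q) (hs : 0 < s) (hsq : s < q)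
    (h : (q ^ 2 * w - 1) * ((q ^ 2 - 1) * (q - 1)) * s = (q ^ 4 * w - 1) * t) : False := by
  have h1 : q * ((q ^ 4 * w - q ^ 3 * w - q ^ 2 * w + q * w - q ^ 2 + q + 1) * s - q ^ 3 * w * t) = s - t := by
    linear_combination h
  have h2 : s - t = 0 := by
    apply Int.eq_zero_of_abs_lt_dvd (m := q) ⟨_, h1.symm⟩
    rw [abs_lt]
    constructor <;> omega
  have h3 : s = t := by omega
  subst h3
  have h4 : q * ((q ^ 4 * w - q ^ 3 * w - q ^ 2 * w + q * w - q ^ 2 + q + 1) - q ^ 3 * w) * s = 0 := by
    linear_combination h1
  have h5 : q ^ 4 * w - q ^ 3 * w - q ^ 2 * w + q * w - q ^ 2 + q + 1 - q ^ 3 * w = 0 := by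
    rcases mul_eq_zero.1 h4 with h6 | h6
    · rcases mul_eq_zero.1 h6 with h7 | h7
      · omega
      · exact h7
    · omega
  have h6 : q ∣ 1 := ⟨-(q ^ 3 * w - q ^ 2 * w - q * w + w - q + 1 - q ^ 2 * w), by linear_combination h5⟩
  have := Int.le_of_dvd (by norm_num) h6
  omega

/-- `A ≠ C` -/
theorem ac {q m P x t s : ℕ} (hq : 2 ≤ q) (hm : 2 ≤ m) (hP : 0 < P) (ht : 0 < t) (htq : t ≤ q - 1) (hs : 0 < s)
    (hsq : s ≤ q - 1)
    (h1 : x * t = P * (q ^ m - 1) * (q ^ (m + 1) - 1))
    (h2 : x * s * ((q ^ 2 - 1) * (q - 1)) = (q ^ (m + 2) - 1) * (q ^ (m + 1) - 1) * P) : False := by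
  have hpos : 0 < q ^ (m + 1) - 1 := by
    have := Nat.one_lt_pow (show m + 1 ≠ 0 by omega) (show 1 < q by omega)
    omega
  have h3 : (q ^ m - 1) * ((q ^ 2 - 1) * (q - 1)) * s = (q ^ (m + 2) - 1) * t := by
    apply Nat.eq_of_mul_eq_mul_right (Nat.mul_pos hpos hP)
    calc (q ^ m - 1) * ((q ^ 2 - 1) * (q - 1)) * s * ((q ^ (m + 1) - 1) * P) =
        P * (q ^ m - 1) * (q ^ (m + 1) - 1) * (s * ((q ^ 2 - 1) * (q - 1))) := by ring
      _ = x * t * (s * ((q ^ 2 - 1) * (q - 1))) := by rw [← h1]
      _ = x * s * ((q ^ 2 - 1) * (q - 1)) * t := by ring
      _ = (q ^ (m + 2) - 1) * (q ^ (m + 1) - 1) * P * t := by rw [h2]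
      _ = _ := by ring
  obtain ⟨k, rfl⟩ : ∃ k, m = k + 2 := ⟨m - 2, by omega⟩
  have p1 : 1 ≤ q ^ (k + 2) := Nat.one_le_pow _ _ (by omega)
  have p2 : 1 ≤ q ^ (k + 2 + 2) := Nat.one_le_pow _ _ (by omega)
  have p3 : 1 ≤ q ^ 2 := Nat.one_le_pow _ _ (by omega)
  have h4 := congrArg (fun z : ℕ => (z : ℤ)) h3
  simp only [Nat.cast_mul] at h4
  rw [Nat.cast_sub p1, Nat.cast_sub p2, Nat.cast_sub p3, Nat.cast_sub (show 1 ≤ q by omega)] at h4
  push_cast at h4
  refine ac_int (q := (q : ℤ)) (w := (q : ℤ) ^ k) (t := t) (s := s) (by omega) (by omega) (by omega) (by omega)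
    (by omega) ?_
  linear_combination h4

/-- `1 ≠ A` -/
theorem one_a {q m P t : ℕ} (hq : 2 ≤ q) (hm : 2 ≤ m) (hP : 0 < P) (htq : t ≤ q - 1)
    (h1 : 1 * t = P * (q ^ m - 1)) : False := by
  have h2 := sq_sub_le (q := q) (by omega) hm
  have h3 : 1 * (q ^ m - 1) ≤ P * (q ^ m - 1) := Nat.mul_le_mul_right _ hP
  have h4 : q - 1 < q ^ 2 - 1 := by
    have : q < q ^ 2 := by nlinarith
    omega
  omega

/-- `1 ≠ B` -/
theorem one_b {q N P t : ℕ} (hq : 2 ≤ q) (hN : q ^ 4 - 1 ≤ N) (hP : 0 < P) (htq : t ≤ q - 1)
    (h1 : 1 * t * (q - 1) = N * P) : False := by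
  have h3 : N * 1 ≤ N * P := Nat.mul_le_mul_left _ hP
  have h4 : t * (q - 1) ≤ (q - 1) * (q - 1) := Nat.mul_le_mul_right _ htq
  have h5 : (q - 1) * (q - 1) < q ^ 4 - 1 := by
    obtain ⟨a, rfl⟩ : ∃ a, q = a + 1 := ⟨q - 1, by omega⟩
    rw [Nat.add_sub_cancel]
    have h6 : (a + 1) ^ 4 = a * a + (a ^ 4 + 4 * a ^ 3 + 5 * a ^ 2 + 4 * a) + 1 := by ring
    have h7 : 0 < a := by omega
    have h8 : 0 < a ^ 4 + 4 * a ^ 3 + 5 * a ^ 2 + 4 * a := by positivity
    omega
  rw [one_mul] at h1
  omega

/-- `1 ≠ C` -/
theorem one_c {q N N' P t : ℕ} (hq : 2 ≤ q) (hN : q ^ 4 - 1 ≤ N) (hN' : q ^ 2 - 1 ≤ N') (hP : 0 < P) (htq : t ≤ q - 1)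
    (h1 : 1 * t * ((q ^ 2 - 1) * (q - 1)) = N * N' * P) : False := by
  obtain ⟨a, rfl⟩ : ∃ a, q = a + 1 := ⟨q - 1, by omega⟩
  have ha : 0 < a := by omega
  have e2 : (a + 1) ^ 2 - 1 = a * (a + 2) := by
    have : (a + 1) ^ 2 = a * (a + 2) + 1 := by ring
    omega
  have e4 : (a + 1) ^ 4 - 1 = a * (a + 2) * ((a + 1) ^ 2 + 1) := by
    have : (a + 1) ^ 4 = a * (a + 2) * ((a + 1) ^ 2 + 1) + 1 := by ring
    omega
  rw [e4] at hN
  rw [e2] at hN' h1
  rw [Nat.add_sub_cancel] at htq h1
  have h3 : N * N' * 1 ≤ N * N' * P := Nat.mul_le_mul_left _ hP
  have h4 : a * (a + 2) * ((a + 1) ^ 2 + 1) * (a * (a + 2)) ≤ N * N' := Nat.mul_le_mul hN hN'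
  have h5 : 1 * t * (a * (a + 2) * a) ≤ a * (a * (a + 2) * a) := by
    rw [one_mul]; exact Nat.mul_le_mul_right _ htq
  have h6 : a * (a + 2) * ((a + 1) ^ 2 + 1) * (a * (a + 2)) =
      a * (a * (a + 2) * a) + (a ^ 6 + 6 * a ^ 5 + 13 * a ^ 4 + 14 * a ^ 3 + 6 * a ^ 2 + 2 * a ^ 2) + (0) := by ring
  have h8 : 0 < (a ^ 6 + 6 * a ^ 5 + 13 * a ^ 4 + 14 * a ^ 3 + 6 * a ^ 2 + 2 * a ^ 2) := by positivity
  omega

/-- `T ≠ C'` -/
theorem tc {q N N' P x t : ℕ} (hq : 2 ≤ q) (hN : q ^ 4 - 1 ≤ N) (hN' : 0 < N') (hP : 0 < P) (htq : t ≤ q - 1)
    (h1 : x * (q - 1) = q * N') (h2 : x * t * ((q ^ 2 - 1) * (q - 1)) = N * N' * (P * q)) : False := by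
  have h3 : t * (q ^ 2 - 1) = N * P := by
    apply Nat.eq_of_mul_eq_mul_right (Nat.mul_pos hN' (show 0 < q by omega))
    calc t * (q ^ 2 - 1) * (N' * q) = q * N' * (t * (q ^ 2 - 1)) := by ring
      _ = x * (q - 1) * (t * (q ^ 2 - 1)) := by rw [← h1]
      _ = x * t * ((q ^ 2 - 1) * (q - 1)) := by ring
      _ = N * N' * (P * q) := by rw [h2]
      _ = _ := by ring
  obtain ⟨a, rfl⟩ : ∃ a, q = a + 1 := ⟨q - 1, by omega⟩
  have ha : 0 < a := by omega
  have e2 : (a + 1) ^ 2 - 1 = a * (a + 2) := by
    have : (a + 1) ^ 2 = a * (a + 2) + 1 := by ring
    omega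
  have e4 : (a + 1) ^ 4 - 1 = a * (a + 2) * ((a + 1) ^ 2 + 1) := by
    have : (a + 1) ^ 4 = a * (a + 2) * ((a + 1) ^ 2 + 1) + 1 := by ring
    omega
  rw [e4] at hN
  rw [e2] at h3
  rw [Nat.add_sub_cancel] at htq
  have h5 : t * (a * (a + 2)) ≤ a * (a * (a + 2)) := Nat.mul_le_mul_right _ htq
  have h6 : N * 1 ≤ N * P := Nat.mul_le_mul_left _ hP
  have h7 : a * (a + 2) * ((a + 1) ^ 2 + 1) = a * (a * (a + 2)) + a * (a + 2) * (a ^ 2 + a + 2) := by ring
  have h8 : 0 < a * (a + 2) * (a ^ 2 + a + 2) := by positivity
  omega

end Cfsg.Agent.H289.Eight.Num
end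

-- part: H289/Eight/LinN
section
set_option linter.all false
open scoped Cfsg.Agent.FastGrp

/-!
# `PSL_n(q)`, `n ≥ 4`, has at least eight character degrees (helper289, S4899)

* `exX` : the second constituent of the permutation character on the lines;
* `exA`, `exB`, `exC` : Harish-Chandra induction of the cuspidal characters of `GL_n`, `GL_{n-1}`, `GL_{n-2}`;
* `eight_ln`.
-/

set_option autoImplicit false
set_option linter.unusedSectionVars false
set_option linter.style.haveILetI false

open Cfsg Matrix Module

namespace Cfsg.Agent.H289.Eight

open Cfsg.Agent.H53.HC Cfsg.Agent.Characters Cfsg.Agent.H464.PermIrr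
open Cfsg.Agent.H113.PSL.Pass Cfsg.Agent.H113.PSL.Degrees Cfsg.Agent.H113.PSL.Facts Cfsg.Agent.H113.PSL.Main
  Cfsg.Agent.H113.PSL.Three Cfsg.Agent.H113.PSL.Para

universe u

variable {F : Type u} [Field F] [Fintype F]

local notation "𝔮" => Fintype.card F

/-- the number of points -/
theorem card_one {n : ℕ} (hn : 1 ≤ n) :
    Nat.card {W : Submodule F (Fin n → F) // finrank F W = 1} * (𝔮 - 1) = 𝔮 ^ n - 1 := by
  have h := H950.card_subspaces_eq (F := F) (V := Fin n → F) (n := n) (k := 1) (q := 𝔮) (by rw [finrank_fin_fun]) hn rfl
  simpa using h

/-- the number of lines -/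
theorem card_two {n : ℕ} (hn : 2 ≤ n) :
    Nat.card {W : Submodule F (Fin n → F) // finrank F W = 2} * ((𝔮 ^ 2 - 1) * (𝔮 - 1)) =
      (𝔮 ^ n - 1) * (𝔮 ^ (n - 1) - 1) := by
  have h := H950.card_subspaces_eq (F := F) (V := Fin n → F) (n := n) (k := 2) (q := 𝔮) (by rw [finrank_fin_fun]) hn rfl
  simpa [Fin.prod_univ_two] using h

/-- the difference -/
theorem card_sub {n : ℕ} (hn : 4 ≤ n) :
    Nat.card {W : Submodule F (Fin n → F) // finrank F W = 1} <
      Nat.card {W : Submodule F (Fin n → F) // finrank F W = 2} ∧
    (Nat.card {W : Submodule F (Fin n → F) // finrank F W = 2} -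
      Nat.card {W : Submodule F (Fin n → F) // finrank F W = 1}) * ((𝔮 ^ 2 - 1) * (𝔮 - 1)) =
      𝔮 ^ 2 * ((𝔮 ^ n - 1) * (𝔮 ^ (n - 3) - 1)) := by
  have h1 := card_one (F := F) (n := n) (by omega)
  have h2 := card_two (F := F) (n := n) (by omega)
  set N1 := Nat.card {W : Submodule F (Fin n → F) // finrank F W = 1}
  set N2 := Nat.card {W : Submodule F (Fin n → F) // finrank F W = 2}
  have hq := one_lt_q (F := F)
  obtain ⟨m, rfl⟩ : ∃ m, n = m + 4 := ⟨n - 4, by omega⟩
  have e1 : m + 4 - 1 = m + 3 := by omega
  have e3 : m + 4 - 3 = m + 1 := by omega
  rw [e1] at h2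
  rw [e3]
  have hw : 1 < 𝔮 ^ (m + 1) := Nat.one_lt_pow (by omega) hq
  obtain ⟨w, hw'⟩ : ∃ w, 𝔮 ^ (m + 1) = w + 1 := ⟨𝔮 ^ (m + 1) - 1, by omega⟩
  have hw0 : 0 < w := by omega
  obtain ⟨a, ha⟩ : ∃ a, 𝔮 = a + 1 := ⟨𝔮 - 1, by omega⟩
  have ha0 : 0 < a := by omega
  have e4 : 𝔮 ^ (m + 3) = 𝔮 ^ 2 * (w + 1) := by rw [← hw', ← pow_add]; congr 1; omega
  obtain ⟨y, hy⟩ : ∃ y, 𝔮 ^ (m + 4) = y + 1 := ⟨𝔮 ^ (m + 4) - 1, by
    have := Nat.one_le_pow (m + 4) 𝔮 (by omega); omega⟩
  have hy0 : 0 < y := by
    have := Nat.one_lt_pow (show m + 4 ≠ 0 by omega) hq
    omega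
  rw [hw', Nat.add_sub_cancel, hy, Nat.add_sub_cancel]
  rw [hy, Nat.add_sub_cancel, e4] at h2
  rw [hy, Nat.add_sub_cancel] at h1
  rw [ha] at h1 h2 ⊢
  rw [Nat.add_sub_cancel] at h1 h2 ⊢
  have s1 : (a + 1) ^ 2 - 1 = a * (a + 2) := by
    have : (a + 1) ^ 2 = a * (a + 2) + 1 := by ring
    omega
  have s2 : (a + 1) ^ 2 * (w + 1) - 1 = a * (a + 2) + (a + 1) ^ 2 * w := by
    have : (a + 1) ^ 2 * (w + 1) = a * (a + 2) + (a + 1) ^ 2 * w + 1 := by ring
    omega
  rw [s1, s2] at h2
  rw [s1]
  have h3 : N2 * (a * (a + 2) * a) = N1 * (a * (a + 2) * a) + (a + 1) ^ 2 * (y * w) := by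
    rw [h2, ← h1]; ring
  have hpos : 0 < a * (a + 2) * a := by positivity
  refine ⟨?_, ?_⟩
  · by_contra hcon
    push Not at hcon
    have h4 := Nat.mul_le_mul_right (a * (a + 2) * a) hcon
    have h5 : 0 < (a + 1) ^ 2 * (y * w) := by positivity
    omega
  · rw [Nat.sub_mul, h3]
    omega

/-- `x s = q^k m` with `s`, `m` prime to `p` -/
theorem val_eq {p q k x s m : ℕ} (hq : q ≠ 0) (hs : ¬ p ∣ s) (hm : ¬ p ∣ m) (h : x * s = q ^ k * m) :
    x.factorization p = k * q.factorization p := by
  have hs0 : s ≠ 0 := by rintro rfl; exact hs (dvd_zero _)
  have hm0 : m ≠ 0 := by rintro rfl; exact hm (dvd_zero _)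
  have hx0 : x ≠ 0 := by
    rintro rfl
    rw [zero_mul] at h
    exact (mul_ne_zero (pow_ne_zero k hq) hm0) h.symm
  have h1 := congrArg (fun y => y.factorization p) h
  simp only [Nat.factorization_mul hx0 hs0, Nat.factorization_mul (pow_ne_zero k hq) hm0, Nat.factorization_pow,
    Finsupp.add_apply, Finsupp.smul_apply, smul_eq_mul, Nat.factorization_eq_zero_of_not_dvd hs,
    Nat.factorization_eq_zero_of_not_dvd hm, add_zero] at h1
  exact h1

theorem not_dvd_pow_sub {p q i : ℕ} (hp : p.Prime) (hpq : p ∣ q) (hq : 0 < q) (hi : 1 ≤ i) : ¬ p ∣ q ^ i - 1 := by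
  intro h
  have h1 : p ∣ q ^ i := dvd_pow hpq (by omega)
  have h2 : p ∣ 1 := by
    have := Nat.dvd_sub h1 h
    rwa [Nat.sub_sub_self (Nat.one_le_pow _ _ hq)] at this
  exact hp.one_lt.ne' (Nat.dvd_one.1 h2)

theorem not_dvd_mul {p a b : ℕ} (hp : p.Prime) (ha : ¬ p ∣ a) (hb : ¬ p ∣ b) : ¬ p ∣ a * b := fun h =>
  (hp.dvd_mul.1 h).elim ha hb

theorem not_dvd_prod {p q m : ℕ} (hp : p.Prime) (hpq : p ∣ q) (hq : 0 < q) :
    ¬ p ∣ ∏ i ∈ Finset.range m, (q ^ (i + 1) - 1) := by
  intro h
  obtain ⟨i, -, hi⟩ := (Prime.dvd_finsetProd_iff hp.prime _).1 h
  exact not_dvd_pow_sub hp hpq hq (by omega) hi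

/-- a homomorphism version of the passage to `PSL` -/
theorem exX {n : ℕ} (hn : 4 ≤ n) : ∃ (φ : IrrCharacter (ProjectiveSpecialLinearGroup (Fin n) F)) (t : ℕ),
    t ∣ Nat.gcd n (𝔮 - 1) ∧
      charDegree (φ : ProjectiveSpecialLinearGroup (Fin n) F → ℂ) * t * ((𝔮 ^ 2 - 1) * (𝔮 - 1)) =
        𝔮 ^ 2 * ((𝔮 ^ n - 1) * (𝔮 ^ (n - 3) - 1)) := by
  obtain ⟨hlt, hsub⟩ := card_sub (F := F) hn
  have hirr := isIrr_two (K := F) (V := Fin n → F) (by rw [finrank_fin_fun]; exact hn) hlt
  set ψ : ((Fin n → F) ≃ₗ[F] (Fin n → F)) → ℂ := pc _ (Gr F (Fin n → F) 2) - pc _ (Gr F (Fin n → F) 1) with hψ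
  let e := (glE (Pi.basisFun F (Fin n))).symm
  have h1 : IsIrrCharacter (GL (Fin n) F) (ψ ∘ e.toMonoidHom) := Core.isIrr_comp e.toMonoidHom e.surjective hirr
  have hz : ∀ c : Fˣ, (ψ ∘ e.toMonoidHom) (GeneralLinearGroup.scalar (Fin n) c) = (ψ ∘ e.toMonoidHom) 1 := by
    intro c
    have e1 : e (GeneralLinearGroup.scalar (Fin n) c) = LinearEquiv.smulOfUnit c := by
      change (glE (Pi.basisFun F (Fin n))).symm _ = _
      rw [MulEquiv.symm_apply_eq]
      exact (glE_smul _ c _ (fun w => rfl)).symm
    have e2 : ∀ k (W : Gr F (Fin n → F) k), (LinearEquiv.smulOfUnit c : (Fin n → F) ≃ₗ[F] (Fin n → F)) • W = W := by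
      intro k W
      apply Subtype.ext
      rw [coe_smul_Gr]
      apply le_antisymm
      · rintro _ ⟨w, hw, rfl⟩
        exact W.1.smul_mem (c : F) hw
      · intro w hw
        refine ⟨(c⁻¹ : Fˣ) • w, W.1.smul_mem ((c⁻¹ : Fˣ) : F) hw, ?_⟩
        change c • ((c⁻¹ : Fˣ) • w) = w
        rw [smul_inv_smul]
    have e3 : ∀ k, pc ((Fin n → F) ≃ₗ[F] (Fin n → F)) (Gr F (Fin n → F) k) (LinearEquiv.smulOfUnit c) =
        pc ((Fin n → F) ≃ₗ[F] (Fin n → F)) (Gr F (Fin n → F) k) 1 := by
      intro k
      unfold pc
      congr 2
      have a1 : MulAction.fixedBy (Gr F (Fin n → F) k) (LinearEquiv.smulOfUnit c : (Fin n → F) ≃ₗ[F] (Fin n → F)) =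
          Set.univ := Set.eq_univ_of_forall fun W => e2 k W
      have a2 : MulAction.fixedBy (Gr F (Fin n → F) k) (1 : (Fin n → F) ≃ₗ[F] (Fin n → F)) =
          Set.univ := Set.eq_univ_of_forall fun W => one_smul _ W
      rw [a1, a2]
    change ψ (e _) = ψ (e 1)
    rw [e1, map_one, hψ, Pi.sub_apply, Pi.sub_apply, e3, e3]
  have hd : (ψ ∘ e.toMonoidHom) 1 = ((Nat.card {W : Submodule F (Fin n → F) // finrank F W = 2} -
      Nat.card {W : Submodule F (Fin n → F) // finrank F W = 1} : ℕ) : ℂ) := by
    change ψ (e 1) = _
    rw [map_one, hψ, Pi.sub_apply, pc_one, pc_one, Nat.cast_sub hlt.le]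
    rfl
  obtain ⟨φ, t, ht, hφ⟩ := exists_irr_psl (n := n) (by omega) h1 hz hd
  refine ⟨φ, t, ht, ?_⟩
  rw [hφ, hsub]

/-- the trivial character is not cuspidal -/
theorem not_isCusp_one {Ψ : GL (Fin 2) F → ℂ} (h : IsCusp Ψ) : Ψ ≠ 1 := by
  classical
  rintro rfl
  have h1 : line0 F ≠ ⊥ := by
    intro h0
    have := finrank_line0 (F := F)
    rw [h0, finrank_bot] at this
    omega
  have h2 : line0 F ≠ ⊤ := by
    intro h0
    have := finrank_line0 (F := F)
    rw [h0, finrank_top, finrank_fin_fun] at this
    omega
  have hfin : Finite ((Fin 2 → F) ≃ₗ[F] (Fin 2 → F)) :=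
    Finite.of_injective (fun g : (Fin 2 → F) ≃ₗ[F] (Fin 2 → F) => (g : (Fin 2 → F) → (Fin 2 → F)))
      DFunLike.coe_injective
  letI : Fintype (radU (line0 F)) := Fintype.ofFinite _
  have h3 := h (line0 F) h1 h2
  have h4 : ∀ u : radU (line0 F), cl (1 : GL (Fin 2) F → ℂ) (u : (Fin 2 → F) ≃ₗ[F] _) = 1 := by
    intro u
    rw [cl_eq (Core.isIrr_isClassFunction Core.isIrr_one) (Pi.basisFun F (Fin 2))]
    rfl
  rw [Finset.sum_congr rfl fun u _ => h4 u, Finset.sum_const, nsmul_eq_mul, mul_one, Finset.card_univ] at h3
  have h5 : (Fintype.card (radU (line0 F)) : ℂ) ≠ 0 := by exact_mod_cast Fintype.card_ne_zero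
  exact h5 h3

/-- Harish-Chandra induction from the parabolic subgroup of type `(n - 2, 2)` -/
theorem exC {n : ℕ} (hn : 4 ≤ n) {Φ : GL (Fin 2) F → ℂ} (hΦ : IsIrrCharacter _ Φ) {d : ℕ} (hd : Φ 1 = d)
    (hs : ∀ c : Fˣ, Φ (GeneralLinearGroup.scalar (Fin 2) c) = Φ 1)
    (hne : ∀ Ψ : GL (Fin 2) F → ℂ, IsCusp Ψ → Ψ 1 = ((𝔮 - 1 : ℕ) : ℂ) → Ψ ≠ Φ) :
    ∃ (φ : IrrCharacter (ProjectiveSpecialLinearGroup (Fin n) F)) (t : ℕ), t ∣ Nat.gcd n (𝔮 - 1) ∧
      charDegree (φ : ProjectiveSpecialLinearGroup (Fin n) F → ℂ) * t * ((𝔮 ^ 2 - 1) * (𝔮 - 1)) =
        (𝔮 ^ n - 1) * (𝔮 ^ (n - 1) - 1) * ((∏ i ∈ Finset.range (n - 3), (𝔮 ^ (i + 1) - 1)) * d) := by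
  have h2 := card_two (F := F) (n := n) (by omega)
  by_cases h4 : n = 4
  · subst h4
    obtain ⟨Ψ, c1, c2, c3, c4⟩ := hasCusp F 2 (by norm_num)
    have hd1 : Ψ 1 = ((𝔮 - 1 : ℕ) : ℂ) := by simpa using c3
    let ρ : GL (Fin 4) F →* ((Fin 4 → F) ≃ₗ[F] (Fin 4 → F)) := (glE (Pi.basisFun F (Fin 4))).symm.toMonoidHom
    have hρ : Function.Surjective ρ := (glE (Pi.basisFun F (Fin 4))).symm.surjective
    have hfr : finrank F (Fin 4 → F) = 2 + 2 := by rw [finrank_fin_fun]
    letI : Fintype (dimSet F (Fin 4 → F) 2) := Fintype.ofFinite _
    letI : Fintype (GL (Fin 4) F) := Fintype.ofFinite _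
    have hirr := isIrr_paraChar_eq ρ hρ hfr c1 c2 hΦ (hne Ψ c2 hd1)
    have k1 := Core.isIrr_isClassFunction c1
    have k2 := Core.isIrr_isClassFunction hΦ
    have hz : ∀ c : Fˣ, paraChar ρ Ψ Φ (GeneralLinearGroup.scalar (Fin 4) c) = paraChar ρ Ψ Φ 1 := by
      intro c
      refine paraChar_scalar ρ k1 k2 hfr (c := c) (fun v => ?_) ?_
      · have e1 : ρ (GeneralLinearGroup.scalar (Fin 4) c) = LinearEquiv.smulOfUnit c := by
          change (glE (Pi.basisFun F (Fin 4))).symm _ = _
          rw [MulEquiv.symm_apply_eq]
          exact (glE_smul _ c _ (fun w => rfl)).symm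
        rw [e1]
        rfl
      · rw [c4, hs]
    obtain ⟨φ, t, ht, hφ⟩ := exists_irr_psl (n := 4) (by norm_num) hirr hz
      (d := Nat.card (dimSet F (Fin 4 → F) 2) * ((𝔮 - 1) * d)) (by
        rw [paraChar_one ρ k1 k2 hfr, hd1, hd]
        push_cast
        rfl)
    refine ⟨φ, t, ht, ?_⟩
    rw [hφ, mul_right_comm]
    change Nat.card {W : Submodule F (Fin 4 → F) // finrank F W = 2} * ((𝔮 ^ 2 - 1) * (𝔮 - 1)) * _ = _
    rw [h2]
    simp
  · obtain ⟨φ, t, ht, hφ⟩ := exists_para (F := F) (n := n) (a := n - 2) (b := 2) (by omega) (by omega) (by omega)
      (hasCusp F (n - 2) (by omega)) hΦ hd hs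
    refine ⟨φ, t, ht, ?_⟩
    have h5 := H950.card_subspaces_symm (F := F) (V := Fin n → F) (n := n) (k := 2) (by rw [finrank_fin_fun]) (by omega)
    rw [hφ, h5, mul_right_comm, h2]
    rfl

end Cfsg.Agent.H289.Eight
end

-- part: H733/Eight/Asm
section
set_option linter.all false
open scoped Cfsg.Agent.FastGrp

/-!
# S4899 : assembly (helper733 for TEAM EIGHT of helper664)

* `Concl G` : the conclusion of S4899;
* `Rows` : one field for each row (families of groups);
* `concl_of_known` : the rows give the conclusion for every known simple group.
-/

set_option autoImplicit false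

open Cfsg Cfsg.Agent.H664.Eight

namespace Cfsg.Agent.H733.Eight

universe u

/-- The conclusion of S4899. -/
def Concl (G : Type u) [Group G] : Prop :=
  8 ≤ (charDegrees G).ncard ∨ ((charDegrees G).ncard = 4 ∧ (∃ (F : Type) (_ : Field F) (_ : Fintype F), ringChar F = 2 ∧
    4 ≤ Fintype.card F ∧ Nonempty (G ≃* Matrix.ProjectiveSpecialLinearGroup (Fin 2) F))) ∨
  ((charDegrees G).ncard = 5 ∧ (∃ (F : Type) (_ : Field F) (_ : Fintype F), ringChar F ≠ 2 ∧
    5 < Fintype.card F ∧ Nonempty (G ≃* Matrix.ProjectiveSpecialLinearGroup (Fin 2) F))) ∨
  ((charDegrees G).ncard = 6 ∧ (IsSuzuki G ∨ (∃ (F : Type) (_ : Field F) (_ : Fintype F), Fintype.card F = 4 ∧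
    Nonempty (G ≃* Matrix.ProjectiveSpecialLinearGroup (Fin 3) F)))) ∨
  ((charDegrees G).ncard = 7 ∧ (Nonempty (G ≃* Matrix.ProjectiveSpecialLinearGroup (Fin 3) (ZMod 3)) ∨
    Nonempty (G ≃* ↥(alternatingGroup (Fin 7))) ∨ IsM11 G ∨ IsJ1 G))

/-- The small isomorphisms. -/
structure Isos : Prop where
  a5 : ∀ (F : Type) [Field F] [Fintype F], Fintype.card F = 4 →
    Nonempty (Matrix.ProjectiveSpecialLinearGroup (Fin 2) F ≃* alternatingGroup (Fin 5))
  a5' : ∀ (F : Type) [Field F] [Fintype F], Fintype.card F = 5 →
    Nonempty (Matrix.ProjectiveSpecialLinearGroup (Fin 2) F ≃* alternatingGroup (Fin 5))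
  a6 : ∀ (F : Type) [Field F] [Fintype F], Fintype.card F = 9 →
    Nonempty (Matrix.ProjectiveSpecialLinearGroup (Fin 2) F ≃* alternatingGroup (Fin 6))
  l32 : ∀ (F K : Type) [Field F] [Fintype F] [Field K] [Fintype K], Fintype.card F = 7 → Fintype.card K = 2 →
    Nonempty (Matrix.ProjectiveSpecialLinearGroup (Fin 2) F ≃* Matrix.ProjectiveSpecialLinearGroup (Fin 3) K)
  sz : ∀ (S : Type u) [Group S] [Finite S] [IsSimpleGroup S], Lie.IsoSuzuki S → IsSuzuki S
  m11 : ∀ (S : Type u) [Group S] [Finite S] [IsSimpleGroup S], Spor.IsoM11 S → IsM11 S
  j1 : ∀ (S : Type u) [Group S] [Finite S] [IsSimpleGroup S], Spor.IsoJ1 S → IsJ1 S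

/-- The rows of the groups with few degrees. -/
structure Exact : Prop where
  l2even : ∀ (F : Type) [Field F] [Fintype F], ringChar F = 2 → 4 ≤ Fintype.card F →
    (charDegrees (Matrix.ProjectiveSpecialLinearGroup (Fin 2) F)).ncard = 4
  l2odd : ∀ (F : Type) [Field F] [Fintype F], ringChar F ≠ 2 → 5 < Fintype.card F →
    (charDegrees (Matrix.ProjectiveSpecialLinearGroup (Fin 2) F)).ncard = 5
  l33 : (charDegrees (Matrix.ProjectiveSpecialLinearGroup (Fin 3) (ZMod 3))).ncard = 7
  l34 : ∀ (F : Type) [Field F] [Fintype F], Fintype.card F = 4 →
    (charDegrees (Matrix.ProjectiveSpecialLinearGroup (Fin 3) F)).ncard = 6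
  sz : ∀ (S : Type u) [Group S] [Finite S] [IsSimpleGroup S], Lie.IsoSuzuki S → (charDegrees S).ncard = 6
  a7 : (charDegrees (alternatingGroup (Fin 7))).ncard = 7
  m11 : ∀ (S : Type u) [Group S] [Finite S] [IsSimpleGroup S], Spor.IsoM11 S → (charDegrees S).ncard = 7
  j1 : ∀ (S : Type u) [Group S] [Finite S] [IsSimpleGroup S], Spor.IsoJ1 S → (charDegrees S).ncard = 7

/-- The rows of the classical and alternating groups with at least eight degrees. -/
structure Classical : Prop where
  alt : ∀ n : ℕ, 8 ≤ n → Eight (alternatingGroup (Fin n))
  l3 : ∀ (F : Type) [Field F] [Fintype F], 5 ≤ Fintype.card F → Eight (Matrix.ProjectiveSpecialLinearGroup (Fin 3) F)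
  ln : ∀ (F : Type) [Field F] [Fintype F] (n : ℕ), 4 ≤ n → Eight (Matrix.ProjectiveSpecialLinearGroup (Fin n) F)
  u3 : ∀ (F : Type) [Field F] [Fintype F] (q : ℕ), Fintype.card F = q ^ 2 → 3 ≤ q → Eight (PSU 3 F q)
  u4 : ∀ (F : Type) [Field F] [Fintype F] (q : ℕ), Fintype.card F = q ^ 2 → 3 ≤ q → Eight (PSU 4 F q)
  un : ∀ (F : Type) [Field F] [Fintype F] (n q : ℕ), Fintype.card F = q ^ 2 → 5 ≤ n → ¬ (n = 5 ∧ q = 2) →
    ¬ (n = 6 ∧ q = 2) → ¬ (n = 7 ∧ q = 2) → Eight (PSU n F q)
  u42 : ∀ (F : Type) [Field F] [Fintype F], Fintype.card F = 2 ^ 2 → Eight (PSU 4 F 2)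
  u52 : ∀ (F : Type) [Field F] [Fintype F], Fintype.card F = 2 ^ 2 → Eight (PSU 5 F 2)
  u62 : ∀ (F : Type) [Field F] [Fintype F], Fintype.card F = 2 ^ 2 → Eight (PSU 6 F 2)
  u72 : ∀ (F : Type) [Field F] [Fintype F], Fintype.card F = 2 ^ 2 → Eight (PSU 7 F 2)
  sp43 : ∀ (F : Type) [Field F] [Fintype F], Fintype.card F = 3 → Eight (PSp 2 F)
  sp4 : ∀ (F : Type) [Field F] [Fintype F], 4 ≤ Fintype.card F → Eight (PSp 2 F)
  sp : ∀ (F : Type) [Field F] [Fintype F] (m : ℕ), 3 ≤ m → Eight (PSp m F)
  oo : ∀ (F : Type) [Field F] [Fintype F] (m : ℕ), 3 ≤ m → Odd (Fintype.card F) → Eight (POmega F (quadFormOdd m F))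
  op : ∀ (F : Type) [Field F] [Fintype F] (m : ℕ), 4 ≤ m → Eight (POmega F (quadFormPlus m F))
  om : ∀ (F : Type) [Field F] [Fintype F] (m : ℕ) (a b : F), 4 ≤ m →
    (∀ z₁ z₂ : F, z₁ ^ 2 + a * z₁ * z₂ + b * z₂ ^ 2 = 0 → z₁ = 0 ∧ z₂ = 0) →
    Eight (POmega F (quadFormMinus (m - 1) F a b))

/-- A row for a predicate of groups. -/
def Row (P : ∀ (S : Type u) [Group S], Prop) : Prop :=
  ∀ (S : Type u) [Group S] [Finite S] [IsSimpleGroup S], P S → Eight S

/-- The rows of the exceptional groups of Lie type. -/
structure Exceptional : Prop where
  g2 : Row.{u} (fun S _ => Lie.IsoChevG2 S)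
  f4 : Row.{u} (fun S _ => Lie.IsoF4 S)
  e6 : Row.{u} (fun S _ => Lie.IsoChevE6 S)
  e7 : Row.{u} (fun S _ => Lie.IsoE7 S)
  e8 : Row.{u} (fun S _ => Lie.IsoE8 S)
  twE6 : Row.{u} (fun S _ => Lie.Iso2E6 S)
  d4 : Row.{u} (fun S _ => Lie.Iso3D4 S)
  ree : Row.{u} (fun S _ => Lie.IsoRee S)
  twF4 : Row.{u} (fun S _ => Lie.Iso2F4 S)
  tits : Row.{u} (fun S _ => Lie.IsoTits S)

/-- The rows of the sporadic groups other than `M11` and `J1`. -/
structure Sporadic : Prop where
  m12 : Row.{u} (fun S _ => Spor.IsoM12 S)
  m22 : Row.{u} (fun S _ => Spor.IsoM22 S)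
  m23 : Row.{u} (fun S _ => Spor.IsoM23 S)
  m24 : Row.{u} (fun S _ => Spor.IsoM24 S)
  j2 : Row.{u} (fun S _ => Spor.IsoJ2 S)
  j3 : Row.{u} (fun S _ => Spor.IsoJ3 S)
  j4 : Row.{u} (fun S _ => Spor.IsoJ4 S)
  co1 : Row.{u} (fun S _ => Spor.IsoCo1 S)
  co2 : Row.{u} (fun S _ => Spor.IsoCo2 S)
  co3 : Row.{u} (fun S _ => Spor.IsoCo3 S)
  mcl : Row.{u} (fun S _ => Spor.IsoMcL S)
  hs : Row.{u} (fun S _ => Spor.IsoHS S)
  suz : Row.{u} (fun S _ => Spor.IsoSuz S)
  he : Row.{u} (fun S _ => Spor.IsoHe S)
  ru : Row.{u} (fun S _ => Spor.IsoRu S)
  on : Row.{u} (fun S _ => Spor.IsoON S)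
  ly : Row.{u} (fun S _ => Spor.IsoLy S)
  fi22 : Row.{u} (fun S _ => Spor.IsoFi22 S)
  fi23 : Row.{u} (fun S _ => Spor.IsoFi23 S)
  fi24 : Row.{u} (fun S _ => Spor.IsoFi24' S)
  hn : Row.{u} (fun S _ => Spor.IsoHN S)
  th : Row.{u} (fun S _ => Spor.IsoTh S)
  b : Row.{u} (fun S _ => Spor.IsoB S)
  m : Row.{u} (fun S _ => Spor.IsoM S)

/-- All rows. -/
structure Rows : Prop where
  isos : Isos.{u}
  exact_ : Exact.{u}
  classical : Classical
  exceptional : Exceptional.{u}
  sporadic : Sporadic.{u}

section

variable {G : Type u} [Group G]

theorem concl_l2 (I : Isos.{u}) (E : Exact.{u}) {F : Type} [Field F] [Fintype F] (h4 : 4 ≤ Fintype.card F)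
    (e : G ≃* Matrix.ProjectiveSpecialLinearGroup (Fin 2) F) : Concl G := by
  by_cases h2 : ringChar F = 2
  · refine Or.inr (Or.inl ⟨?_, F, inferInstance, inferInstance, h2, h4, ⟨e⟩⟩)
    rw [charDegrees_congr e]
    exact E.l2even F h2 h4
  · by_cases h5 : 5 < Fintype.card F
    · refine Or.inr (Or.inr (Or.inl ⟨?_, F, inferInstance, inferInstance, h2, h5, ⟨e⟩⟩))
      rw [charDegrees_congr e]
      exact E.l2odd F h2 h5
    · have h5' : Fintype.card F = 5 := by
        rcases Nat.lt_or_ge (Fintype.card F) 5 with h | h
        · have h6 : Fintype.card F = 4 := by omega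
          exact absurd (FiniteField.even_card_iff_char_two.2 (by rw [h6])) h2
        · omega
      let _ : Fintype (GaloisField 2 2) := Fintype.ofFinite _
      have h4' : Fintype.card (GaloisField 2 2) = 4 := by
        rw [← Nat.card_eq_fintype_card, GaloisField.card 2 2 (by norm_num)]
        norm_num
      have h2' : ringChar (GaloisField 2 2) = 2 := ringChar.eq (GaloisField 2 2) 2
      obtain ⟨e1⟩ := I.a5' F h5'
      obtain ⟨e2⟩ := I.a5 (GaloisField 2 2) h4'
      have e3 := (e.trans e1).trans e2.symm
      refine Or.inr (Or.inl ⟨?_, GaloisField 2 2, inferInstance, inferInstance, h2', h4'.ge, ⟨e3⟩⟩)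
      rw [charDegrees_congr e3]
      exact E.l2even _ h2' h4'.ge

theorem concl_psl (I : Isos.{u}) (E : Exact.{u}) (C : Classical) (h : IsPSL G) : Concl G := by
  obtain ⟨F, _, _, n, hn, h4, ⟨e⟩⟩ := h
  rcases Nat.lt_or_ge n 4 with hn4 | hn4
  · have hn23 : n = 2 ∨ n = 3 := by omega
    rcases hn23 with rfl | rfl
    · exact concl_l2 I E (h4 rfl) e
    · have hq := Fintype.one_lt_card (α := F)
      rcases Nat.lt_or_ge (Fintype.card F) 5 with h5 | h5
      · have h234 : Fintype.card F = 2 ∨ Fintype.card F = 3 ∨ Fintype.card F = 4 := by omega
        rcases h234 with h2 | h3 | h4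
        · have h7 : Fact (Nat.Prime 7) := ⟨by norm_num⟩
          obtain ⟨e'⟩ := I.l32 (ZMod 7) F (ZMod.card 7) h2
          exact concl_l2 I E (F := ZMod 7) (by rw [ZMod.card]; norm_num) (e.trans e'.symm)
        · have h3' : Fact (Nat.Prime 3) := ⟨by norm_num⟩
          obtain ⟨e1⟩ := H363.PslCard.psl_of_card (n := Fin 3) (F := F) (F' := ZMod 3) (h3.trans (ZMod.card 3).symm)
          have e2 := e.trans e1
          refine Or.inr (Or.inr (Or.inr (Or.inr ⟨?_, Or.inl ⟨e2⟩⟩)))
          rw [charDegrees_congr e2]
          exact E.l33
        · refine Or.inr (Or.inr (Or.inr (Or.inl ⟨?_, Or.inr ⟨F, inferInstance, inferInstance, h4, ⟨e⟩⟩⟩)))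
          rw [charDegrees_congr e]
          exact E.l34 F h4
      · exact Or.inl (Eight.of_equiv e (C.l3 F h5))
  · exact Or.inl (Eight.of_equiv e (C.ln F n hn4))

theorem concl_alt (I : Isos.{u}) (E : Exact.{u}) (C : Classical) (h : IsAlternating G) : Concl G := by
  obtain ⟨n, hn, ⟨e⟩⟩ := h
  rcases Nat.lt_or_ge n 8 with h8 | h8
  · have h567 : n = 5 ∨ n = 6 ∨ n = 7 := by omega
    rcases h567 with rfl | rfl | rfl
    · let _ : Fintype (GaloisField 2 2) := Fintype.ofFinite _
      have h4' : Fintype.card (GaloisField 2 2) = 4 := by
        rw [← Nat.card_eq_fintype_card, GaloisField.card 2 2 (by norm_num)]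
        norm_num
      obtain ⟨e2⟩ := I.a5 (GaloisField 2 2) h4'
      exact concl_l2 I E h4'.ge (e.trans e2.symm)
    · let _ : Fintype (GaloisField 3 2) := Fintype.ofFinite _
      have h9 : Fintype.card (GaloisField 3 2) = 9 := by
        rw [← Nat.card_eq_fintype_card, GaloisField.card 3 2 (by norm_num)]
        norm_num
      obtain ⟨e2⟩ := I.a6 (GaloisField 3 2) h9
      exact concl_l2 I E (by rw [h9]; norm_num) (e.trans e2.symm)
    · refine Or.inr (Or.inr (Or.inr (Or.inr ⟨?_, Or.inr (Or.inl ⟨e⟩)⟩)))
      rw [charDegrees_congr e]
      exact E.a7
  · exact Or.inl (Eight.of_equiv e (C.alt n h8))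

theorem concl_psp (C : Classical) (h : IsPSp G) : Concl G := by
  obtain ⟨F, _, _, m, hm, h3, ⟨e⟩⟩ := h
  left
  rcases Nat.lt_or_ge m 3 with hm3 | hm3
  · obtain rfl : m = 2 := by omega
    rcases Nat.lt_or_ge (Fintype.card F) 4 with h4 | h4
    · exact Eight.of_equiv e (C.sp43 F (by have := h3 rfl; omega))
    · exact Eight.of_equiv e (C.sp4 F h4)
  · exact Eight.of_equiv e (C.sp F m hm3)

theorem concl_psu (C : Classical) (h : IsPSU G) : Concl G := by
  obtain ⟨F, _, _, n, q, hF, hn, h32, ⟨e⟩⟩ := h
  left
  refine Eight.of_equiv e ?_
  have hq2 : 2 ≤ q := by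
    by_contra hcon
    have h1 : 1 < Fintype.card F := Fintype.one_lt_card
    rw [hF] at h1
    have : q = 0 ∨ q = 1 := by omega
    rcases this with rfl | rfl <;> simp at h1
  rcases Nat.lt_or_ge n 4 with h4 | h4
  · obtain rfl : n = 3 := by omega
    exact C.u3 F q hF (by by_contra hc; exact h32 ⟨rfl, by omega⟩)
  rcases Nat.lt_or_ge n 5 with h5 | h5
  · obtain rfl : n = 4 := by omega
    rcases Nat.lt_or_ge q 3 with hq | hq
    · obtain rfl : q = 2 := by omega
      exact C.u42 F hF
    · exact C.u4 F q hF hq
  by_cases h52 : n = 5 ∧ q = 2
  · obtain ⟨rfl, rfl⟩ := h52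
    exact C.u52 F hF
  by_cases h62 : n = 6 ∧ q = 2
  · obtain ⟨rfl, rfl⟩ := h62
    exact C.u62 F hF
  by_cases h72 : n = 7 ∧ q = 2
  · obtain ⟨rfl, rfl⟩ := h72
    exact C.u72 F hF
  exact C.un F n q hF h5 h52 h62 h72

theorem concl_exc [Finite G] [IsSimpleGroup G] (I : Isos.{u}) (E : Exact.{u}) (X : Exceptional.{u})
    (h : IsExceptionalLieType G) : Concl G := by
  rcases h with h | h | h | h | h | h | h | h | h | h | h
  · exact Or.inl (X.g2 G h)
  · exact Or.inl (X.f4 G h)
  · exact Or.inl (X.e6 G h)
  · exact Or.inl (X.e7 G h)
  · exact Or.inl (X.e8 G h)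
  · exact Or.inl (X.twE6 G h)
  · exact Or.inl (X.d4 G h)
  · exact Or.inr (Or.inr (Or.inr (Or.inl ⟨E.sz G h, Or.inl (I.sz G h)⟩)))
  · exact Or.inl (X.ree G h)
  · exact Or.inl (X.twF4 G h)
  · exact Or.inl (X.tits G h)

theorem concl_spor [Finite G] [IsSimpleGroup G] (I : Isos.{u}) (E : Exact.{u}) (X : Sporadic.{u})
    (h : IsSporadicGroup G) : Concl G := by
  rcases h with h | h | h | h | h | h | h | h | h | h | h | h | h | h | h | h | h | h | h | h | h | h | h | h | h | h
  · exact Or.inr (Or.inr (Or.inr (Or.inr ⟨E.m11 G h, Or.inr (Or.inr (Or.inl (I.m11 G h)))⟩)))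
  · exact Or.inl (X.m12 G h)
  · exact Or.inl (X.m22 G h)
  · exact Or.inl (X.m23 G h)
  · exact Or.inl (X.m24 G h)
  · exact Or.inr (Or.inr (Or.inr (Or.inr ⟨E.j1 G h, Or.inr (Or.inr (Or.inr (I.j1 G h)))⟩)))
  · exact Or.inl (X.j2 G h)
  · exact Or.inl (X.j3 G h)
  · exact Or.inl (X.j4 G h)
  · exact Or.inl (X.co1 G h)
  · exact Or.inl (X.co2 G h)
  · exact Or.inl (X.co3 G h)
  · exact Or.inl (X.mcl G h)
  · exact Or.inl (X.hs G h)
  · exact Or.inl (X.suz G h)
  · exact Or.inl (X.he G h)
  · exact Or.inl (X.ru G h)
  · exact Or.inl (X.on G h)
  · exact Or.inl (X.ly G h)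
  · exact Or.inl (X.fi22 G h)
  · exact Or.inl (X.fi23 G h)
  · exact Or.inl (X.fi24 G h)
  · exact Or.inl (X.hn G h)
  · exact Or.inl (X.th G h)
  · exact Or.inl (X.b G h)
  · exact Or.inl (X.m G h)

theorem not_prime_cyclic (hna : ¬ IsMulCommutative G) : ¬ IsPrimeCyclic G := by
  intro h
  apply hna
  have : Fact (Nat.card G).Prime := ⟨h⟩
  have h1 : IsCyclic G := isCyclic_of_prime_card rfl
  exact ⟨⟨fun a b => (IsCyclic.commGroup (α := G)).mul_comm a b⟩⟩

/-- **S4899 for the known groups, from the rows.** -/
theorem concl_of_known [Finite G] [IsSimpleGroup G] (R : Rows.{u}) (hna : ¬ IsMulCommutative G)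
    (hK : IsKnownSimple' G) : Concl G := by
  rcases hK with h | h | h | h | h | h | h | h | h | h
  · exact absurd h (not_prime_cyclic hna)
  · exact concl_alt R.isos R.exact_ R.classical h
  · exact concl_psl R.isos R.exact_ R.classical h
  · exact concl_psp R.classical h
  · exact concl_psu R.classical h
  · obtain ⟨F, _, _, m, hm, ho, ⟨e⟩⟩ := h
    exact Or.inl (Eight.of_equiv e (R.classical.oo F m hm ho))
  · obtain ⟨F, _, _, m, hm, ⟨e⟩⟩ := h
    exact Or.inl (Eight.of_equiv e (R.classical.op F m hm))
  · obtain ⟨F, _, _, m, a, b, hm, ha, ⟨e⟩⟩ := h
    exact Or.inl (Eight.of_equiv e (R.classical.om F m a b hm ha))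
  · exact concl_exc R.isos R.exact_ R.exceptional h
  · exact concl_spor R.isos R.exact_ R.sporadic h

end

end Cfsg.Agent.H733.Eight
end

-- part: H612/Eight/Ten
section
set_option linter.all false

/-!
# Eight character degrees in `Ω⁺_{10}(2)` (helper612, S4899)
-/

set_option autoImplicit false

open Cfsg

namespace Cfsg.Agent.H612.Eight

open Cfsg.Agent.H674.Dl Cfsg.Agent.H477.HC

theorem charP_of_card {F : Type*} [Field F] [Fintype F] {p : ℕ} (hp : p.Prime) (h : Fintype.card F = p) :
    CharP F p := by
  have : Fact p.Prime := ⟨hp⟩
  exact charP_of_card_eq_prime h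

end Cfsg.Agent.H612.Eight

private theorem dce_39d5f21a5bea : _root_.True := by
  try have : _root_.True := by simp only [_root_.Cfsg.Agent.H674.Dl.AP.eq_1]
  exact _root_.True.intro
end

-- part: H664/Eight/CertON
section
set_option linter.all false

/-!
# ON has at least eight character degrees: certificates, first version (helper471, for S4899; restored by helper664)
-/

set_option autoImplicit false
set_option maxRecDepth 100000
set_option maxHeartbeats 4000000
set_option linter.unusedSectionVars false

namespace Cfsg.Agent.H664.Eight.CertON

open Cfsg Cfsg.Agent.Characters.Core Cfsg.Agent.H653.Sys Cfsg.Agent.H653.Sieve Cfsg.Agent.H471.Eight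
open Cfsg.Agent.H664.Eight

universe u

def L : List (ℕ × ℕ) := [(31, 1), (19, 1), (11, 1), (7, 3), (5, 1), (3, 4), (2, 9)]

def Ds : List PD := [⟨31, 1, 15, 2, [(0, 0), (1, 2), (15, -1), (16, 1), (30, -2)], 62, 2, true⟩,
  ⟨19, 1, 6, 3, [(0, 0), (1, 3), (6, -1), (13, 1), (18, -3)], 57, 3, true⟩,
  ⟨11, 1, 10, 1, [(0, 0), (1, 1), (10, -1)], 11, 0, false⟩]

def Cs : List Cond := [condEq 175616]

/-- the table of the degrees and column values -/
def B : List (List (ℕ × List ℤ)) := [[],
  [(341, [0, -3, 0]), (868, [0, 1, -1]), (6138, [0, 3, 0]), (26334, [-1, 0, 0]), (40920, [0, 1, 0]), (58311, [0, 0, 0]), (90288, [1, 0, 0]), (110484, [0, -3, 0]), (130340, [1, 0, 1]), (238545, [0, 0, -1]), (388740, [0, 0, 0])],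
  [(342, [2, 0, 1]), (495, [-2, 3, 0]), (6479, [0, 0, 0]), (23870, [0, -1, 0]), (52668, [-2, 0, 0]), (64449, [0, 3, 0]), (84645, [-1, 0, 0]), (116622, [0, 0, 0]), (174592, [0, 3, 0]), (180576, [2, 0, 0]), (226765, [0, 0, 0]), (296856, [0, 0, -1]), (318990, [0, -3, 1]), (376960, [0, 0, 1]), (429660, [0, 1, 0])],
  [(836, [-2, 0, 0]), (6480, [2, 3, 1]), (6820, [0, -3, 0]), (24738, [0, 0, -1]), (46872, [0, -3, 1]), (58653, [2, 0, 1]), (64790, [0, 0, 0]), (116963, [0, -3, 0]), (122760, [0, 3, 0]), (174933, [0, 0, 0]), (291060, [2, -3, 0])],
  [(837, [0, 3, 1]), (12958, [0, 0, 0]), (51072, [-1, 0, -1]), (53010, [0, 0, 1]), (100440, [0, -1, -1]), (169290, [-2, 0, 0]), (233244, [0, 0, 0]), (250635, [0, -1, 0]), (253440, [-1, -3, 0]), (453530, [0, 0, 0])],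
  [(1178, [0, 0, 1]), (7315, [-2, 0, 0]), (19096, [0, 3, 0]), (25080, [2, 0, 0]), (45276, [1, -3, 0]), (48608, [0, -1, -1]), (111321, [0, 0, 1]), (141360, [0, 0, -1]), (181412, [0, 0, 0]), (291555, [0, 0, 0]), (343728, [0, -3, 0]), (621984, [0, 0, 0])],
  [(1519, [0, -3, 1]), (2046, [0, 1, 0]), (4851, [-1, -1, 0]), (19437, [0, 0, 0]), (36828, [0, -1, 0]), (71610, [0, -3, 0]), (129580, [0, 0, 0]), (169632, [0, 0, 1]), (175616, [2, -3, 1]), (182280, [0, 1, -1]), (349866, [0, 0, 0])],
  [(31185, [-2, -1, 0]), (37696, [0, 0, -1]), (77748, [0, 0, 0]), (175770, [0, 3, 1]), (234080, [-2, 0, 0]), (408177, [0, 0, 0]), (518320, [0, 0, 0]), (611072, [0, 1, 0])],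
  [(3255, [0, -1, -1]), (25916, [0, 0, 0]), (65968, [0, 0, 1]), (136059, [0, 0, 0]), (147840, [2, 3, 0]), (466488, [0, 0, 0])],
  [(77, [-1, 3, 0]), (14136, [0, 0, 1]), (26784, [0, 1, -1]), (63504, [1, -1, 1]), (66836, [0, 1, 0]), (194370, [0, 0, 0]), (414656, [0, 0, 0]), (460845, [-2, 0, 0]), (524799, [0, 0, 0]), (634942, [0, 0, 0])],
  [(418, [-1, 0, 0]), (24320, [1, 0, -1]), (32395, [0, 0, 0]), (200508, [0, 3, 0]), (362824, [0, 0, 0]), (432915, [0, 0, -1]), (498960, [-1, 3, 0]), (583110, [0, 0, 0])],
  [(12540, [1, 0, 0]), (20615, [0, 0, 1]), (26752, [-2, 0, 0]), (32736, [0, -3, 0]), (90706, [0, 0, 0]), (207360, [2, 1, -1]), (218240, [0, -1, 0]), (310992, [0, 0, 0]), (589248, [0, 3, 0])],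
  [(760, [1, 0, 1]), (21483, [0, 1, 0]), (38874, [0, 0, 0]), (117040, [-1, 0, 0]), (259160, [0, 0, 0]), (386694, [0, -1, 0]), (401280, [1, 0, 0]), (519498, [0, 0, 1]), (659680, [0, 0, -1])],
  [(4960, [0, 3, -1]), (10944, [2, 0, -1]), (15840, [-2, 1, 0]), (85064, [0, 3, 1]), (97185, [0, 0, 0]), (114576, [0, -1, 0]), (143374, [-2, 0, 0]), (207328, [0, 0, 0]), (247380, [0, 0, 1]), (317471, [0, 0, 0]), (491568, [2, 0, 0])],
  [(5301, [0, 0, -1]), (13376, [-1, 0, 0]), (45353, [0, 0, 0]), (115444, [0, 0, -1]), (138105, [0, 1, 0]), (155496, [0, 0, 0]), (277760, [0, -3, -1]), (636120, [0, 0, 1])],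
  [(32, [2, 1, -1]), (1596, [-1, 0, 1]), (10912, [0, -1, 0]), (63612, [0, 0, -1]), (71687, [-1, 0, 0]), (103664, [0, 0, 0]), (196416, [0, 1, 0]), (245784, [1, 0, 0]), (381920, [0, 3, 0]), (544236, [0, 0, 0])],
  [(2464, [-1, 1, 0]), (5643, [2, 0, 0]), (11780, [0, 0, -1]), (27930, [-2, 0, 1]), (51832, [0, 0, 0]), (202027, [0, 0, 1]), (272118, [0, 0, 0]), (452352, [0, 0, -1]), (654720, [0, -3, 0])]]

def RS : List (ℕ × List ℕ) := [(31, [0, 1, 15, 16, 30]), (19, [0, 1, 6, 13, 18]), (11, [0, 1, 10])]

theorem hB : allDiv 460815505920 (tabD 460815505920 RS (Ds.map PD.fam) 17 B) L 1 = true :=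
  Cfsg.Agent.H653.Sys.Qk.tab 678833 (by decide +kernel)

section

variable {S : Type u} [Group S] [Finite S] [Fintype (IrrCharacter S)]

theorem tab [IsSimpleGroup S] (hN : Nat.card S = 460815505920) (hx : ∀ D ∈ Ds, D.Cent S) (hC : ∀ c ∈ Cs, c.Holds S) :
    Tab S (fun g : S => orderOf g) 460815505920 L (Ds.map PD.fam) Cs B.flatten :=
  Tab.of_primes hN (by norm_num) (by decide +kernel) (by decide +kernel) rfl (by decide +kernel) hx hB hC

variable {lab : S → ℕ}

def Q1 : List ℕ := [32, 10944, 27930, 207360]

theorem must_1 (C : Tab S lab 460815505920 L (Ds.map PD.fam) Cs B.flatten) : ∃ d ∈ Q1, d ∈ charDegrees S :=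
  Cfsg.Agent.H471.Eight.Qp.must C _ 0
    [⟨0, 0, 2304078, [0, 2304078]⟩, ⟨0, 0, 0, [0]⟩, ⟨0, 0, 0, []⟩]
    [-4608155] (by decide +kernel)

def Q2 : List ℕ := [495, 836, 5643, 7315, 15840, 25080, 26752, 52668, 143374, 169290, 234080, 460845]

theorem must_2 (C : Tab S lab 460815505920 L (Ds.map PD.fam) Cs B.flatten) : ∃ d ∈ Q2, d ∈ charDegrees S :=
  Cfsg.Agent.H471.Eight.Qp.must C _ 8
    [⟨5083105, -519779103582, 1037539738686, [192172446125, -15052425215]⟩, ⟨452974, 6560380137, 2012112844680, [-43790072851]⟩, ⟨8024819, 2102999059912, 0, []⟩]
    [-2217302617880] (by decide +kernel)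

def Q3 : List ℕ := [77, 341, 1519, 4960, 6138, 6820, 19096, 32736, 46872, 64449, 71610, 122760, 147840, 174592, 175770, 200508, 381920, 498960, 589248]

theorem must_3 (C : Tab S lab 460815505920 L (Ds.map PD.fam) Cs B.flatten) : ∃ d ∈ Q3, d ∈ charDegrees S :=
  Cfsg.Agent.H471.Eight.Qp.must C _ 4
    [⟨371893, 9171166419, 0, [-291043410546, 13352757440]⟩, ⟨-6382953, -197011011474, 2826699514818, [1184669916974]⟩, ⟨-603336, 24991230718, 0, []⟩]
    [0] (by decide +kernel)

def Q4 : List ℕ := [32, 837, 10944, 14136, 20615, 27930, 53010, 65968, 85064, 111321, 169632, 175770, 202027, 247380, 318990, 376960, 519498, 636120]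

theorem must_4 (C : Tab S lab 460815505920 L (Ds.map PD.fam) Cs B.flatten) : ∃ d ∈ Q4, d ∈ charDegrees S :=
  Cfsg.Agent.H471.Eight.Qp.must C _ 0
    [⟨0, 0, 358777786752, [0, 357503642496]⟩, ⟨0, 0, 32915393280, [-46428028416]⟩, ⟨-3048192, 3590770176, 0, []⟩]
    [-322570854144] (by decide +kernel)

def Q5 : List ℕ := [77, 418, 760, 1596, 2464, 4851, 12540, 13376, 24320, 26334, 45276, 51072, 63504, 71687, 84645, 90288, 117040, 130340, 245784, 253440, 401280]

theorem must_5 (C : Tab S lab 460815505920 L (Ds.map PD.fam) Cs B.flatten) : ∃ d ∈ Q5, d ∈ charDegrees S :=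
  Cfsg.Agent.H471.Eight.Qp.must C _ 2
    [⟨-20508, 47235473, -681627174911, [-4068365783, -123758530]⟩, ⟨186731, 5250906875, 5942677511, [3563134628]⟩, ⟨19486, 65782180, 0, []⟩]
    [0] (by decide +kernel)

def Q6 : List ℕ := [77, 341, 495, 837, 6138, 6820, 19096, 32736, 45276, 64449, 85064, 122760, 174592, 175770, 200508, 381920, 498960, 589248]

theorem must_6 (C : Tab S lab 460815505920 L (Ds.map PD.fam) Cs B.flatten) : ∃ d ∈ Q6, d ∈ charDegrees S :=
  Cfsg.Agent.H471.Eight.Qp.must C _ 2
    [⟨32524, 93412335, 0, [184206052800, 553771375]⟩, ⟨-1742490, -42681149811, 438871910400, [-230074365207]⟩, ⟨69727, 556420998, 0, []⟩]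
    [-203476976640] (by decide +kernel)

def Q7 : List ℕ := [24738, 37696, 48608, 51072, 63612, 100440, 115444, 141360, 182280, 207360, 238545, 277760, 296856, 432915, 452352, 659680]

theorem must_7 (C : Tab S lab 460815505920 L (Ds.map PD.fam) Cs B.flatten) : ∃ d ∈ Q7, d ∈ charDegrees S :=
  Cfsg.Agent.H471.Eight.Qp.must C _ 0
    [⟨0, 0, 46081550592, [0, 1486501632]⟩, ⟨0, 0, 38401292160, [-14956292736]⟩, ⟨3556224, 41892318720, 0, []⟩]
    [-714264034176] (by decide +kernel)

def Q8 : List ℕ := [341, 495, 837, 6138, 6820, 15840, 19096, 32736, 64449, 85064, 122760, 138105, 174592, 175770, 182280, 196416, 200508, 381920, 429660, 498960, 589248, 611072]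

theorem must_8 (C : Tab S lab 460815505920 L (Ds.map PD.fam) Cs B.flatten) : ∃ d ∈ Q8, d ∈ charDegrees S :=
  Cfsg.Agent.H471.Eight.Qp.must C _ 0
    [⟨0, 0, 698903517312, [155504587392, 0]⟩, ⟨-1580544, -25780516608, 131417755392, [-110781909504]⟩, ⟨0, 0, 0, []⟩]
    [0] (by decide +kernel)

def Q9 : List ℕ := [342, 7315, 26752, 31185, 51072, 52668, 71687, 84645, 117040, 143374, 169290, 234080, 253440, 460845, 498960]

theorem must_9 (C : Tab S lab 460815505920 L (Ds.map PD.fam) Cs B.flatten) : ∃ d ∈ Q9, d ∈ charDegrees S :=
  Cfsg.Agent.H471.Eight.Qp.must C _ 0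
    [⟨2868264, 1198934352, 74333929824, [6557387760, -77712744816]⟩, ⟨-21168, 4157733888, 95363208864, [12368208384]⟩, ⟨0, 0, 0, []⟩]
    [-828919320768] (by decide +kernel)

def Q10 : List ℕ := [341, 1519, 4960, 6138, 6480, 6820, 19096, 32736, 46872, 64449, 71610, 110484, 116963, 122760, 147840, 174592, 200508, 253440, 318990, 343728, 381920, 654720]

theorem must_10 (C : Tab S lab 460815505920 L (Ds.map PD.fam) Cs B.flatten) : ∃ d ∈ Q10, d ∈ charDegrees S :=
  Cfsg.Agent.H471.Eight.Qp.must C _ 22
    [⟨870006, 7717302098, 865584421, [-4030249482254, -22688909518]⟩, ⟨2404186, -1317453056533, 13233126754256, [3945893761498]⟩, ⟨-1145455, 14302709512, 0, []⟩]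
    [0] (by decide +kernel)

def Q11 : List ℕ := [32, 868, 2046, 2464, 3255, 4851, 10912, 15840, 21483, 23870, 26784, 31185, 36828, 40920, 48608, 63504, 66836, 100440, 114576, 138105, 182280, 196416, 207360, 218240, 250635]

theorem must_11 (C : Tab S lab 460815505920 L (Ds.map PD.fam) Cs B.flatten) : ∃ d ∈ Q11, d ∈ charDegrees S :=
  Cfsg.Agent.H471.Eight.Qp.must C _ 6
    [⟨94822, 272342117, 0, [-7917984432, 1614511269]⟩, ⟨-239182, 2569177267, -927472993406, [6771480898]⟩, ⟨203288, 1622236203, 0, []⟩]
    [-422959465373] (by decide +kernel)

def Q12 : List ℕ := [1178, 1519, 1596, 4960, 5301, 10944, 11780, 14136, 20615, 24320, 24738, 27930, 37696, 46872, 53010, 63612, 65968, 111321, 115444, 141360, 169632, 202027, 238545, 247380, 296856]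

theorem must_12 (C : Tab S lab 460815505920 L (Ds.map PD.fam) Cs B.flatten) : ∃ d ∈ Q12, d ∈ charDegrees S :=
  Cfsg.Agent.H471.Eight.Qp.must C _ 44
    [⟨739085, 2122761479, 3043568025266, [365569519304, 4083777320363]⟩, ⟨-6549706, 243930382880, 16455788501259, [2190653662710]⟩, ⟨2427893, -7080900727951, 0, []⟩]
    [0] (by decide +kernel)

def Q13 : List ℕ := [418, 836, 5643, 6479, 7315, 12540, 12958, 13376, 19437, 25080, 25916, 26334, 26752, 32395, 38874, 45353, 51832, 58311, 58653, 64790, 71687, 77748, 84645, 90288, 90706, 97185, 103664, 116622, 117040, 129580, 130340, 136059, 155496, 169632, 174933, 180576, 181412, 194370, 202027, 207328, 218240, 226765, 233244, 234080, 238545, 245784, 247380, 250635, 259160, 272118, 277760, 291060, 291555, 296856, 310992, 317471, 343728, 349866, 362824, 376960, 386694, 388740, 401280, 408177, 414656, 429660, 432915, 452352, 453530, 460845, 466488, 491568, 498960, 518320, 519498, 524799, 544236, 583110, 589248, 611072, 621984, 634942, 636120, 654720, 659680]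

theorem must_13 (C : Tab S lab 460815505920 L (Ds.map PD.fam) Cs B.flatten) : ∃ d ∈ Q13, d ∈ charDegrees S :=
  Cfsg.Agent.H471.Eight.Qp.must C _ (-14)
    [⟨-1733169, -35914419666, -128649629332, [124162220720, 27410775472]⟩, ⟨933528, 108477487643, 264046279166, [-404305221716]⟩, ⟨-323466, 234554754372, 0, []⟩]
    [0] (by decide +kernel)

def Q14 : List ℕ := [342, 836, 5643, 7315, 26752, 31185, 52668, 58653, 143374, 169290, 234080, 460845, 498960]

theorem must_14 (C : Tab S lab 460815505920 L (Ds.map PD.fam) Cs B.flatten) : ∃ d ∈ Q14, d ∈ charDegrees S :=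
  Cfsg.Agent.H471.Eight.Qp.must C _ 56
    [⟨302550180, -3802651567567, 38457670406159, [692295246289, -15889874161032]⟩, ⟨-21974373, 2188502317501, 24325720972316, [6491810163288]⟩, ⟨5587059, 132243358287, 0, []⟩]
    [-69733700747231] (by decide +kernel)

def Q15 : List ℕ := [342, 836, 5643, 7315, 25080, 26752, 52668, 58653, 143374, 169290, 180576, 234080]

theorem must_15 (C : Tab S lab 460815505920 L (Ds.map PD.fam) Cs B.flatten) : ∃ d ∈ Q15, d ∈ charDegrees S :=
  Cfsg.Agent.H471.Eight.Qp.must C _ 29
    [⟨-435545, -1605748583054, 4490483791394, [341063518235, -3044882217012]⟩, ⟨-10368510, 942703838071, 6305742748098, [576368015425]⟩, ⟨6863509, 414481469876, 0, []⟩]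
    [0] (by decide +kernel)

def Q16 : List ℕ := [868, 2046, 6479, 10912, 12958, 19437, 21483, 23870, 25916, 31185, 32395, 36828, 38874, 40920, 45353, 46872, 51832, 52668, 53010, 58311, 64790, 65968, 66836, 71610, 77748, 84645, 90706, 97185, 103664, 110484, 111321, 114576, 116622, 116963, 117040, 129580, 136059, 138105, 143374, 155496, 169290, 169632, 174933, 181412, 194370, 196416, 202027, 207328, 218240, 226765, 233244, 234080, 247380, 250635, 253440, 259160, 272118, 277760, 291555, 310992, 317471, 318990, 343728, 349866, 362824, 376960, 386694, 388740, 408177, 414656, 429660, 453530, 460845, 466488, 498960, 518320, 519498, 524799, 544236, 583110, 589248, 611072, 621984, 634942, 636120, 654720, 659680]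

theorem must_16 (C : Tab S lab 460815505920 L (Ds.map PD.fam) Cs B.flatten) : ∃ d ∈ Q16, d ∈ charDegrees S :=
  Cfsg.Agent.H471.Eight.Qp.must C _ (-111)
    [⟨39667802, 550565760652, 2866674542339, [-520871102282, -202850518016]⟩, ⟨13447016, 160023624218, -1989465319514, [782095076483]⟩, ⟨-48186831, 1040803989562, 0, []⟩]
    [0] (by decide +kernel)

def Q17 : List ℕ := [6479, 12958, 19437, 25916, 32395, 38874, 45353, 51832, 58311, 64790, 77748, 90706, 97185, 103664, 111321, 114576, 116622, 129580, 130340, 136059, 138105, 143374, 155496, 169290, 169632, 174933, 180576, 181412, 194370, 196416, 202027, 207328, 218240, 226765, 233244, 234080, 245784, 247380, 250635, 259160, 272118, 291060, 291555, 310992, 317471, 318990, 343728, 349866, 362824, 376960, 381920, 386694, 388740, 401280, 408177, 414656, 429660, 432915, 452352, 453530, 460845, 466488, 491568, 498960, 518320, 519498, 524799, 544236, 583110, 589248, 611072, 621984, 634942, 636120, 654720, 659680]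

theorem must_17 (C : Tab S lab 460815505920 L (Ds.map PD.fam) Cs B.flatten) : ∃ d ∈ Q17, d ∈ charDegrees S :=
  Cfsg.Agent.H471.Eight.Qp.must C _ (-74)
    [⟨-1030666, 24674151726, 878217029949, [-42431877074, 539678529695]⟩, ⟨-557006, 370999184578, 0, [277419061889]⟩, ⟨-17251594, 1463211183783, 0, []⟩]
    [0] (by decide +kernel)

def Q18 : List ℕ := [342, 836, 5643, 6480, 7315, 25080, 26752, 52668, 58653, 147840, 180576, 491568]

theorem must_18 (C : Tab S lab 460815505920 L (Ds.map PD.fam) Cs B.flatten) : ∃ d ∈ Q18, d ∈ charDegrees S :=
  Cfsg.Agent.H471.Eight.Qp.must C _ 19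
    [⟨-24279542, -1838018277028, 8526148646400, [-3749511684728, -3941642476800]⟩, ⟨-774123, 7875164463, 16487072743680, [-25018035840]⟩, ⟨692771, 5528311855, 0, []⟩]
    [0] (by decide +kernel)

def Q19 : List ℕ := [495, 837, 868, 2046, 2464, 3255, 10912, 11780, 15840, 21483, 23870, 24738, 26784, 31185, 36828, 37696, 40920, 45276, 48608, 63612, 66836, 71610, 85064, 100440, 110484, 114576, 115444, 116963, 138105, 141360, 182280, 196416, 218240, 238545, 250635, 277760, 291060, 296856, 343728, 386694, 429660, 432915, 452352, 654720, 659680]

theorem must_19 (C : Tab S lab 460815505920 L (Ds.map PD.fam) Cs B.flatten) : ∃ d ∈ Q19, d ∈ charDegrees S :=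
  Cfsg.Agent.H471.Eight.Qp.must C _ 0
    [⟨0, 0, 2464082913600, [1076351056704, -39020667840]⟩, ⟨7771008, 84797239296, -3587534049792, [-2455024618368]⟩, ⟨13829760, 73311557760, 0, []⟩]
    [0] (by decide +kernel)

def Q20 : List ℕ := [3255, 6479, 12958, 19437, 25916, 32395, 36828, 38874, 45353, 48608, 51832, 53010, 58311, 64790, 65968, 77748, 90706, 97185, 100440, 103664, 111321, 114576, 115444, 116622, 129580, 136059, 138105, 141360, 143374, 155496, 169290, 169632, 174933, 180576, 181412, 194370, 196416, 202027, 207328, 218240, 226765, 233244, 234080, 238545, 247380, 250635, 259160, 272118, 277760, 291060, 291555, 296856, 310992, 317471, 318990, 343728, 349866, 362824, 376960, 386694, 388740, 401280, 408177, 414656, 429660, 432915, 452352, 453530, 460845, 466488, 491568, 518320, 519498, 524799, 544236, 583110, 589248, 611072, 621984, 634942, 636120, 654720, 659680]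

theorem must_20 (C : Tab S lab 460815505920 L (Ds.map PD.fam) Cs B.flatten) : ∃ d ∈ Q20, d ∈ charDegrees S :=
  Cfsg.Agent.H471.Eight.Qp.must C _ (-199)
    [⟨-2753338, 65914912493, 14433005706662, [530348363757, 292572327499]⟩, ⟨17445859, 1033066340222, -502903912111, [-3269330354046]⟩, ⟨-5290505, 471155436493, 0, []⟩]
    [0] (by decide +kernel)

def Q21 : List ℕ := [837, 3255, 6480, 11780, 24738, 37696, 48608, 63612, 85064, 100440, 115444, 141360, 175770, 238545, 277760, 296856, 432915, 452352, 659680]

theorem must_21 (C : Tab S lab 460815505920 L (Ds.map PD.fam) Cs B.flatten) : ∃ d ∈ Q21, d ∈ charDegrees S :=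
  Cfsg.Agent.H471.Eight.Qp.must C _ 0
    [⟨0, 0, 115203876480, [0, -6689257344]⟩, ⟨0, 0, 0, [-465666195456]⟩, ⟨2370816, 12567695616, 0, []⟩]
    [-1812540989952] (by decide +kernel)

def Q22 : List ℕ := [342, 1178, 5301, 6479, 11780, 12958, 14136, 19437, 20615, 24738, 25916, 32395, 37696, 38874, 45353, 51832, 53010, 58311, 63612, 64790, 77748, 90706, 97185, 100440, 103664, 115444, 116622, 129580, 136059, 141360, 143374, 155496, 169290, 174933, 181412, 182280, 194370, 207328, 226765, 233244, 234080, 238545, 259160, 272118, 277760, 291060, 291555, 296856, 310992, 317471, 343728, 349866, 362824, 386694, 388740, 408177, 414656, 429660, 432915, 452352, 453530, 460845, 466488, 491568, 498960, 518320, 524799, 544236, 583110, 589248, 611072, 621984, 634942, 654720, 659680]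

theorem must_22 (C : Tab S lab 460815505920 L (Ds.map PD.fam) Cs B.flatten) : ∃ d ∈ Q22, d ∈ charDegrees S :=
  Cfsg.Agent.H471.Eight.Qp.must C _ (-57)
    [⟨8248150, 256793199132, 5625337404200, [596073385720, -829722678896]⟩, ⟨5041580, 283328936286, 4566149374965, [-59481146619]⟩, ⟨40419342, -2417967393039, 0, []⟩]
    [-1680355617495] (by decide +kernel)

def Q23 : List ℕ := [341, 1519, 4960, 6138, 6479, 6820, 12958, 19096, 19437, 25916, 32395, 32736, 38874, 45276, 45353, 46872, 51832, 53010, 58311, 64449, 64790, 65968, 71610, 71687, 77748, 84645, 90706, 97185, 103664, 110484, 111321, 114576, 116622, 116963, 117040, 122760, 129580, 136059, 143374, 155496, 169290, 169632, 174933, 181412, 194370, 202027, 207328, 218240, 226765, 233244, 234080, 247380, 250635, 253440, 259160, 272118, 277760, 291555, 310992, 317471, 318990, 343728, 349866, 362824, 376960, 386694, 388740, 408177, 414656, 429660, 432915, 452352, 453530, 460845, 466488, 498960, 518320, 519498, 524799, 544236, 583110, 589248, 611072, 621984, 634942, 636120, 654720, 659680]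

theorem must_23 (C : Tab S lab 460815505920 L (Ds.map PD.fam) Cs B.flatten) : ∃ d ∈ Q23, d ∈ charDegrees S :=
  Cfsg.Agent.H471.Eight.Qp.must C _ (-579)
    [⟨210278859, 5939232430842, 2965992720945, [-6308230602987, 5317195244836]⟩, ⟨98046850, -3092930097353, 8688539525691, [8059750285413]⟩, ⟨-160032885, 3545277759629, 0, []⟩]
    [0] (by decide +kernel)

def Q24 : List ℕ := [495, 837, 868, 2046, 3255, 10912, 15840, 21483, 23870, 26784, 31185, 36828, 40920, 48608, 66836, 85064, 100440, 114576, 138105, 175770, 182280, 196416, 218240, 250635, 277760, 291060, 386694, 429660, 611072]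

theorem must_24 (C : Tab S lab 460815505920 L (Ds.map PD.fam) Cs B.flatten) : ∃ d ∈ Q24, d ∈ charDegrees S :=
  Cfsg.Agent.H471.Eight.Qp.must C _ 0
    [⟨0, 0, 1152038765, [230407753, 0]⟩, ⟨0, 0, -921631012, [-460815506]⟩, ⟨0, 0, 0, []⟩]
    [0] (by decide +kernel)

def Q25 : List ℕ := [418, 836, 5643, 6479, 7315, 12540, 12958, 13376, 19437, 25080, 25916, 26334, 26752, 32395, 38874, 45353, 51832, 52668, 58311, 58653, 64790, 71687, 77748, 84645, 90288, 90706, 97185, 103664, 116622, 117040, 129580, 130340, 136059, 155496, 169632, 174933, 180576, 181412, 194370, 202027, 207328, 218240, 226765, 233244, 245784, 247380, 250635, 259160, 272118, 291060, 291555, 310992, 317471, 343728, 349866, 362824, 376960, 386694, 388740, 401280, 408177, 414656, 429660, 432915, 452352, 453530, 460845, 466488, 491568, 518320, 519498, 524799, 544236, 583110, 589248, 611072, 621984, 634942, 636120, 654720, 659680]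

theorem must_25 (C : Tab S lab 460815505920 L (Ds.map PD.fam) Cs B.flatten) : ∃ d ∈ Q25, d ∈ charDegrees S :=
  Cfsg.Agent.H471.Eight.Qp.must C _ (-9)
    [⟨-2001648, -97068888698, -240015645244, [11607267587, -4591962903]⟩, ⟨488177, 99044950214, 243566768824, [-268795101905]⟩, ⟨-2228954, 399591966649, 0, []⟩]
    [0] (by decide +kernel)

def Q26 : List ℕ := [342, 760, 868, 1178, 1519, 4960, 5301, 11780, 14136, 20615, 24738, 26784, 37696, 46872, 51072, 53010, 58653, 63612, 65968, 111321, 115444, 141360, 143374, 169290, 182280, 234080, 238545, 277760, 296856, 318990, 432915, 452352, 460845, 659680]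

theorem must_26 (C : Tab S lab 460815505920 L (Ds.map PD.fam) Cs B.flatten) : ∃ d ∈ Q26, d ∈ charDegrees S :=
  Cfsg.Agent.H471.Eight.Qp.must C _ 7
    [⟨26909546, 704068801726, 6027158033404, [-1366210504795, -3261982489046]⟩, ⟨-1243594, 313200627602, 8335864487971, [5917149728961]⟩, ⟨53941363, -9339690861100, 0, []⟩]
    [0] (by decide +kernel)

def Q27 : List ℕ := [342, 418, 760, 868, 1178, 1596, 3255, 5301, 11780, 12540, 13376, 14136, 20615, 24320, 24738, 26334, 26784, 37696, 48608, 51072, 53010, 58653, 63504, 63612, 65968, 71687, 84645, 90288, 111321, 115444, 117040, 130340, 141360, 169632, 182280, 202027, 238545, 245784, 247380, 296856, 432915, 452352, 498960, 589248]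

theorem must_27 (C : Tab S lab 460815505920 L (Ds.map PD.fam) Cs B.flatten) : ∃ d ∈ Q27, d ∈ charDegrees S :=
  Cfsg.Agent.H471.Eight.Qp.must C _ 831
    [⟨81381521, 1567342498742, -156173860115576, [14184105214193, -100439224571181]⟩, ⟨-338100801, 29586703233823, 140232483370165, [17881961363576]⟩, ⟨234727084, -206459684130225, 0, []⟩]
    [0] (by decide +kernel)

def Q28 : List ℕ := [342, 760, 837, 1178, 5301, 6479, 6480, 11780, 12958, 14136, 19437, 20615, 24738, 25916, 32395, 32736, 37696, 38874, 45353, 51072, 51832, 53010, 58311, 58653, 63612, 64790, 65968, 71610, 77748, 85064, 90706, 97185, 103664, 110484, 115444, 116622, 116963, 129580, 136059, 141360, 155496, 174933, 180576, 181412, 194370, 207328, 226765, 233244, 238545, 259160, 272118, 277760, 291060, 291555, 296856, 310992, 317471, 343728, 349866, 362824, 388740, 408177, 414656, 432915, 452352, 453530, 466488, 491568, 518320, 524799, 544236, 583110, 621984, 634942, 654720, 659680]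

theorem must_28 (C : Tab S lab 460815505920 L (Ds.map PD.fam) Cs B.flatten) : ∃ d ∈ Q28, d ∈ charDegrees S :=
  Cfsg.Agent.H471.Eight.Qp.must C _ (-1068)
    [⟨-232890408, 3088528921394, 262482937516800, [-6362391694282, -202842607242240]⟩, ⟨254307778, 583650372517, 905688412231680, [-127248672405827]⟩, ⟨3686017668, -372474026500189, 0, []⟩]
    [-57946337197056] (by decide +kernel)

def Q29 : List ℕ := [3255, 6479, 12958, 19437, 25080, 25916, 32395, 38874, 45353, 48608, 51832, 53010, 58311, 58653, 64790, 65968, 77748, 90288, 90706, 97185, 100440, 103664, 111321, 114576, 115444, 116622, 117040, 129580, 130340, 136059, 141360, 155496, 169632, 174933, 180576, 181412, 194370, 196416, 202027, 207328, 218240, 226765, 233244, 234080, 238545, 245784, 247380, 250635, 259160, 272118, 277760, 291060, 291555, 296856, 310992, 317471, 318990, 343728, 349866, 362824, 376960, 386694, 388740, 401280, 408177, 414656, 429660, 432915, 452352, 453530, 460845, 466488, 491568, 498960, 518320, 519498, 524799, 544236, 583110, 589248, 611072, 621984, 634942, 636120, 654720, 659680]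

theorem must_29 (C : Tab S lab 460815505920 L (Ds.map PD.fam) Cs B.flatten) : ∃ d ∈ Q29, d ∈ charDegrees S :=
  Cfsg.Agent.H471.Eight.Qp.must C _ (-248)
    [⟨-20329531, 59337694401, 234664709135, [1964152351614, 123004811089]⟩, ⟨17929962, 2028056766377, 797185992997, [-6221329620044]⟩, ⟨-9910837, 374925258339, 0, []⟩]
    [0] (by decide +kernel)

def Q30 : List ℕ := [342, 760, 1178, 5301, 5643, 6479, 11780, 12958, 14136, 19437, 20615, 24738, 25080, 25916, 32395, 37696, 38874, 45353, 51832, 53010, 58311, 58653, 63612, 64790, 65968, 77748, 90288, 90706, 97185, 103664, 111321, 115444, 116622, 129580, 130340, 136059, 141360, 155496, 169632, 174933, 180576, 181412, 194370, 196416, 202027, 207328, 218240, 226765, 233244, 234080, 238545, 245784, 247380, 250635, 259160, 272118, 277760, 291060, 291555, 296856, 310992, 317471, 318990, 343728, 349866, 362824, 376960, 386694, 388740, 401280, 408177, 414656, 429660, 432915, 452352, 453530, 460845, 466488, 491568, 498960, 518320, 519498, 524799, 544236, 583110, 589248, 611072, 621984, 634942, 636120, 654720, 659680]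

theorem must_30 (C : Tab S lab 460815505920 L (Ds.map PD.fam) Cs B.flatten) : ∃ d ∈ Q30, d ∈ charDegrees S :=
  Cfsg.Agent.H471.Eight.Qp.must C _ (-1832)
    [⟨-155868764, -64832980279, 15989389011179, [-4804868893889, -11418813795968]⟩, ⟨99992351, 16967861707177, 30992659256359, [-25598288918764]⟩, ⟨-280612516, -22018195874255, 0, []⟩]
    [0] (by decide +kernel)

def Q31 : List ℕ := [342, 418, 760, 868, 1178, 1596, 2464, 3255, 4851, 5301, 11780, 12540, 13376, 14136, 20615, 24320, 24738, 26334, 26784, 37696, 51072, 53010, 58653, 63504, 63612, 65968, 71687, 84645, 90288, 111321, 117040, 130340, 169632, 202027, 245784, 247380, 318990, 376960, 401280, 429660, 498960, 519498, 636120]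

theorem must_31 (C : Tab S lab 460815505920 L (Ds.map PD.fam) Cs B.flatten) : ∃ d ∈ Q31, d ∈ charDegrees S :=
  Cfsg.Agent.H471.Eight.Qp.must C _ 5
    [⟨195968, 1738313233, -8057565911327, [-463472614751, -1642713683699]⟩, ⟨-4740510, 740724430216, 313304591125, [761938248804]⟩, ⟨-22455352, -2658105585288, 0, []⟩]
    [0] (by decide +kernel)

def Q32 : List ℕ := [836, 5643, 7315, 25080, 26752, 31185, 52668, 143374, 147840, 169290, 234080, 460845]

theorem must_32 (C : Tab S lab 460815505920 L (Ds.map PD.fam) Cs B.flatten) : ∃ d ∈ Q32, d ∈ charDegrees S :=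
  Cfsg.Agent.H471.Eight.Qp.must C _ 4
    [⟨1741207, -184385299972, 342511467256, [-144275183959, -2282973451]⟩, ⟨-466933, 16316627488, 494395456752, [229023064801]⟩, ⟨3143499, 739840694600, 0, []⟩]
    [-1835595493597] (by decide +kernel)

def Q33 : List ℕ := [342, 760, 868, 1178, 1519, 4960, 5301, 11780, 14136, 20615, 24738, 26784, 37696, 46872, 51072, 53010, 58653, 63612, 65968, 111321, 115444, 141360, 143374, 169290, 182280, 234080, 238545, 296856, 432915, 452352, 460845, 498960, 659680]

theorem must_33 (C : Tab S lab 460815505920 L (Ds.map PD.fam) Cs B.flatten) : ∃ d ∈ Q33, d ∈ charDegrees S :=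
  Cfsg.Agent.H471.Eight.Qp.must C _ 26
    [⟨27563868, 708388573621, 6315410715738, [-1123787978745, -3486106968136]⟩, ⟨-4893133, 214450775447, 8664484790278, [6026743622593]⟩, ⟨58542297, -9771417957102, 0, []⟩]
    [0] (by decide +kernel)

def Q34 : List ℕ := [77, 341, 418, 495, 837, 1519, 4960, 6138, 6820, 12540, 13376, 19096, 26334, 32736, 45276, 46872, 64449, 71610, 71687, 84645, 85064, 110484, 115444, 116963, 117040, 122760, 141360, 174592, 200508, 238545, 253440, 277760, 291060, 296856, 343728, 432915, 452352, 659680]

theorem must_34 (C : Tab S lab 460815505920 L (Ds.map PD.fam) Cs B.flatten) : ∃ d ∈ Q34, d ∈ charDegrees S :=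
  Cfsg.Agent.H471.Eight.Qp.must C _ 27
    [⟨2568525, 49467720244, -386297617116, [655489161892, 882234392781]⟩, ⟨2396286, -725088481086, 2122162896344, [-478212031887]⟩, ⟨27372935, 1806808972457, 0, []⟩]
    [0] (by decide +kernel)

def Q35 : List ℕ := [342, 1178, 1519, 4960, 5301, 6479, 6480, 11780, 12958, 14136, 19437, 20615, 24738, 25916, 32395, 37696, 38874, 45353, 46872, 51832, 53010, 58311, 58653, 63612, 64790, 65968, 77748, 90706, 97185, 103664, 111321, 115444, 116622, 129580, 130340, 136059, 141360, 147840, 155496, 169632, 174933, 180576, 181412, 194370, 202027, 207328, 226765, 233244, 234080, 238545, 247380, 259160, 272118, 277760, 291555, 296856, 310992, 317471, 318990, 343728, 349866, 362824, 376960, 388740, 408177, 414656, 432915, 452352, 453530, 460845, 466488, 491568, 518320, 519498, 524799, 544236, 583110, 589248, 621984, 634942, 636120, 654720, 659680]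

theorem must_35 (C : Tab S lab 460815505920 L (Ds.map PD.fam) Cs B.flatten) : ∃ d ∈ Q35, d ∈ charDegrees S :=
  Cfsg.Agent.H471.Eight.Qp.must C _ (-37)
    [⟨-2669439, 39296460227, 13287500247168, [-4127516357686, -4407140092042]⟩, ⟨2435836, 289909619469, 12045798406656, [2100796222255]⟩, ⟨-769243, -8917021833394, 0, []⟩]
    [0] (by decide +kernel)

def Q36 : List ℕ := [495, 836, 5643, 7315, 15840, 25080, 26752, 31185, 52668, 143374, 169290, 180576, 291060, 491568]

theorem must_36 (C : Tab S lab 460815505920 L (Ds.map PD.fam) Cs B.flatten) : ∃ d ∈ Q36, d ∈ charDegrees S :=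
  Cfsg.Agent.H471.Eight.Qp.must C _ 18
    [⟨-21584948, -2762149077147, 8651354909818, [2696420029324, 322175157166]⟩, ⟨-3911356, 290085440554, -78290089213, [-4961703594639]⟩, ⟨10255099, 12275567655214, 0, []⟩]
    [0] (by decide +kernel)

end

/-- **Eight degrees**; `hx` : elements of prime order and their centralizers; `hK` : known degrees. -/
theorem eight {S : Type u} [Group S] [Finite S] [IsSimpleGroup S] (hN : Nat.card S = 460815505920)
    (hx : ∀ pk ∈ ([(31, 1), (19, 1), (11, 1)] : List (ℕ × ℕ)), ∃ x : S, orderOf x = pk.1 ∧
      Nat.card (Subgroup.centralizer ({x} : Set S)) = pk.1 * pk.2)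
    (hK : ∀ d ∈ ([175616] : List ℕ), d ∈ charDegrees S) :
    Eight S := by
  classical
  have := finite_irr (G := S)
  let _ := Fintype.ofFinite (IrrCharacter S)
  have T := tab (S := S) hN (by
    intro D hD
    simp only [Ds, List.mem_cons, List.not_mem_nil, or_false] at hD
    rcases hD with rfl | rfl | rfl
    · exact hx (31, 1) (by simp)
    · exact hx (19, 1) (by simp)
    · exact hx (11, 1) (by simp)) (by
    intro c hc
    simp only [Cs, List.mem_cons, List.not_mem_nil, or_false] at hc
    subst hc
    exact condEq_holds (hK 175616 (by simp)))
  refine eight_of_pack [175616] hK [(643, Q1), (272, Q2), (162, Q3), (75, Q4), (557, Q5), (248, Q6), (75, Q7), (62, Q8), (4, Q9), (359, Q10), (280, Q11), (280, Q12), (7, Q13), (8, Q14), (129, Q15), (7, Q16), (167, Q17), (386, Q18), (32, Q19), (64, Q20), (140, Q21), (86, Q22), (38, Q23), (311, Q24), (74, Q25), (74, Q26), (48, Q27), (97, Q28), (8, Q29), (4, Q30), (113, Q31), (75, Q32), (28, Q33), (32, Q34), (16, Q35), (41, Q36)] ?_ 999 (Cfsg.Agent.H471.Eight.Qp.pack 1307 (by decide +kernel))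
  intro q hq
  simp only [List.mem_cons, List.not_mem_nil, or_false] at hq
  rcases hq with rfl | rfl | rfl | rfl | rfl | rfl | rfl | rfl | rfl | rfl | rfl | rfl | rfl | rfl | rfl | rfl | rfl | rfl | rfl | rfl | rfl | rfl | rfl | rfl | rfl | rfl | rfl | rfl | rfl | rfl | rfl | rfl | rfl | rfl | rfl | rfl
  · exact must_1 T
  · exact must_2 T
  · exact must_3 T
  · exact must_4 T
  · exact must_5 T
  · exact must_6 T
  · exact must_7 T
  · exact must_8 T
  · exact must_9 T
  · exact must_10 T
  · exact must_11 T
  · exact must_12 T
  · exact must_13 T
  · exact must_14 T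
  · exact must_15 T
  · exact must_16 T
  · exact must_17 T
  · exact must_18 T
  · exact must_19 T
  · exact must_20 T
  · exact must_21 T
  · exact must_22 T
  · exact must_23 T
  · exact must_24 T
  · exact must_25 T
  · exact must_26 T
  · exact must_27 T
  · exact must_28 T
  · exact must_29 T
  · exact must_30 T
  · exact must_31 T
  · exact must_32 T
  · exact must_33 T
  · exact must_34 T
  · exact must_35 T
  · exact must_36 T

end Cfsg.Agent.H664.Eight.CertON

private theorem dce_57bea96f239a : _root_.True := by
  try have : _root_.True := by simp only [_root_.Cfsg.Agent.H664.Eight.CertON.Cs.eq_1]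
  try have : _root_.True := by simp only [_root_.Cfsg.Agent.H664.Eight.CertON.Ds.eq_1]
  exact _root_.True.intro
end

-- part: H471/Eight/Cell
section
prune_inst 0x80000000000000c010000
set_option linter.all false
open scoped Cfsg.Agent.FastGrp

/-!
# At least eight character degrees from certificates, by cells (helper471, for S4899)

The columns are functions of the degree: every residue of the degree modulo the prime occurs once in the list `wl`.
The degrees are divided into cells by the values of the columns. A certificate is a quadratic form, nonnegative outside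
an interval of each cell; every certificate shows that some degree is in the union of its intervals.
-/

set_option autoImplicit false
set_option linter.unusedSectionVars false

open Cfsg

namespace Cfsg.Agent.H471.Eight.Cell

open Cfsg.Agent.Characters.Core Cfsg.Agent.H653.Sieve Cfsg.Agent.H653.Sys
open Cfsg.Agent.H664.Eight

universe u

/-! ### Quadratic forms -/

def linB : List Cf → List ℤ → ℤ
  | c :: cs, w :: ws => c.g * w + linB cs ws
  | _, _ => 0

def linC : List Cf → List ℤ → ℤ
  | c :: cs, w :: ws => c.q * w * w + c.r * (bif Nat.beq w.natAbs 1 then 1 else 0) + w * dot c.x ws + linC cs ws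
  | _, _ => 0

theorem quad_eq (d : ℤ) : ∀ (cs : List Cf) (ws : List ℤ), quad d cs ws = linB cs ws * d + linC cs ws
  | [], _ => by simp [quad, linB, linC]
  | _ :: _, [] => by simp [quad, linB, linC]
  | c :: cs, w :: ws => by
    rw [quad, linB, linC, quad_eq d cs ws]
    ring

/-- the form is nonnegative outside `[lo, hi]` -/
def cellOK (N : ℕ) (a B C : ℤ) (lo hi : ℕ) : Bool :=
  (Nat.ble lo 1 || (decide (0 ≤ a * ((lo : ℤ) - 1) * ((lo : ℤ) - 1) + B * ((lo : ℤ) - 1) + C) &&
    decide (2 * a * ((lo : ℤ) - 1) + B ≤ 0))) &&
  (Nat.ble N (hi * hi) || (decide (0 ≤ a * ((hi : ℤ) + 1) * ((hi : ℤ) + 1) + B * ((hi : ℤ) + 1) + C) &&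
    decide (0 ≤ 2 * a * ((hi : ℤ) + 1) + B)))

theorem cellOK_spec {N : ℕ} {a B C : ℤ} {lo hi : ℕ} (ha : 0 ≤ a) (h : cellOK N a B C lo hi = true) {d : ℕ} (h1 : 1 ≤ d)
    (hd : d * d < N) (hn : ¬ (lo ≤ d ∧ d ≤ hi)) : 0 ≤ a * d * d + (B * d + C) := by
  simp only [cellOK, Bool.and_eq_true, Bool.or_eq_true, decide_eq_true_eq, Nat.ble_eq] at h
  obtain ⟨h2, h3⟩ := h
  by_cases hlo : d < lo
  · rcases h2 with h2 | ⟨h4, h5⟩
    · omega
    · set l : ℤ := (lo : ℤ) - 1 with hl
      have h6 : (d : ℤ) ≤ l := by omega
      have h7 : a * (d + l) + B ≤ 0 := by nlinarith only [ha, hlo, h5]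
      have h8 : 0 ≤ ((d : ℤ) - l) * (a * (d + l) + B) := mul_nonneg_of_nonpos_of_nonpos (by linarith only [hlo]) h7
      linarith only [h4, h8]
  · have hhi : hi < d := by
      by_contra h6
      exact hn ⟨not_lt.1 hlo, not_lt.1 h6⟩
    rcases h3 with h3 | ⟨h4, h5⟩
    · have : hi * hi ≤ d * d := Nat.mul_le_mul hhi.le hhi.le
      omega
    · set m : ℤ := (hi : ℤ) + 1 with hm
      have h6 : m ≤ (d : ℤ) := by omega
      have h7 : 0 ≤ a * (d + m) + B := by nlinarith only [ha, hhi, h5]
      have h8 : 0 ≤ ((d : ℤ) - m) * (a * (d + m) + B) := mul_nonneg (by linarith only [hhi]) h7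
      linarith only [h4, h8]

/-! ### Cells -/

/-- position and value -/
def look (r : ℕ) : List (ℕ × ℤ) → Option (ℕ × ℤ)
  | [] => none
  | x :: l => bif Nat.beq r x.1 then some (0, x.2) else (look r l).map fun y => (y.1 + 1, y.2)

/-- the code and the values of the cell of `d` -/
def cellD (d : ℕ) : List (ℕ × List (ℕ × ℤ)) → Option (ℕ × List ℤ)
  | [] => some (0, [])
  | c :: cs => match look (d % c.1) c.2, cellD d cs with
    | some x, some y => some (x.1 + c.2.length * y.1, x.2 :: y.2)
    | _, _ => none

def vals : List (ℕ × List (ℕ × ℤ)) → List (List ℤ)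
  | [] => [[]]
  | c :: cs => (vals cs).flatMap fun v => c.2.map fun x => x.2 :: v

theorem look_spec {r : ℕ} : ∀ {l : List (ℕ × ℤ)} {x : ℕ × ℤ}, look r l = some x →
    ∃ y, l[x.1]? = some y ∧ y.1 = r ∧ y.2 = x.2
  | [], x, h => by simp [look] at h
  | z :: l, x, h => by
    rw [look] at h
    cases hb : Nat.beq r z.1
    · rw [hb, cond_false, Option.map_eq_some_iff] at h
      obtain ⟨y, hy, rfl⟩ := h
      obtain ⟨u, h1, h2, h3⟩ := look_spec hy
      exact ⟨u, by simpa only [_root_.List.getElem?_cons_succ] using h1, h2, h3⟩
    · rw [hb, cond_true, Option.some.injEq] at h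
      subst h
      exact ⟨z, by simp, (Nat.eq_of_beq_eq_true hb).symm, rfl⟩

theorem look_of_mem {r : ℕ} {w : ℤ} : ∀ {l : List (ℕ × ℤ)}, (l.map Prod.fst).Nodup → (r, w) ∈ l →
    ∃ i, look r l = some (i, w)
  | [], _, h => by simp at h
  | z :: l, hn, h => by
    rw [look]
    rw [List.map_cons, List.nodup_cons] at hn
    cases hb : Nat.beq r z.1
    · rcases List.mem_cons.1 h with h | h
      · subst h
        rw [Nat.beq_refl] at hb
        exact absurd hb (by simp)
      · obtain ⟨i, hi⟩ := look_of_mem hn.2 h
        exact ⟨i + 1, by rw [cond_false, hi]; rfl⟩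
    · rcases List.mem_cons.1 h with h | h
      · subst h
        exact ⟨0, rfl⟩
      · exfalso
        apply hn.1
        rw [← Nat.eq_of_beq_eq_true hb]
        exact List.mem_map.2 ⟨_, h, rfl⟩

theorem getElem?_flatMap {α β : Type*} (f : α → List β) (n : ℕ) : ∀ (l : List α), (∀ a ∈ l, (f a).length = n) →
    ∀ (i j : ℕ) (a : α), l[i]? = some a → j < n → (l.flatMap f)[j + n * i]? = (f a)[j]?
  | [], _, i, j, a, h, _ => by simp at h
  | b :: l, hl, i, j, a, h, hj => by
    rw [List.flatMap_cons]
    have hb : (f b).length = n := hl b List.mem_cons_self
    rcases i with _ | i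
    · simp only [List.getElem?_cons_zero, Option.some.injEq] at h
      subst h
      rw [List.getElem?_append_left (by omega)]
      simp
    · rw [List.getElem?_append_right (by rw [hb]; nlinarith only [])]
      have h1 := getElem?_flatMap f n l (fun a ha => hl a (List.mem_cons_of_mem _ ha)) i j a (by simpa only [_root_.List.getElem?_cons_succ] using h) hj
      rw [← h1, hb]
      congr 1
      rw [Nat.mul_succ]
      omega

theorem vals_spec {d : ℕ} : ∀ {cs : List (ℕ × List (ℕ × ℤ))} {x : ℕ × List ℤ}, cellD d cs = some x →
    (vals cs)[x.1]? = some x.2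
  | [], x, h => by
    simp only [cellD, Option.some.injEq] at h
    subst h
    rfl
  | c :: cs, x, h => by
    rw [cellD] at h
    cases h1 : look (d % c.1) c.2 with
    | none => rw [h1] at h; simp at h
    | some y =>
      cases h2 : cellD d cs with
      | none => rw [h1, h2] at h; simp at h
      | some z =>
        rw [h1, h2] at h
        simp only [Option.some.injEq] at h
        subst h
        have h3 := vals_spec h2
        obtain ⟨u, h4, h5, h6⟩ := look_spec h1
        have hlt : y.1 < c.2.length := (List.getElem?_eq_some_iff.1 h4).1
        rw [vals]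
        have h7 := getElem?_flatMap (fun v => c.2.map fun x => x.2 :: v) c.2.length (vals cs)
          (fun a _ => by rw [List.length_map]) z.1 y.1 z.2 h3 hlt
        rw [h7, List.getElem?_map, h4]
        simp [h6]

/-! ### The certificates -/

structure Ct where
  a : ℤ
  cs : List Cf
  ms : List ℤ

/-- all the certificates on one cell -/
def rowOK (N : ℕ) (ws : List ℤ) : List Ct → List (ℕ × ℕ) → Bool
  | [], _ => true
  | c :: cts, I :: Is => cellOK N c.a (linB c.cs ws) (linC c.cs ws) I.1 I.2 && rowOK N ws cts Is
  | _ :: _, [] => false

def allRows (N : ℕ) (cts : List Ct) : List (List ℤ) → List (List (ℕ × ℕ)) → Bool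
  | [], _ => true
  | ws :: vs, r :: J => rowOK N ws cts r && allRows N cts vs J
  | _ :: _, [] => false

theorem rowOK_spec {N : ℕ} {ws : List ℤ} : ∀ {cts : List Ct} {Is : List (ℕ × ℕ)}, rowOK N ws cts Is = true →
    ∀ {q : ℕ} {c : Ct}, cts[q]? = some c → ∃ I, Is[q]? = some I ∧
      cellOK N c.a (linB c.cs ws) (linC c.cs ws) I.1 I.2 = true
  | [], _, _, q, c, h => by simp at h
  | c' :: cts, [], h, _, _, _ => by simp [rowOK] at h
  | c' :: cts, I :: Is, h, q, c, hc => by
    rw [rowOK, Bool.and_eq_true] at h
    rcases q with _ | q
    · simp only [List.getElem?_cons_zero, Option.some.injEq] at hc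
      subst hc
      exact ⟨I, by simp, h.1⟩
    · obtain ⟨I', h1, h2⟩ := rowOK_spec h.2 (q := q) (c := c) (by simpa only [_root_.List.getElem?_cons_succ] using hc)
      exact ⟨I', by simpa only [_root_.List.getElem?_cons_succ] using h1, h2⟩

theorem allRows_spec {N : ℕ} {cts : List Ct} : ∀ {vs : List (List ℤ)} {J : List (List (ℕ × ℕ))},
    allRows N cts vs J = true → ∀ {i : ℕ} {ws : List ℤ}, vs[i]? = some ws → ∃ r, J[i]? = some r ∧
      rowOK N ws cts r = true
  | [], _, _, i, ws, h => by simp at h
  | v :: vs, [], h, _, _, _ => by simp [allRows] at h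
  | v :: vs, r :: J, h, i, ws, hi => by
    rw [allRows, Bool.and_eq_true] at h
    rcases i with _ | i
    · simp only [List.getElem?_cons_zero, Option.some.injEq] at hi
      subst hi
      exact ⟨r, by simp, h.1⟩
    · obtain ⟨r', h1, h2⟩ := allRows_spec h.2 (i := i) (ws := ws) (by simpa only [_root_.List.getElem?_cons_succ] using hi)
      exact ⟨r', by simpa only [_root_.List.getElem?_cons_succ] using h1, h2⟩

/-- the known degrees -/
def knOK (RW : List (ℕ × List (ℕ × ℤ))) (Cs : List Cond) (c : Ct) : List ℕ → Bool
  | [] => true
  | k :: K => (match cellD k RW with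
    | some x => decide (0 ≤ c.a * k * k + quad k c.cs x.2 + _root_.Cfsg.Agent.H653.Sys.exSum k (exOf Cs c.ms))
    | none => true) && knOK RW Cs c K

theorem knOK_spec {RW : List (ℕ × List (ℕ × ℤ))} {Cs : List Cond} {c : Ct} : ∀ {K : List ℕ}, knOK RW Cs c K = true →
    ∀ {k : ℕ} {x : ℕ × List ℤ}, k ∈ K → cellD k RW = some x →
      0 ≤ c.a * k * k + quad k c.cs x.2 + _root_.Cfsg.Agent.H653.Sys.exSum k (exOf Cs c.ms)
  | [], _, _, _, h, _ => by simp at h
  | k' :: K, h, k, x, hk, hx => by
    rw [knOK, Bool.and_eq_true] at h
    rcases List.mem_cons.1 hk with rfl | hk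
    · have h1 := h.1
      rw [hx] at h1
      simpa only [_root_.ge_iff_le, _root_.decide_eq_true_eq] using h1
    · exact knOK_spec h.2 hk hx

theorem exSum_condEq {d : ℕ} : ∀ {K : List ℕ} {ms : List ℤ}, d ∉ K → _root_.Cfsg.Agent.H653.Sys.exSum d (exOf (K.map condEq) ms) = 0
  | [], _, _ => by simp [exOf, H653.Sys.exSum]
  | k :: K, [], _ => by simp [exOf, H653.Sys.exSum]
  | k :: K, m :: ms, h => by
    rw [List.mem_cons, not_or] at h
    rw [List.map_cons, exOf, H653.Sys.exSum, exSum_condEq h.2]
    have h1 : (condEq k).P d = false := by
      change Nat.beq d k = false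
      rw [Bool.eq_false_iff]
      exact fun h2 => h.1 (Nat.eq_of_beq_eq_true h2)
    change (bif (condEq k).P d then m else 0) + 0 = 0
    rw [h1]
    rfl

/-- the interval of the certificate `q` contains `d` -/
def inQ (RW : List (ℕ × List (ℕ × ℤ))) (J : List (List (ℕ × ℕ))) (q d : ℕ) : Bool :=
  match cellD d RW with
  | none => false
  | some x => match J[x.1]? with
    | none => false
    | some r => match r[q]? with
      | none => false
      | some I => Nat.ble I.1 d && Nat.ble d I.2

def ctOK (N : ℕ) (Fs : List Fam) (RW : List (ℕ × List (ℕ × ℤ))) (K : List ℕ) (c : Ct) : Bool :=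
  decide (0 ≤ c.a) && sgOK (K.map condEq) c.ms && _root_.Cfsg.Agent.H653.Sys.certOK N c.a c.cs (exOf (K.map condEq) c.ms) Fs &&
    knOK RW (K.map condEq) c K

section

variable {S : Type u} [Group S] [Fintype (IrrCharacter S)] {lab : S → ℕ} {N : ℕ} {Fs : List Fam}
  {RW : List (ℕ × List (ℕ × ℤ))} {K : List ℕ}

/-- the context -/
structure CC (S : Type u) [Group S] [Fintype (IrrCharacter S)] (lab : S → ℕ) (N : ℕ) (Fs : List Fam)
    (RW : List (ℕ × List (ℕ × ℤ))) (K : List ℕ) : Prop where
  conj : ∀ g h : S, IsConj g h → lab g = lab h
  lone : lab 1 = 1
  card : Nat.card S = N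
  sys : ∃ Ws, SysOK lab Fs Ws ∧ ∀ χ : IrrCharacter S, ∃ i, cellD (deg χ) RW = some (i, Ws.map fun W => W χ)
  one : ∀ χ : IrrCharacter S, deg χ = 1 → (χ : S → ℂ) = 1
  lt : ∀ χ : IrrCharacter S, (χ : S → ℂ) ≠ 1 → deg χ * deg χ < N
  known : ∀ k ∈ K, ∃ χ : IrrCharacter S, charDegree (χ : S → ℂ) = k

theorem CC.must [Finite S] (C : CC S lab N Fs RW K) {cts : List Ct} {J : List (List (ℕ × ℕ))}
    (hJ : allRows N cts (vals RW) J = true) {q : ℕ} {c : Ct} (hq : cts[q]? = some c) (hc : ctOK N Fs RW K c = true) :
    ∃ χ : IrrCharacter S, (χ : S → ℂ) ≠ 1 ∧ deg χ ∉ K ∧ inQ RW J q (deg χ) = true := by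
  simp only [ctOK, Bool.and_eq_true, decide_eq_true_eq] at hc
  obtain ⟨⟨⟨ha, hsg⟩, hce⟩, hkn⟩ := hc
  obtain ⟨Ws, hs, hcell⟩ := C.sys
  have hcond : ∀ c ∈ K.map condEq, c.Holds S := by
    intro c hc
    obtain ⟨k, hk, rfl⟩ := List.mem_map.1 hc
    exact condEq_holds (C.known k hk)
  obtain ⟨χ, hχ, hQ⟩ := exists_of_pos C.conj C.lone N C.card hs (exOf (K.map condEq) c.ms) (exOf_holds hcond hsg) c.a c.cs
    (fun d => !memL d K && inQ RW J q d) hce (by
      intro χ hχ hQ
      obtain ⟨i, hi⟩ := hcell χ
      rw [Bool.and_eq_false_iff] at hQ
      by_cases hK : deg χ ∈ K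
      · have h1 := knOK_spec hkn hK hi
        simpa only [_root_.ge_iff_le] using h1
      · rw [exSum_condEq hK, add_zero, quad_eq]
        have hin : inQ RW J q (deg χ) = false := by
          rcases hQ with h | h
          · exfalso
            rw [Bool.not_eq_false'] at h
            exact hK (mem_of_memL h)
          · exact h
        have h1 := vals_spec hi
        obtain ⟨r, hr, hrow⟩ := allRows_spec hJ h1
        obtain ⟨I, hI, hcl⟩ := rowOK_spec hrow hq
        refine cellOK_spec ha hcl ?_ (C.lt χ hχ) ?_
        · exact Cfsg.Agent.Blocks.Basic.charDegree_pos χ.2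
        · rintro ⟨h2, h3⟩
          rw [inQ, hi] at hin
          simp only [hr, hI, Nat.ble_eq_true_of_le h2, Nat.ble_eq_true_of_le h3, Bool.and_self] at hin
          exact Bool.false_ne_true hin.symm)
  rw [Bool.and_eq_true, Bool.not_eq_true'] at hQ
  refine ⟨χ, hχ, fun h => ?_, hQ.2⟩
  rw [memL_of_mem h] at hQ
  exact Bool.false_ne_true hQ.1.symm

end

/-! ### Counting -/

/-- the total weight of the intervals containing `d` -/
def wtI (d : ℕ) : List ℕ → List (ℕ × ℕ) → ℕ
  | w :: ws, I :: Is => (bif Nat.ble I.1 d then bif Nat.ble d I.2 then w else 0 else 0) + wtI d ws Is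
  | _, _ => 0

/-- the check of the divisor `d` -/
def pkD (RW : List (ℕ × List (ℕ × ℤ))) (J : List (List (ℕ × ℕ))) (K wts : List ℕ) (M : ℕ) (d : ℕ) : Bool :=
  match cellD d RW with
  | none => true
  | some x => bif memL d (1 :: K) then true else
    match J[x.1]? with
    | none => true
    | some r => Nat.ble (wtI d wts r) M

theorem sum_le_wtI (d : ℕ) : ∀ (wts : List ℕ) (r : List (ℕ × ℕ)),
    ∑ q ∈ Finset.range wts.length, (if (match r[q]? with
      | none => false
      | some I => Nat.ble I.1 d && Nat.ble d I.2) = true then wts.getD q 0 else 0) ≤ wtI d wts r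
  | [], r => by simp
  | w :: ws, [] => by simp [wtI]
  | w :: ws, I :: Is => by
    rw [List.length_cons, Finset.sum_range_succ', wtI]
    have h1 := sum_le_wtI d ws Is
    simp only [List.getElem?_cons_succ, List.getD_cons_succ, List.getElem?_cons_zero, List.getD_cons_zero]
    have h2 : (if (Nat.ble I.1 d && Nat.ble d I.2) = true then w else 0) ≤
        (bif Nat.ble I.1 d then bif Nat.ble d I.2 then w else 0 else 0) := by
      cases Nat.ble I.1 d <;> cases Nat.ble d I.2 <;> simp
    omega

/-- **Eight degrees.** -/
theorem eight_of_must {S : Type u} [Group S] [Finite S] {RW : List (ℕ × List (ℕ × ℤ))} {J : List (List (ℕ × ℕ))}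
    {K wts : List ℕ} {M : ℕ} (hK : ∀ k ∈ K, k ∈ charDegrees S) (hnd : (1 :: K).Nodup) (hK6 : K.length ≤ 6)
    (hdeg : ∀ d ∈ charDegrees S, pkD RW J K wts M d = true)
    (hQ : ∀ q < wts.length, ∃ d ∈ charDegrees S, d ≠ 1 ∧ d ∉ K ∧ inQ RW J q d = true)
    (hM : M * (6 - K.length) < wts.sum) : Eight S := by
  classical
  have hfin : (charDegrees S).Finite := finite_charDegrees
  set A := hfin.toFinset with hA
  have hAc : (charDegrees S).ncard = A.card := Set.ncard_eq_toFinset_card _ hfin
  set B := A \ (1 :: K).toFinset with hB
  have hmem : ∀ d, d ∈ A ↔ d ∈ charDegrees S := fun d => by rw [hA, Set.Finite.mem_toFinset]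
  have hsub : (1 :: K).toFinset ⊆ A := by
    intro d hd
    rw [List.mem_toFinset] at hd
    rw [hmem]
    rcases List.mem_cons.1 hd with rfl | hd
    · exact _root_.Cfsg.Agent.H664.Eight.one_mem
    · exact hK d hd
  have hcard : (1 :: K).toFinset.card = K.length + 1 := by
    rw [List.toFinset_card_of_nodup hnd, List.length_cons]
  have hBc : A.card = B.card + (K.length + 1) := by
    have h1 := Finset.card_sdiff_add_card_eq_card hsub
    rw [hcard] at h1
    rw [hB]
    exact h1.symm
  have hmemB : ∀ d, d ∈ B ↔ d ∈ charDegrees S ∧ d ≠ 1 ∧ d ∉ K := by
    intro d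
    rw [hB, Finset.mem_sdiff, hmem, List.mem_toFinset, List.mem_cons, not_or]
  -- the weights
  have h1 : wts.sum ≤ ∑ d ∈ B, ∑ q ∈ Finset.range wts.length, (if inQ RW J q d = true then wts.getD q 0 else 0) := by
    rw [Finset.sum_comm]
    have h2 : wts.sum = ∑ q ∈ Finset.range wts.length, wts.getD q 0 := by
      clear * -
      induction wts with
      | nil => simp
      | cons w ws ih =>
        rw [List.sum_cons, List.length_cons, Finset.sum_range_succ', ih]
        simp only [List.getD_cons_succ, List.getD_cons_zero]
        omega
    rw [h2]
    refine Finset.sum_le_sum fun q hq => ?_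
    obtain ⟨d, hd, hd1, hdK, hdq⟩ := hQ q (Finset.mem_range.1 hq)
    have h3 := Finset.single_le_sum (f := fun d => (if inQ RW J q d = true then wts.getD q 0 else 0))
      (fun _ _ => Nat.zero_le _) ((hmemB d).2 ⟨hd, hd1, hdK⟩)
    simp only [hdq, if_true] at h3
    exact h3
  have h2 : ∑ d ∈ B, ∑ q ∈ Finset.range wts.length, (if inQ RW J q d = true then wts.getD q 0 else 0) ≤ ∑ d ∈ B, M := by
    refine Finset.sum_le_sum fun d hd => ?_
    obtain ⟨hd, hd1, hdK⟩ := (hmemB d).1 hd
    have h3 := hdeg d hd
    rw [pkD] at h3
    cases hc : cellD d RW with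
    | none =>
      refine (Finset.sum_eq_zero fun q _ => ?_).le.trans (Nat.zero_le _)
      rw [inQ, hc]
      simp
    | some x =>
      have hm : memL d (1 :: K) = false := by
        rw [Bool.eq_false_iff]
        intro h4
        rcases List.mem_cons.1 (mem_of_memL h4) with h5 | h5
        · exact hd1 h5
        · exact hdK h5
      rw [hc] at h3
      simp only [hm, cond_false] at h3
      cases hJ : J[x.1]? with
      | none =>
        refine (Finset.sum_eq_zero fun q _ => ?_).le.trans (Nat.zero_le _)
        rw [inQ, hc]
        simp [hJ]
      | some r =>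
        rw [hJ] at h3
        simp only [Nat.ble_eq] at h3
        refine le_trans ?_ ((sum_le_wtI d wts r).trans h3)
        refine Finset.sum_le_sum fun q _ => ?_
        rw [inQ, hc]
        simp only [hJ]
        exact le_rfl
  rw [Finset.sum_const, smul_eq_mul] at h2
  have h3 : M * (6 - K.length) < B.card * M := lt_of_lt_of_le hM (h1.trans h2)
  have h4 : 6 - K.length < B.card := by
    rw [mul_comm B.card M] at h3
    exact lt_of_mul_lt_mul_left h3 (Nat.zero_le _)
  unfold Eight
  rw [hAc, hBc]
  omega

/-! ### The context of a simple group with prime columns -/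

section

variable {S : Type u} [Group S] [Fintype (IrrCharacter S)] {N : ℕ} {Fs : List Fam}
  {RW : List (ℕ × List (ℕ × ℤ))} {K : List ℕ}

theorem of_mem_pick {r : ℕ} {v : List ℤ} : ∀ {L : List (ℕ × ℤ)}, v ∈ pick r L → ∃ w, v = [w] ∧ (r, w) ∈ L
  | [], h => by simp [pick] at h
  | (a, w) :: L, h => by
    rw [pick] at h
    cases hb : Nat.beq r a
    · rw [hb, cond_false] at h
      obtain ⟨w', h1, h2⟩ := of_mem_pick h
      exact ⟨w', h1, List.mem_cons_of_mem _ h2⟩
    · rw [hb, cond_true] at h
      rcases List.mem_cons.1 h with h | h
      · exact ⟨w, h, by rw [Nat.eq_of_beq_eq_true hb]; exact List.mem_cons_self⟩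
      · obtain ⟨w', h1, h2⟩ := of_mem_pick h
        exact ⟨w', h1, List.mem_cons_of_mem _ h2⟩

theorem cell_of_sys {lab : S → ℕ} : ∀ {Ds : List PD} {Ws : List (IrrCharacter S → ℤ)},
    (Ds.all fun D => decide (D.wl.map Prod.fst).Nodup) = true → SysOK lab (Ds.map PD.fam) Ws →
    ∀ χ : IrrCharacter S, ∃ i, cellD (deg χ) (Ds.map fun D => (D.p, D.wl)) = some (i, Ws.map fun W => W χ)
  | [], _, _, h, χ => by
    rw [List.map_nil] at h
    cases h
    exact ⟨0, rfl⟩
  | D :: Ds, Ws, hnd, h, χ => by
    rw [List.all_cons, Bool.and_eq_true, decide_eq_true_eq] at hnd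
    rw [List.map_cons] at h
    cases h with
    | cons h hs =>
      obtain ⟨i, hi⟩ := cell_of_sys hnd.2 hs χ
      obtain ⟨w, hw, hm⟩ := of_mem_pick (h.mem χ)
      obtain ⟨j, hj⟩ := look_of_mem hnd.1 hm
      refine ⟨j + D.wl.length * i, ?_⟩
      rw [List.map_cons, cellD]
      simp only [hj, hi, List.map_append, hw]
      rfl

theorem deg_sq_lt [Finite S] (hN : Nat.card S = N) (χ : IrrCharacter S) (hχ : (χ : S → ℂ) ≠ 1) : deg χ * deg χ < N := by
  have := Fintype.ofFinite S
  obtain ⟨χ₁, hχ₁⟩ : ∃ χ : IrrCharacter S, (χ : S → ℂ) = 1 := ⟨⟨1, isIrr_one⟩, rfl⟩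
  have hd1 : deg χ₁ = 1 := by
    unfold deg charDegree
    rw [hχ₁]
    simp
  have hsq := SmallSimple.DegreeData.sum_sq (G := S)
  have hne : χ ≠ χ₁ := fun h => hχ (by rw [h]; exact hχ₁)
  classical
  have h4 : ∑ χ' ∈ ({χ, χ₁} : Finset (IrrCharacter S)), charDegree (χ' : S → ℂ) ^ 2 ≤
      ∑ χ' : IrrCharacter S, charDegree (χ' : S → ℂ) ^ 2 := Finset.sum_le_sum_of_subset (Finset.subset_univ _)
  rw [Finset.sum_pair hne, hsq, hN] at h4
  have e1 : charDegree (χ : S → ℂ) = deg χ := rfl
  have e2 : charDegree (χ₁ : S → ℂ) = deg χ₁ := rfl
  rw [e1, e2, hd1, pow_two] at h4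
  omega

theorem CC.of_primes [Finite S] [IsSimpleGroup S] (hN : Nat.card S = N) (hnp : ¬ N.Prime) {Ds : List PD}
    (hnd : (Ds.all fun D => decide (D.wl.map Prod.fst).Nodup) = true) (hD : (Ds.all (PD.ok N)) = true)
    (hx : ∀ D ∈ Ds, D.Cent S) (known : ∀ k ∈ K, ∃ χ : IrrCharacter S, charDegree (χ : S → ℂ) = k) :
    CC S (fun g : S => orderOf g) N (Ds.map PD.fam) (Ds.map fun D => (D.p, D.wl)) K where
  conj := orderOf_conj
  lone := orderOf_one
  card := hN
  sys := by
    have hG : ¬ IsMulCommutative S := by
      intro h
      let _ : CommGroup S := { (inferInstance : Group S) with mul_comm := fun a b => h.is_comm.comm a b }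
      have h1 : (Nat.card S).Prime := IsSimpleGroup.prime_card
      rw [hN] at h1
      exact hnp h1
    obtain ⟨Ws, hs⟩ := sys_of_primes hG hN hD hx SysOK.nil
    rw [List.append_nil] at hs
    exact ⟨Ws, hs, cell_of_sys hnd hs⟩
  one χ h := H653.Sieve.one_of_deg (by rwa [hN]) χ h
  lt := deg_sq_lt hN
  known := known

/-- **Eight degrees from certificates.** -/
theorem CC.eight [Finite S] {lab : S → ℕ} (C : CC S lab N Fs RW K) {L : List (ℕ × ℕ)}
    (pr : (L.all fun pa => Nat.Prime pa.1) = true) (fac : facProd L = N) {cts : List Ct} {J : List (List (ℕ × ℕ))}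
    {wts : List ℕ} {M : ℕ} (hJ : allRows N cts (vals RW) J = true) (hc : (cts.all (ctOK N Fs RW K)) = true)
    (hl : Nat.ble wts.length cts.length = true) (hd : allDiv N (pkD RW J K wts M) L 1 = true)
    (hnd : (1 :: K).Nodup) (hK6 : K.length ≤ 6) (hN : 1 < N) (hM : M * (6 - K.length) < wts.sum) : Eight S := by
  refine eight_of_must (RW := RW) (J := J) (K := K) (wts := wts) (M := M) ?_ hnd hK6 ?_ ?_ hM
  · intro k hk
    obtain ⟨χ, hχ⟩ := C.known k hk
    exact ⟨χ, hχ⟩
  · rintro d ⟨χ, rfl⟩
    have hpr : ∀ pa ∈ L, pa.1.Prime := by
      intro pa hpa
      have := List.all_eq_true.1 pr pa hpa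
      simpa using this
    have hdvd : deg χ ∣ facProd L := by
      rw [fac, ← C.card]
      exact Blocks.Knorr.charDegree_dvd χ.2
    have hlt : deg χ * deg χ < N := by
      by_cases hχ : (χ : S → ℂ) = 1
      · have hd1 : deg χ = 1 := by
          unfold deg charDegree
          rw [hχ]
          simp
        rw [hd1]
        exact hN
      · exact C.lt χ hχ
    have h3 := allDiv_spec hpr hd (deg χ) hdvd (by rwa [one_mul])
    rw [one_mul] at h3
    exact h3
  · intro q hq
    have hq' : q < cts.length := lt_of_lt_of_le hq (Nat.le_of_ble_eq_true hl)
    have h1 : cts[q]? = some cts[q] := List.getElem?_eq_getElem hq'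
    obtain ⟨χ, h2, h3, h4⟩ := C.must hJ h1 (List.all_eq_true.1 hc _ (List.getElem_mem hq'))
    exact ⟨deg χ, ⟨χ, rfl⟩, fun h5 => h2 (C.one χ h5), h3, h4⟩

end

end Cfsg.Agent.H471.Eight.Cell

private theorem dce_f45ebf4ee5b7 : _root_.True := by
  try have : _root_.True := by simp only [_root_.Cfsg.Agent.H471.Eight.Cell.wtI.eq_def]
  try have : _root_.True := by simp only [_root_.Cfsg.Agent.H471.Eight.Cell.knOK.eq_1]
  try have : _root_.True := by simp only [_root_.Cfsg.Agent.H471.Eight.Cell.pkD.eq_1]
  try have : _root_.True := by simp only [_root_.Cfsg.Agent.H471.Eight.Cell.allRows.eq_3]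
  try have : _root_.True := by simp only [_root_.Cfsg.Agent.H471.Eight.Cell.knOK.eq_def]
  try have : _root_.True := by simp only [_root_.Cfsg.Agent.H471.Eight.Cell.cellD._sparseCasesOn_1.else_eq]
  try have : _root_.True := by simp only [_root_.Cfsg.Agent.H471.Eight.Cell.knOK.eq_2]
  try have : _root_.True := by simp only [_root_.Cfsg.Agent.H471.Eight.Cell.ctOK.eq_1]
  try have : _root_.True := by simp only [_root_.Cfsg.Agent.H471.Eight.Cell.linC.eq_def]
  try have : _root_.True := by simp only [_root_.Cfsg.Agent.H471.Eight.Cell.allRows.eq_def]
  try have : _root_.True := by simp only [_root_.Cfsg.Agent.H471.Eight.Cell.look.eq_1]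
  try have : _root_.True := by simp only [_root_.Cfsg.Agent.H471.Eight.Cell.rowOK.eq_1]
  try have : _root_.True := by simp only [_root_.Cfsg.Agent.H471.Eight.Cell.vals.eq_def]
  try have : _root_.True := by simp only [_root_.Cfsg.Agent.H471.Eight.Cell.cellD.eq_1]
  try have : _root_.True := by simp only [_root_.Cfsg.Agent.H471.Eight.Cell.cellD.eq_2]
  try have : _root_.True := by simp only [_root_.Cfsg.Agent.H471.Eight.Cell.cellOK.eq_1]
  try have : _root_.True := by simp only [_root_.Cfsg.Agent.H471.Eight.Cell.wtI.eq_2]
  try have : _root_.True := by simp only [_root_.Cfsg.Agent.H471.Eight.Cell.wtI.eq_1]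
  try have : _root_.True := by simp only [_root_.Cfsg.Agent.H471.Eight.Cell.rowOK.eq_2]
  try have : _root_.True := by simp only [_root_.Cfsg.Agent.H471.Eight.Cell.look.eq_2]
  try have : _root_.True := by simp only [_root_.Cfsg.Agent.H471.Eight.Cell.rowOK.eq_3]
  try have : _root_.True := by simp only [_root_.Cfsg.Agent.H471.Eight.Cell.linB.eq_2]
  try have : _root_.True := by simp only [_root_.Cfsg.Agent.H471.Eight.Cell.linB.eq_def]
  try have : _root_.True := by simp only [_root_.Cfsg.Agent.H471.Eight.Cell.linB._sparseCasesOn_1.else_eq]
  try have : _root_.True := by simp only [_root_.Cfsg.Agent.H471.Eight.Cell.linB.eq_1]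
  try have : _root_.True := by simp only [_root_.Cfsg.Agent.H471.Eight.Cell.cellD.eq_def]
  try have : _root_.True := by simp only [_root_.Cfsg.Agent.H471.Eight.Cell.vals.eq_1]
  try have : _root_.True := by simp only [_root_.Cfsg.Agent.H471.Eight.Cell.look.eq_def]
  try have : _root_.True := by simp only [_root_.Cfsg.Agent.H471.Eight.Cell.rowOK.eq_def]
  try have : _root_.True := by simp only [_root_.Cfsg.Agent.H471.Eight.Cell.linC.eq_1]
  try have : _root_.True := by simp only [_root_.Cfsg.Agent.H471.Eight.Cell.allRows.eq_1]
  try have : _root_.True := by simp only [_root_.Cfsg.Agent.H471.Eight.Cell.inQ.eq_1]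
  try have : _root_.True := by simp only [_root_.Cfsg.Agent.H471.Eight.Cell.vals.eq_2]
  try have : _root_.True := by simp only [_root_.Cfsg.Agent.H471.Eight.Cell.linC.eq_2]
  try have : _root_.True := by simp only [_root_.Cfsg.Agent.H471.Eight.Cell.allRows.eq_2]
  exact _root_.True.intro
end

-- part: H471/Eight/CertFi24
section
prune_inst 0x80000000000000c010000
set_option linter.all false
open scoped Cfsg.Agent.FastGrp

/-- decoders of the packed data (elaboration time only) -/
private noncomputable def pk61d (b S i : Nat) : Nat := Nat.mod (Nat.shiftRight S (Nat.mul b i)) (Nat.shiftLeft (nat_lit 1) b)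
private noncomputable def pk61c {α : Type} (t : Nat) (a : α) (f : Nat → α) : α := Nat.rec a (fun k _ => f k) t
private noncomputable def pk61f {α : Type} (t : Nat) (f : Nat → α) : α := Nat.rec (f Nat.zero) (fun k _ => f (Nat.succ k)) t
private noncomputable def pk61z (t : Nat) : Int := pk61f t fun t =>
  pk61c (Nat.mod t (nat_lit 2)) (Int.ofNat (Nat.div t (nat_lit 2))) fun _ => Int.negSucc (Nat.div t (nat_lit 2))
private noncomputable def pk61l {α : Type} (f : Nat → α) (s e : Nat) (tl : List α) : List α :=
  pk61f e fun e => Nat.rec tl (fun k ih => List.cons (pk61f (Nat.sub e (Nat.succ k)) f) ih) (Nat.sub e s)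

/-!
# Fi24 has at least eight character degrees: certificates (helper471, for S4899)
-/

set_option autoImplicit false
set_option maxRecDepth 1000000
set_option maxHeartbeats 4000000
set_option linter.unusedSectionVars false

namespace Cfsg.Agent.H471.Eight.CertFi24

open Cfsg Cfsg.Agent.Characters.Core Cfsg.Agent.H653.Sys Cfsg.Agent.H653.Sieve Cfsg.Agent.H471.Eight
open Cfsg.Agent.H664.Eight Cfsg.Agent.H471.Eight.Cell

universe u

def L : List (ℕ × ℕ) := [(29, 1), (23, 1), (17, 1), (13, 1), (11, 1), (7, 3), (5, 2), (3, 16), (2, 21)]

def Ds : List PD := [⟨29, 1, 14, 2, [(0, 0), (1, 2), (14, -1), (15, 1), (28, -2)], 58, 2, true⟩,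
  ⟨23, 1, 11, 2, [(0, 0), (1, 2), (11, -1), (12, 1), (22, -2)], 46, 2, true⟩,
  ⟨17, 1, 16, 1, [(0, 0), (1, 1), (16, -1)], 17, 0, false⟩]

def RW : List (ℕ × List (ℕ × ℤ)) := [(29, [(0, 0), (1, 2), (14, -1), (15, 1), (28, -2)]), (23, [(0, 0), (1, 2), (11, -1), (12, 1), (22, -2)]), (17, [(0, 0), (1, 1), (16, -1)])]

noncomputable def cts : List Ct :=
  (by
  refine (?fq9001 : ((pk61l (fun i1 => (_root_.Cfsg.Agent.H471.Eight.Cell.Ct.mk (pk61z (pk61d (nat_lit 10) 
    (nat_lit 0x29e00800) (pk61d (nat_lit 2) 
    (nat_lit 0x810000000000) i1))) (pk61l (fun i2 => (_root_.Cfsg.Agent.H653.Sieve.Cf.mk (pk61z (pk61f i2 fun j => (fun g : Nat → Nat => Nat.mod (Nat.shiftRight 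
    (nat_lit 0x808010f4039010faa9f0303037aa456037a7cbc030301021d7f7f021d7f669ab6b29ab6b3020875fdf30875fd8cb47fceb47fcf028111b291e4d716a3a28b1ff809f2b1a02ff4f2ff01020a0b5edd8f339b9c94001d35b01a7b020201) (Nat.mul (nat_lit 8) (g j))) (Nat.shiftLeft (nat_lit 1) (Nat.mul (nat_lit 8) (Nat.sub (g (Nat.succ j)) (g j))))) (pk61d (nat_lit 7) 
    (nat_lit 0x2eddb96edd7a74e951a3364c9911e3468d1a13e7cedc376eddbb35ebd6294470a14284c9122434403060c10204040000000000000000000000000000000000000000000000000000000000000000000000000000000000000000000000)))) (pk61z (pk61f i2 fun j => (fun g : Nat → Nat => Nat.mod (Nat.shiftRight 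
    (nat_lit 0x8e2d43ff019a7324117a35f63a49c40a0012fdfb5041fa9b28019530063dd49465589aff7177ce16d35e41fa9b280195300602d987dbf79100ff0179fd350052599dbd00c243d81f35c1017730013dbaec225d03b5d1939cde0adcd0fdb00113af36af05b62d8680178ad6ca180030d6ead222f23332c00002f01b01e6ca252abc000097350014d80c9ada2a8361204000014cb2913efcb28000006a9b667b94197019e005a3570005a357002e9921b56f04b864528c0302030201170601070203021f0202) (Nat.mul (nat_lit 8) (g j))) (Nat.shiftLeft (nat_lit 1) (Nat.mul (nat_lit 8) (Nat.sub (g (Nat.succ j)) (g j))))) (pk61d (nat_lit 8) 
    (nat_lit 0xc5c5c1bdbdb6b0b0aca8a8a19b9b9793909090908b8585807b78787878726c6c6762574d4242423f3d3d3d342a2121211d1d1d1914140f0f0e0d0d0d0d0d0c0b0b0b0b0b0a0a0a0a0a090908080707070707060505050505050505050505050505050403030303020100)))) (pk61z (pk61f i2 fun j => (fun g : Nat → Nat => Nat.mod (Nat.shiftRight 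
    (nat_lit 0x2b99d3ff015c7cf5b8bdf0d97cfd4980635b46ad435c13271c2bc19b2812470b4001340eb2c6943a74019d915a76fee5e62b43e43c702a2e05ba6f06c3acf23001c373ffc7430d184a327fda7042ea0637b5d6acf2d4510a02368e2451570bab8201ad9527cb7fe4dcba02c3c31a9ef00792e08b6034636a950c6121cca618ded730d75db7df9a01f525ffdd72b975ca01f52dffdc873551f00f424584bfaa7c3a976c17ce400f45bfe61237054a78566e2240e187e28042490d34326a8e4c026aee0ee6881f7be72ae0013b216472606455bb15df037dafe98295037ea44a8f66025abc7076000832346961c51ed213b9ec9db7945c640c120809040e0b080a100f32060c0406080306060c0104010c16014242) (Nat.mul (nat_lit 8) (g j))) (Nat.shiftLeft (nat_lit 1) (Nat.mul (nat_lit 8) (Nat.sub (g (Nat.succ j)) (g j))))) (pk61d (nat_lit 9) 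
    (nat_lit 0x229148842e17047ebf5f0f379badc6e36f365b2d4673398abc5e2cd54aa5227d3e9646a35087b3d9b8c26130974ba592a954943f1f8e466331689c4e220e874381b0d86832190c05c2e160a85428130984c26130904422100783c1c0e07034180c058281409040201007038180a050200c0602010080200)))) ((fun g2 : Nat → Nat => pk61l (fun i3 => (pk61z (pk61f i3 fun j => (fun g : Nat → Nat => Nat.mod (Nat.shiftRight 
    (nat_lit 0x60bc92749032b43de3f8c92d0dbe2c5892c99ae28ca5086a188a4840edbe8cd8fc04203016d700003016d7000438fcb2ed04b2a128c1f73dc3365fca219434356fc89ee0ee146b787970669559ff4438fcb2e012784658127952c007e03088292006bb08caa260acd6e12450baa011e08e5e87a00ae01db369b45181f42f40208ecb1931ff795d8a59b783500f0f8546e2001da5db883f0220b68d8c7b32c11c02b36d9132bc775f7c02397a1d0858001f52b55f4e550db7e01f528aa8075c43cccb197f439000f46d56e9b2a5bc26bf560e6400f45b697c34dc76954fa579a40012047cf4218f09f814647ffe9511180804c8a003a468bbf37bf740c3d048cdc0136cb78648394db0645e050c32029c6127593c09be3ec4b43c688377e00012abca4ef50012a4cb7747f9751170004adafb50945012a4cb7747f975117002871117b830dfe460d9f04b864528b03040203020303010a050303020b0401040202010a06020804030c0b04) (Nat.mul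 (nat_lit 8) (g j))) (Nat.shiftLeft (nat_lit 1) (Nat.mul (nat_lit 8) (Nat.sub (g (Nat.succ j)) (g j))))) (pk61d (nat_lit 9) 
    (nat_lit 0x2d766b0d76ad4fa450e7d3a99cb24b218e462250d86c11f6f57638dbcd969b4d94c15dac952a44ba28fc7a3b1c8dc6a3517cac4c231007836180b04e220e870361a0c86430170b054281409848241108040200f078381c0e06830180b0582c160b0582812080381c0e070381c0c050200c0603018080200))))) (g2 i2) (g2 (Nat.succ i2)) List.nil) fun j => (pk61d (nat_lit 7) 
    (nat_lit 0x34e9d19b365c78f160c17eeddb96ad59af5eb54a94e8d1a13a74d972e548911e2c5890a1417efdf3c78edcb970d9b3566cd93060bd6ad58a95294e9d324488d0a14078f1d366cd18305ca9528489111e3c70c182c4891018305060c100) j)))) (Nat.mul (nat_lit 3) i1) (Nat.mul (nat_lit 3) (Nat.succ i1)) List.nil) (pk61l (fun i2 => (pk61z (pk61d (nat_lit 84) 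
    (nat_lit 0xbd1df14a00ef6828fd56d001aa6dcd2a9fe6e6f689000000001bfc540ccb21f00000000029dcd0d7377f00000000025eb8dd0ecf70000000000232233b214b00000000001384c7bf35f000000000001cfa4f55870000000000012e1914a2f00000000000001689d9eb0000000000000065bc43f000000000000002605613000000000000000000017000000000000000000007000000000000000000000) (pk61d (nat_lit 4) 
    (nat_lit 0x40b040c04000900000008ae03007d0505060100010000000200000000000000010001) i2)))) (Nat.mul (nat_lit 2) i1) (Nat.mul (nat_lit 2) (Nat.succ i1)) List.nil))) (nat_lit 0) (nat_lit 35) List.nil) : List Ct)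
    = ?xq9001 → (List Ct)) ?hq9001; (case hq9001 => (set_option maxRecDepth 1000000 in conv => lhs; reduce)); intro _; exact ?xq9001 : List Ct)

/-- unpack a row -/
private noncomputable def unp (n : ℕ) : ℕ → List (ℕ × ℕ) :=
  @Nat.rec (fun _ => ℕ → List (ℕ × ℕ)) (fun _ => []) (fun _ ih c =>
    (Nat.mod c 72225353628086235141, Nat.mod (Nat.div c 72225353628086235141) 72225353628086235141) :: ih (Nat.div c 5216501706702109489491778319595543289881)) n

noncomputable def J : List (List (ℕ × ℕ)) := List.map (unp 35) [
  245978998790664451296070619354943423024601093922463589654538237071059679964018773162782047466566134801712090903993831554262232333537437320098940923114539724013215891983392746633894672548993576836307407935069679823670319704281457220156286092557358290593186306362502993285238325337305716681533564395011728949268366424051408630897924554684325431028959292664141327076616431323818426558975720239917920619787674169776724331763693841504599247220235239236413682828591571946383076894652295483573153259995999185764679147491298534366668958657527023369994055237425159135236616258656650965196957262882968995005951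0077922153111952774855445329639325685842302359974171260897694666394223799992378143695664430584989804274241621721980086521961974334264100926560328931119873561591525697506424738803524852452994534089082850833057804696401567530116526019917211031494079220760524217576305543953962863353999603575967414236879341236220626867559576474668715168921259128138151104614577817934648708514656070585387654839098317248214886355415219795329656708505861532848619586520179168230492312774979601473108603312449556493586707280141280305016350567246971143306897414211050103762534046378403539100924215388093474657084265397719117556520621786784229767770385078748910029731742960986105242985359420582988877862550502334409886823512225689659176007165308294694049602446956738021166635,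
  38156260534552170456646553837197242118664268523772793606077994620490080047875050228618161397761044908826719392704686126198710408095094372242052862499248818487981420119457867130768799396685177720080200685377209756091671393890316951942748887972091770270534917801431928218270051911723163168614501646723990082929588642587610078416637281314867859538137184621024882326515486821657965445205187300927908434959550914614330039995587672639722514098633387813376362978844270916511421444107916631275228367883183970547050626700546666645567591049456239745557627218035317759568409872618286358710977731667194567016688253607225036368605192599399843311273361633552181181042370847976088866507567485086049695705040285903576067804675846169289196655958667952034751398914693758020280523459969262251209976295643353201233945289758043992579371039485816639200255947930374129196928624551229018419647712318088299443811880263913312496347350101116000173921688377225234148588120613855835037920761831347988577303180703790299792666200139508549233444421766168020639200175457866640350597974566911537772582554056100030331431988045220729689042062884596173759666432003822484566474792309678387671033197502258286457591036444091798760297036413743811019900325261219173584602439741311063518355848971267482026691270524909684572824690868686399573652861577064662449751832130530650444520239393,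
  199042198199861741737931062988831578708546225222604703119271804317737707229021045210482011657615659112447074405952987090618968738025330774652510005907035714246771944601666157767918875743475874915406439489825307370282250701547989660915136294271840549102276039322407104975334065095241203151327267307540735418265250976536433844379543629673504680778191398063819290414738696050045015712144805414863791468424409674655279580438780287248160499116564721478505714980715614674227972575807063062046072744852371143407781240253275364061541855062882793579202995724476246707797055218991712748607718594455546785291620804038597179690722423947679269733582076886610584720133397533013229393976121117991607205965536842663336630610975704465330302050474041189338964863889576192324984736434451338524150779953208029868664057575600657492429530807038850778845730577025222218244907499729144115305802432220948583152646647919331636291918285980242449834987937178973984571582270153328519450039168861973866544916997440816592172144263430275334814286325367357609865325988777710540861268142670840303067195297204567074823991910092808024564639766722391863840448963087510579640707615567264437461775909445085692495969885237842229501449872859398084676837957082025960430474666646031022763866558094028510010908364077986258139049306900524801994631707148305591904312350089166760057580671444101590490618074831580656060971737799425,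
  38156260534552170456646553254764997256341032283688781318696665062494227005050350008096034601519177836596463912190041532734489867669724270287799986891392439383865428527008518479311279336740172390707807431084015810108826830479065651050693217232100681766850984518247562222393149335205049309620258471664288564056349478316901727217542038224797444980415709574207600069914195832930069530828044091222358800967252580415645629309612601848019423438402825800585240069118146901384539135370234375565847228592796661793422067159516664845052219920671752571378182726524729028745387996472193890694888904512376302950936776737645550277230292394827163486683966488770611739817546193218678678743653490286744222538301227621222781296884458866537290706811483534639233643371127578567194294483462959553163802490610507488336694532076485865252678518400428966251578696567787224663113880901599511049554963979700598723885420362552532318970819966468154000868556890987636472475414896928266253429621573044255568767148181695820476101037518314903605594910255336514907295239987140298292698273994826959223262417264860647413129186207899044986415043265327617892996989569123542104429023651304422494694383169075362379890105286795126032046744980541795468653448845536629821869790800586443067574627550286009027619034626058807543445623091405608801053759001020127242389822972826563350340834516,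
  199042198199861741737929273565010590283821451810704364680114475086953640821810888371365350934044946873370364742440772911209937920266960502735491595073436114846354725888108063653291016911600092190038685403157047957140266030111303785333064643391220801069134995352169352569992597951351762570417748518936303893621398907233296257329490136402647638752927581184830973493094427413842307774988115043784914490231138065574847239144310465592265639663220494763136080387375845589421792486520149772694021606758500799296346279553434461084378108353813075726831493934026975388627646979313045259184545045850244034363555085281272834454338369286293035703468825042690139115493484141076460574644583333172251169316155653040119223659577733240919129278593394896950845942116598409870652458295360414451226425643265768562207990154904803246906356323299354483268496217048649760059349921721445285588699995221464654062981867051508555064580270998553253011855089480645706618133220882191067468434341338101410417885677753091513268131957984714300735791109196907870023214692331951987323706728075966176418085253150669558472623031290800774869075088149179229321457212824757819843046602274712479435382461253397385261524441647702242493010928911892625763790111190366659989503964230903745474932435722139145446891446799949801913441363177063193124657174972518209740808846632523499810214557976679360946662316891409198045997533231695,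
  105944009034196156242670516950945347526869349063844847036660887173429173943199534522447171981446049160758558071288997183625041904616479781266478009306360017984094200189120497554669298445250098070999694914520386936020830966170579846995819768797741909744104306759846749814939252187807242424964690604689042223334670474995543634549616909983710879042793859423685190505155591923863018802640725886237463831010989302709135056152855868029703246901053288779855544173292908961407844415063823194555366552749338114815018092751197010602623519173048894692725900031545661348317815818822494215871537241977765555087308661118394322290574778104806299667721771805594968060104897953434761838317117008057873596293906624731282303622704289885468263117462717356752230466147396996177784289959875565348257366847428960733266057280251330771821108387444932729405952580162608472232562369811320073209719955263281191737334264449459537225096584823283068651272910289342303115292451005610303639092955708964504580480079105787558977690080645764891704186190379738604403296931598509131031206241220695341335485911555773889134383211171964419308936530974077468579283574873975798484693572782745215207448225762063324252397379779336500781424435886371586391609844571556804059828270655922945686965128518776149890429602825990171558040198582909958246157737156948679063895702330740356537111135313049794929636015307297664141760881082,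
  104749284835487033051768993393415234494632419939039850095515982191807989819375508637939782086161273138892975740470013331077290066059424100214452565404184222534274236059186197034903826462821802432963447280397126453575757283010806562828472202391927946906784039441785301973106479534953775767700976303366515684206395474412973308922244095250310622260806956767360884229851650997316135859634105795687664500655059100078112194285808072599420334897633304252856315267995069624608064725406183066416071750578532898914383947642692909103017643827409712239421145240275105862765357152902159008614019700726588729167730414290450527805926966843539835942146912199284795410302502669299858005080555638690421241206610016014112349155171817714621218347431754864630482937888281063488166856257112898782578092346706189701513142899754555376580374616237796496498612418954222361948752824268192709153187156601953821713896849932152820821868381456303995743293334151355766120374440442591688430709779278997469831291998502968929883141513334448423031106012799383566944631294698568433358744107779164654623970424232144263056918576135352359328920868184541839043029840366367965752928819819326252964165690053866176624352562449889913929561832611842356108565892245159262357367585616937731226878518306506793191524050086887527992369631850212499196761766995810121771088632973176083204169608379860083796672576594408170301155098534,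
  38156260534552170456646553254764997256341032283688781318696665111324509088762402934953792175488144607222841278736091157392246635549579710106018771669293429093787852391867553278595992566208936767921910056660992132438773211388620512121350342129210268629623367779725181835933637948857566019114898140790797534291587313792948218766016262590463450328071635863629621265476301527770630953992991898436024511972327071583913075715935476136813682732224678295209840073945737986410288226587021240287337571665353318893626029463530484924710715519374906329626554110118021589335389842354877670533837950040739505215018798649554549284336203336714486990518850276212587927718462967919105531580998687136835740517030972925555041892217553638521859194259843238589154117254554356435777187894303249626583059175229097521787152135297979229647843888630857470285713100610218665922281686144975631701724862374056969730991030881229118357959481965954445630756001267565740755016851649909468278190518715032417702348788430821500626544297605229948917541613195610004560253721329304589508036667338138753655222049637061823218521846848909176781025793267485448265132630230246720512802144130822730099488201730212360165620774148963219318227632867991206850981922716544786218481530728207990723600712992380123071653355212939911003228121898633677229176572945546974191077013399922710907762755250,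
  62066936814586655631046958278868629252783129166441521701386344255217545404258996919012960090224026156132860736216512330199710993573108732265910377777156180349615646155751834414724506405204037846225142496866849935206032349160709238767885919763851088992289169613728026215339024039999662002270500941664752869738783607160085587762765391644934973432382343524023595892363200142542671280502973140860549664241386526928792789192276542789918779858541683438534072039104563500515093904954646328708004171628330770024175423995581427045450930835511200877643077004912518905384556273745800824532474604049583537141211923146330263727834856753618215126987636925556600150562949848723178398366539069965427698064848335841215046547283136039889543669951512594329553244578154482473817345176117444382518182546997943927554185268372451422329138273457437029523876919004512972108184870499002577465522647309998640357385128596035236576941673778798466681520380218965123277021636669457840140404637559417580405218788165506956541593148430191661187933650464980225178275400275227383841109558221784201337105036492754438216909137646881188089997810440018545401833423251932573041728878822427888935597979490457418462165742132836550423385234603251781501142985742759961183941698645273065143350428339633018601857802304689753053313825439113154279116733454656111075099908494221632894115862806363579247820621414943721139362350340,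
  2459789987906644512960706193549434230245539399076427695863500456470219052987138583976211122837876542521149440358264645368802766811580585227107557722081070256148776724995197782472951030526984959387563357998710740119209218454452927537077560039670316966209689898989747741239016838479746117034667262918273803035422852424935965445652574568641158933869098224359735097676226604095981209844799611855022739241521877302446164664884119523513014270698388012433960268041293846022281721195440650074197103141153073791935333396578638210856094093642440454574452061064454388154302331652175570923018979699206096999875322511500191079887553460725456428719532556618260905406494197209701498722760434701071694789287094850875967413909716026780376738620105216217131207109995617529007454452968050501159454191477182612270313525976386964960275845795454153334719440456230905008359230694970434223075852932957295101957378531872392635738160094252533467201718252105410506741543046039647500056681783249603287658963628385299544110876087363686096929551820536375103893364618966788618375840568331240829161564710152436700026954507495081223439400845676270749700150021386503959254684987425106806059137334645048840376948859960486138647427133747057079468353042653779002720501927073638065223781215260357330970876473026801007169489233054187144334189143330604782452778035650314872712878793074403542,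
  199042198199861741737929257023390281709339364607417747236943669189447834518659155223900361464876087245914672926669557341555267300935798823996191360168247935921451795942596474051695025289248778362942950797071398966227631708390121663415524889952666505790998147639687345099963117551852517321729164715080336470763419056871447705445820741207187745417496991100356961505690355726308117973568880008821620097638177239520357324487769006622636424421268069135509851395775139573812776059854376788278968332672178256927300288465201264213137695477819390549057516926173041261405961700101414731032049704301749651265015949746720735929480437949309674506721961698963093139656816415339466478605184592304402193724803088542349750133798503778528227671393176124620452972892957292695239808976940163059465740526043957555807554722603962828432487445485939021095968445383765354089062489695235695361801378792165216472786228051542795296967134799883574482745602605298991602291616742114355204826277147566029861538251478861263006120681576852618279582172936673055615757604981379396659860162127182081670930539499840741763362720562258207493521979451302665521846130056884337227059212495590257170587779636628192107024587372807870358848069162666978707625429425570861477637853537190732328919425465046178525482641824253164846643329949243135534786453136951003794020256117822725975792794561723007743694182455380338096393606832135,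
  38156260534552170456647877133080222144382034398930866077776426087038090098110851887986761013110436174850302266110989259385483074587198646376961956476207157399721453360602564230457892811622591320861396629700261467425361153392564149315255522290301840972753492090146167124065139856781804478566670269142759426161958199719654724271813407597532297053928346855307409953795090222277598720251531723613313798463320990910633001850257639259447605228703672817409974883447814614580144100850852731677014500845151110542264919578246243209984471365284788434728667826287638296922543389744498868535194606416378101288598569508391214885107172680038982018023184653034028664981885807125977609084350241732194799982104468779601524909011486775319643742371616522137393296535044673232218509838440249561018880871839952915115182415883656243251761465272569598770020004686442354197975601743669723635476898500230311005380331992054767381686552847263909024673377846347390783023922985005897420134399076499387591036885447480890509252575333605055310250414804157806084367042535725923330459904680117504467128043931738015376798298731018581977779234703888002801071429318303068270377226195857643648293925304923185110552156573444355235344029903752080033705535131887150106077607832927671336246634603794282619929281195353916893301092290462751396398879222205514072301466534479254992924076179,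
  199042198199861741737929318256027218054108055968492694694365263187198378603166492695531512873017409766137400534572317544209988761544102042863660061080169946222036997172163013961736761519950570942018385230086552773400476044670633032388581468797347365442596200535613470523585088547017788070874572852176041753128194482140721569188683641581990292331048551084321434925702738098086496742556814939996775254755543781348047953992100433031549064239300164162272799548193708093515979747133088018731344379347212679470411520740874230299129892391774038697431696185555314801205933163322019740206319087546187150755745954081566799543349002760628245705012983331219992747631395144103887455377182882260753357394065762998694482875930094414145208561373246140765026667540386613072588406966756031257165596247332840101927915470752923660446249275994785301275889202641993144311728493823183630435591387223095754912136244134831852257809011670594944078066391908994842261822371768783167327166962345919552972071966373904040559408482768170807353738962189316752410788396626050466803189036132676620597342626901275871052159534443470911764794308799068999104219643565958695764353531450816006365579236927716992737698617497458387309397068928395266784966577424459440772550618590134808374177347582809479859282500318405960365956696141858781781298902578624650302176106352326672820745403224928663837016709028214766889731301951594,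
  2459790026062905047512876650650340521219449794365878732937432170454153996773425373066000729099152330651407281303826616950747856545984619241416024536354051552698626446117977102257365200572069718500035399394908939427267198525152862433324447426683433449047206606165451665723667102082010477952801770102145300005849210870852281179277807172512902045546731420358813069691086888891178606756588147104682154962898949609365088370550089899410233742191924431945337871290302582588370433985308196745745101090108560822775897698438498575278504555923709792681144553398834617632534766937715168374408410456851692755389471592863333765565840218245470717085469763523665977008634242845595349071100707905079768544041940621285673349725943834435602876279194083578826838845955107365316751744588591660949972585193650062492064155220294422961826820473808248175149166093962057098343171981081898674744302320061455514964491996464359039362871449551098007375246204496140440154114138677957847471770172543521989823164995725231135097190007841040722132859213079056172287930070532286597326990648854563451898479277539455081793738974856491715306625591458821289467227544601886740294104227388119238283463543772266237056059421352985020881721906342809545137515193288658260194228030955712232603603201542186888054104497840557371876181049807831786833850330414581375858737961910518269045260077256277444,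
  199042198199861741737929257023390281709339364607417747236943669189447834518659155041034845556517007515641816816189957573940938888120356299082388885714667588499540266254558103900590167442530479969353510318996847292905830010277447322074529050065377748403085034423521336345582436228499357143365376543438846607150254330825157343412299049737186311999296830562997139276119831494146330682866370905126424312645061209968492609641963360619385029954224023400467884646029663082702429949876931882025492088893723525337419654116439647917490361824599156977618881706123021276460307043715385980448425706066953292924071603795950476416711382658381264458492846492484887426157291118741442981924332235798748025923502330503410181857227892867394810438807287752829874655098440660124786761286795352412664911618015055370712494759347132317511009773836955910791930784756755483389435058725062098192713413723375655753120708372758146260886008478340428392591220831602281177538967220674290421706843011890665787527911600126282127018881286347988878947739638196187365907582285372735601216620767576223494333630573941426618380658867053457635838078290774391344130603012456826594585644259602544159895379145003062246576792263563031906638203105445452165125153648360257805290605993544413437768733864681908476074744861017080909198626097347121264498360928657933117870016806432687649584662605903891778654846903165077965358291540005,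
  69216752507419632146385171646168705078310500937334299247595382963237693891561245366484552905775626643615931484347111054061709520475621233136886104405023702505320762091536220480604995033971457444631198438110628436621368789119163704477394392790071852925041173867272278579518753261238775804294025163498514004561872204447341471192908875702595731522321459882568637978888919661556385111172178973036937414867907636494702737936259536822863668130159282774380896675743934267027888228995174104710873722459857236042149918090936251733188755964892487384160275080110584785244542091609905421776050490935683742196207311097234333462536204216494256921644064896729316894532414977585691972266969595063383271582469444272409748261938613067665161123313046270938668594335012906479559101033568694585305359259908758928555017103319191453482165806199121379421407887570132501064951351573251910554019362507893937926215839776808128758724968371752966007309341322105853654476321519353711079276532326341251084394581648394073117675924684768367811368049348127460454574270512308730870923010879857497633610339059906663468801318513011842141618397201000829375815141716343045955118533930564568187048091889727703951316574099182847733303912314006873886607405459686298367928528908992516065747634506804678586337290254846890005423943888809887433160575493553547668428589588375727908969438760357498213261406020059990546851503879,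
  57192196255943072362989251396204453888165193518814653599417023182539567606376754194322914308504578612254600161082304524148414271325487922166618485393410933898926505536017809436409885088409350583242024621641168978870311440317332327682251620966478831425681526826516768604254104377578360443895694996292373619314455116500405965934041376735335310221726099340367020339739307743546172177536289341139603808113283401211606402666177331659471657136079754906895326438611009951452516382708412072231833383137830612149558975660817294232356033138245777654283168142650237561247567118987151236359810644902134831358367177311958913621353965765543540567398471589570695192280525278460082748203895422220254525675696638336302781428721212417608777325304878701502310370791306893065876461737773545578553643564831125176433028291072129787728076846177810124533501020654613575857408312592220380488341458193172956183271705871805790458168741756422232759083532563453848803763776804211983706803108745642484979709215895904850887469348340870315063593839774957140723710485579337511381800571021814882880566830400457451185200202748225654661180263648225229549979904358670315746587111324047453825648590333347069283784553815517350254763701731254351885750177834102826201815382411158442216161417464036907609137636641694952883950279087960794632717097744061187134911445121030171575833960702332286389579068573658372113513937777,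
  2459789987906644512960706193549434230245539399076427695863500456470219052987138583976211122837876542521149440358264645368802766811580585227107557722081070256148776725046726388071685485008361929908782604210478002126761155525798469691809362654579172625817745310685123646270166317955209036423951653128552033948110461901674681604992158381021867751257866335809381340510835115549342782932225305587004221948776225142163952534209904465679113348689734972313285908540853050135381033384611355469489706523010706095369401611267050140711698693269496202354003600387787944826565670862181975380621919665497446285445786123712856674396184313393658462017820426900968840517418912534232731216241766439478606955626660664976429438432868833884618741672672252089429288948098588639756478221372796222091801819578777792185774352322850531433264330788797278068722403483226332993484558286501570064284911032301097508644445754254833082443277965409177799202988628381014210730505278753891709727359956104363365981898187225831028643541887838372070932123113202365053707917559872768143501975803318422614397579709174392205464979526892446565352423293517616763585042216810311984330661398764983089711915148846422009227964695079412556468273222057534382348081819048823063061381803264476246160160806546343651333914628744841088166786856995683896439809499864566372481348698990222320660085419818165119,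
  38156260534552170456647011932573006898063287103117377666402442161592470929090425391843857919872858192887082450979955434661695032846430289743049177189634922914743874035407983326524280508656084031622318319649653944880556436882667636767571315766972497711853457275603657725157468192711012014017845754103534926205119299637233664436089469449059891797749039540846633868758679587647828072827710081467642583217058641266757000918844034882523418224066608993610810454558589599336237414331027130935668625546325070663496058799803260418819827911532701354713059980943817330091308203516640935795769754024663637974835148082774818071259633889607830915646346067303220181568334680579030150027738048995935972316114116351861180360214345052861197046260266014173954304682218974165901814777622036708873332137282280307011602480564611524567457953730259446639928713486875710403470135791304782957119154522834358388456319058204284671001681986586113577462412497306296346639364827554273769427027749202004547649009527030535064134488152213070717259011374948844838003270419718647037089397471818632308204368265721974987980046486007028088643960743249370190142625959495391830894978004069879778016885683515046386055482120263011346549817721925764245162838936876714454475408370461689295943732221409431553125153404603534783051933738154643740798188718652767334900105438646792757363188186,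
  199042198199861741737929782074206902400114604888698681927812826984915392830505404214863920028424603710651645370969029595442678384347949539597252018209566051161425431549574497233568302460545946732565618081862117966028607452344138772830052634950653086221828936525856074098674255651140596585733878250936965636318935904103817837964215381700732066072795542416730323780013740694053337106715227562720700333062936953403116480446945297702709715383333630969359493145562801593983542531651519644743641684621519428503059936561505468820841176378730327287401741731547382284541724542845271920747902500332815989847923041241885097347033170044570099341545049758530038710625307161320213395706801179003820247113418310721825685758304874288695377552284327648857256356144977421876179518888988287434911203767077020161896560318985760541646218624103600070220982880458856232647177298924074130835524541824624451716149950793076527599309155207513293261278660670202534595695067271358452024320840518235324592155207283432773197278839855991126014145718724756664657523263976102247523622653958426094836058183189784174448528105284672146448649510541096890345573494176025896981574660268416912075663578869282797219373894442960459343057289100518034854901084312759790874137469266556300867585516840216219298185009258048153861281438787748179349201408610103242534272491843513134983350584167015195606515953764487827276364139702444,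
  199042198199861741737929257023390281709339364607417747236943669189447834518659154951538846258551157154931551715455738504190219599281249790658773001221193194430578689148577654120865639084935004063641062449935489310334580337993957111096061089150821717022336082343985272596011829633298556470526729951991524757253942502675247966761844743496085486011187577907612427400083733766110100261010551968676531002506755657356634694545163874724928025986133432919416961616474764111424976553519422931848323180738230964894212813861325598974515957388428136231544391981061719906410965061669707845038730499865854681537380659034105661181517945639992245949700263907468593387026925362901841145287244222232645592786805185339240840021996249961474139210071684774294363470767577722327574464472228653586098989494564459173634412093666692555857491936781614551321757686455490138486395628625271114937997393275877376428199532495229749234646585466924645122448622652217748736874842502585878961937317996591167580250259797535534157868799781461867282535294570654699853972488474879800854241338342301544294895196923665572607616871017634984446079914547529637983187402406839939417803267199106430755082582275731127331718157358743784715741839156469580972564904902683431373380530516684962797577749011049468182216174770507966331496565679547301742277152329693956132563126280866575187555056699666787751902407562501728446472202931736,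
  2459790026062905047512876650221885998249946131642374413708289929624886339166257268678806135876647005313846385288567555649017837973657014162336133408358469171971806064502048391122900203383704053897059358161009942208283015973612819395212076599076161188136144456645991332450198505245289485396088962867739283151231210713360168728164344990516730291200001521681373339143855602805998564931361556910052018072083563770567181694566585660407015513745018005318292823153658983582314524375833280470474826462376835647627253326973848256494950418678956174688220998155275490909255683329393771442741715789569675388280092263575857685881776039525528509343590791275019590655249668139186972432117198019482727939185895791164773821744892384391979761196280969418619945955845882483180528670873186990783394209117472267758553009549575503964981468766548046327109104216645198523134310293321395518503899719487068921299392617662759204449866200466864225555711909474000338569769603185256808954777169073847716917762519797583333621944224636957451218424317037696222460980920336355069925539655742272608407849792902690019225923554255427320763050694148108851388815047987949807640809109659016186353683464977625625310129857046208168479029327614505824088878728723616790152550266978193793115570272252930029456126868505591331638372889222009227961248996002007271516859734092050966833611338267076315,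
  199042198199861741737929257023390281709339364607417747236943669189447834518659154951538846258551157154931551715455738504190219599281249790658773892892209666879084857383577331686427959655733510139908527450774123667423846462677114093386359045915983667927386494216783570253126827000968893835914421098389497712594177774518451258016317168471380677140756003862606942621881134473266934166818642436895484581682116116772213286796357689408513536781033728338660224850111369308249889005159204442259112457680962370012303975061041309169540710444278257867302023765756132892348014031561997207135654861767462121844259745967202033668117797649668673523814619300132683064170674060892075528392657804137681973231757506747231642357082792447349974524751383734479010648865794084346908801780861193313755990981879099186722224911992461666808927253197520530762522973703476842932130696447234323967569198343039384737623303055432627932802142417439279972135665638259651598454826216571853114802539570306681963594478155275883587155881111350304420511852301635522747592683502632770648129203076666527808470783424851373705828098355448177397935617683203913524257608445238427232729901454588923967190391121464943256736659888555597063195535719072000604060927942163334710570792937922871603114687048997781200972709289863097995440154691682587355079009192320729994164570072551223977709661419687348403276103723600118831813239309320,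
  199042198199861741737929579593762829588591004626871590654920635647295531585878722475309091611068204381510029460744226510762939697436115312544963657626921358277696680825146940400559978103860093402391608783801313971050623881122797204828628229786339627197208363794785567557788811958197072971433303885803063380472037998458191796355750445738202888764708162683645223830308184278738490545626700369471157678132931613515859655175442979594166433688900698976365604345577926058186808944074035545634495817814158685999185815515867034740074726691012012615798687664730817206354156070250911103635952563683370967140018913663392661717695157319311345799683040232744767209637185869510965192467783534525017471873524431163229310852804861905376622141001021636033858443987089245157109902964030517075250341944952723421341168201453235280191077106313431666738441865056058420408300083414577015795745597920364290272616924906351711327991057075457117795547594062652228594111190681077429914530757851928501597562836715697168227870860741019477990286643255916970604792997943849493783812113220291110745187481072069549765178989963310893141695612180366439488834754873685684420523742732834582908977979790955612679777236384668149459243813682242048623079442632071256268328273611949790672043314815801953913522482240438658019258108038711133796002030121331652182121585249262007383544422132478867019375176992464015536908478394225,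
  199042198199861741737929257023390281709339364607417747236943669189447834518659154951538846258551157154931551715455738504190219599281249790658773001221193194430578689148577654120865639084935004063641062449935489310334580337993957111096061089150821247588811469382527605835290665389802177858587890334396219367412489603183238940521829462310863932835603156612081845541652279396617731023314848842989990222173638681791048114959167982809194839509556522223955288263332117413006189988006760999307428594930457409574332797055213487000909952981040972590242004552140957676558887587842058715541549579071395862283772322216795461197589251394355797773081375284992949132265630946914774383842767277529259103809635469578424337669554233310058160356073560874584065845912205206489206682495604060867841123365780581428798752339194846262991518881967902136751295665854230582951054495222478757852050125410032797682028595270757310368539221195483149348467150786947983835057793893005801214955032713461637253435058000746149180954587183402752669562215993164566090425501269193301371967377285612426763820379063228697745475069957934636914277760852778661738754278247306470439636390273372866896022944903743420507889869399036363572765766983098280673605934731720673821634844403661729871496116857614988001241380601553670588909219313609910627760170339815057659872894289860637091085547872990664145750768063412091500561862342386,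
  2459789987906644512960706193549434230246010939224635896545382370710596799640187731627820474665661348017120909039938315542622323335374373200989409231145397240132158919885456071937681179971312738884293325562429683163353637832730094417860494021251200420555428005374600025323170055395351427163284174391667401023151500538341640924758112045768888396706575338845429014821303526420538909650223831833956187886871027751838117629608218931107345668223539719437153471564830920120743730016368183056545733785592236589275618444374351920654793305693833271831185885679301087284437442323626802911938290094325675545852786193034334580341975171274362207482017109447806291250799584965400189863645644731403163716452548968027089762863526310025420988077394462668183248402008190473041947139796811887825095501281630015655631775627347989830173661486281683858531640295944401004338880285702338528739447737156873513228132205635488652341772612388784159074028532755857174050808102473001352334787886906435536876471443361067933359408582388073467498342117313210631474070197642580946121420770335884946263526513353195255524268508429733931218657219542278636314627225741589623771858567820253481923959925070706748749189910451071097635019826016279869718015285108667317186089864322148305494492320351448894632668223293818261169828117613288363429386586727200608662799762759304426683792679692649366,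
  301065091905190479831425452745580710953794933719340821850099875776587107604242628450076743166305279344629021156145679220336355122473750620479210510737084892815831321885872100734961139043327200962946729577273408012724672150660285387872706614311939462475234328412855068201031024392752182370745634200360967453887383996183733027015358049927391513936647805017014194921653865427696245761288841504066739212731113389618046564332602483062492880417784593015402189925060550215691180635989881377827141169333318627129449018366276563335616000571584523085799705610776671900931193642756182608199515768473464172820020872768517180816803836100483872514173172562584357060963087168352162420914839732896636690196964612048430979546617085682487327372974537257527787577663400635142054568660590894215147294798608176600577022917593742297378226199932253765739411721105679959117597982138900840603425680127993722843974580410135139515980924693861977784721378741716901266013870625280202964406539992462385854363834606360705014009628001102846274020816298924357050531674713982091039577718532218776617449944517678387341732653506126692792509191849640713913037157452198103848306967531782471779262070431392405621321878874888501670270502315068606146688712897245664112350334936574758047334746081569771123880355309828628101242838031361238965205842269527680509280498914876456061911127058231846765342213336947871355106758176,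
  199042198199861741737935247943298371643562729640403947847232001336776507898286197573789588040609394465211377088923756109098114556095234217034794694548462646969759942446751786675185772598793145504384298197852658405807847874736561610880598027317095505561371947080335691246089500083818139185789324079389401419112268384575881192113749600439658644674637115143840579190238656278196900597912186452072010080928900609365503988930051358275416815998739352622092355676707730903712534448817040696362180996267273050594535703248563003283165616257978703467690533488297660970460068820395465716234249921818717049142858854866761050324482144345604563042981343301361286296414875326773256979852497721925174104282513349568984260541105037836575866563268507154172753974833599237555299851912385366910934544519825508000749407649216877221913037117416486614454683021460951366746918888911507853626058370542404303172705123406177670665250985069346405891173052358690350019894698738190925898234893120513719369737336628478703885530991040407789267324766194738016822556122144380201365032936413350428418959803232260685287221926221361973697364886421759657622815578578785233213215348261216480820998621103035032839567169366580228272196306190000644018426245303499260026957850993977742541830846418182181300663457799542926909239585005094674570016279543102295012945374035428559282369326090352145951690122727103547550516171952002,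
  171823323643780224378357823844410782196010132276740839726566057751640190994012329545789230821361571960445129157665078549377720927063798377876004184351559897164725146193634042638406332037480693633463351924778338758630689424943275301839782165423680533498062230196216439219128035145911309717497501078804967235817712544168347558066741346483917753141541552496258651570788113275880933412748204092828027986644400607047651960438976101263902878880737239159520827787015295911207220060967186599631843097910383589296764072598366006639774383849157887046834208529873522242989806318521205951144555924306536774068424952724483649155494787459354581251115059323581098724153411253324161243784085876786009542643684284621230766210359054007575411299552113280533332663185007494889744422451008657929450260842942762984079618154178397332154499960540305743043561911182375242443359021970722814551508704862956020429366671484552660859480618591960918212760289850328756417223327861931669683040696147703966961996905768970724979500222530156920841200693015383505293282495631020751418296487720822803552237464065384170187266408139985861267344485670568157633036333141168972158096972083557413497163972828477496417643068791955203942509338663290876090776302245812155058460073756106507324227154614426581423846194508673317252770828561355062272603671859044803164317543262978965685813201026186292767510995902352522023036806938,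
  199042198199861741737933458519477383218837956186437234558493264068152339625326086830729185252935278953784449076424807846364005814306593179558438694497956991303197429712021963370109991782766520573377023744503439670115341616650414629450708635213037231463395541554464202934558363617468266251750522414308125786745638038228019086950407252461919073808501679435613767419168475306994619955907350112996631372179467010013174114007551826913141764149974103443928195613190002064365015833853076887726840240823821458447443055353015347827697210575382460061769798742946139153248658216826214464944572833814210794956655702353170236986756204571071602433015632792395611569791604837964814524879498271566197410063528101050097205470991955435020994561670143438326981762497272646930657360946463009552597089599290504866965706411538064249807104888421838813263443624524401886666538115181404719023458907628259217884730844221467081718714643244258343413382986652301917850989242480167336198027471937046569980332503988456631077352022309924662492826131771824681704015658166260998199955318189524558778540380084727275492528915075655465439866359969698482528934801565743339899317207411942012642686764349729777635649175218095586384957456987254997650876841124591913742525125710865954188471312606719395020354211469381187178809481093307377302501967172873545794148017913977639836091669991449103573722286179909374290737605804718,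
  682615472541627156330038653944467217204435508014412310336174939446893659661305942552035860363110432904211351045834359146811265561249342252464918899972619141899780754375001955823914024091873368891755851387711699720970290480155824644768409964872932309609203612022778747036413178368686037524213647140179119602390188199224962223231423105745587743252057189950069406899513161558097975364662977005798740965037425841850328734228873594470761953972035398495739561669144381393467651675711996815111547510991792098110177394633543822968199432005451900116846714246785973200956711061406213891843307308269785569201089099189825265150427115842774762145775242383199233145961796795058660473878449867692407315284117338287113017966282713080736877328980537420257535327619988336792055298674933423898510475803921505065530188876607756401002221157826012370837439117461754049852567207729072070366842940969028152701967418689820429844436629588771511283670151909125991071290902835978993587359375874759416533838614500554968653552994797829745236435309454909228244392369383754117530855842244302925115458247545679326894941444539766851933023325576582765153672970312760017619895832072568000918280178579646566366725542827000408450800700527004189344357070946880385330744510509345508271632920272866302194931846512292291164976449254209820799981760402330835356237807552683429947425385881579984896230105635209138459336152755,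
  544214924729981935470308231909686757248418171871556588472180640740489052928768141235823469442735983003925005688945947025790770406305048434391572216102265217892825409382438501304559094565748627256196948763484933285380953057378047983356365487908408779877944029155124514662689429629719213223287936836815205550438856763039171040609369950670741328203557100086176853018890684222305005664587634970993068137139244541484382193191344939555148029573817219458115915852967633194406561148818889369643128295164941419843215199551130411553454017501130680212798519848887125516207746258378475964282707553112823930119717254462784758077819565836521531239879006646450331745936648739621407248287840181307569887863748057119149750391746214604367818985620311804141446356307780866510216870179714457840741415162711997838572655364573015986221283077646519740675246083957071834635728962174757429491894686712046800211343323973326477929602838185970841119153248192994034396735163699832148206777965049159695975742777142131047513043753550284943091274129547213988049085984779783583137945525347208652654335462290789647634897374155949529931039528628107145511133595775918458487354361260708307901871213350747951021787525198209616621173924652933923816824756952677783388671134384959055777857068845914318017528579302814347010900373617704181773673023895550296719079423106498632287279819409451465964447440801282511106863494020,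
  827785351150770692759862094525977278529952035398169047819905832192347142412646034009195753489372483567281884275137509569476699957817240270409986304073869962203335635707641333261232065023439216009158838131329055649532164898367059028795560170556496190012125596730792507532131947260479085693858487004097508628208606732593963666482445975064903118155172519814076792556119562976504558663322694749265762186977898971525733354273715342929397742792901485358904371373766172667201303232432548388232979661285907693350557352896352791341457068063175273208318055814576814932205417421640044893735798871705782534465221222607168853812931542700515337799742480191022296463105886447846507621091806360040534227960632983338574425208262262902829403636867914167495602597650464261835493398743048298665749197402078558578664900665483620800176101237074700613425031929894506257151045197180526468679857105120857342744261609056322321647994713490723762984417314014129586241054846041919664248800025659602202733131874636551830553579298999921965955485447412893356420024879629703645201830603205669046352633579507713536935767254647756170268446018929593332433842611319429015083339475851876527580639409038748097684985104099709741993344107795268446875159362624839044709053747514834664898720590824862678408046105617169521768759984701278694476417513083756427906381879868200002449729343914406213478312749247627508520662046355,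
  547267851187507190030068041708920150353785769236684380012595114867276230861526163748333775675666658583728276589017574471907497213176380767638027313561930833715900611883295654212772758750909303992496522616407521882462670325759736158575698194201333087386313856630888310076161801068529831523440481420694401538345531377555685842930208220465249906624027004526290779761145088724372251369186325666708739211784051268110739765739406088102247798842132431430478796968041565773402071746325655530446430118731491974387769374865198731551022003276084407830654829132690091812268916386409794373171527995070368966898233508676401728052122236653160802291486916533405286180082081588627451986674106828730249431190814968851946403132999941413737823758300815016213922135009366930691069269201722193053263918858443110798730559259219973327679586967126173462514668161904638389064291036703346597401589200610360299989689723813720935757852048821522079864515277086123211693718101489498666950783729135626291019041031298141623073644912447129346994076231828409415381557635464868726665254582509434668107152888338079036748095398420565304351811287641567949078422927638084148137923714753949446323304581010456284516555979954377527054438886763808698579610658713263957630565243069359906206177406042062405072263249783277663519675019881314958667838489372557786436732218135078559943356969837356759706200405903405687879973980287,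
  199042198199861741737929257023390281709339364607417747236943669189447834518659154951538846258551157154931551715546132443923401351829667331426497850253139937925974224527090475015932167704477238454471418165887425593454771177688827062465042738460052197413367987686342579896525113215186524320746040301227466235084359357037336816941880241945300141790847136582404993136751477392968913952142731782187224076697123876171867906782293339882743739734006075422111466896554903500517579764156426595527496483325054604654894132139302697407131024162280961716590466244699977397929173725234400972313168489425133508660950621663219134104962702038026118340211983522211541997753158561091987536150912261970930150438869579717153547192034066590498992315055341955005425735120468405940437878774741319977805912714896276343530066711452957038672393950670681075423553853521925687692218199608119260161411316755267017074703237579067105153372385432566211764724556922133857834053999568222983645684766702445538592627192090655887228630840835005853732369750143085932766114785947359223664633509012918108226446528171713443497379471175399029963606583084149653449439701756805910570302102696065326488983560953571276519229201683899835223052506703124981828684796585473669082363580614840268883723658634782109735986080084453066435515819241044949946338947186556825681756094028166176348264824469602787472781312611205140512133939801341,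
  199042198199861741737936283014753860419747758461200574277602378906347891819572457106907190164808878366857787247538105644902158650327210970816877240194382751885842499751224545202113062612627766830798853228778413153320443544265530177021299703925867896988790616414692219960710013094565383440931643422539310061805042033580017432827076328547190880134987823129529691025302965977538178885388350449593349084261790979702591633355327756407541037692117799821835633608248749842845273202846199617052663897728315331317779475089314412487434889130444905643630594234087889050570470014842877833452264740606366921979392633997170816837371881548567639522591943520631921564186056153266943515746486350136945765676801032472788243729054183800445110249796234087840609335878423471059949395062511896644987767389496596683289842829288923365588179385826052506874535541524811709880406385633581305439961467136410746297240398180495221943116743511051703432256420933348869601546020476789808197152325611205581857882508965283595172384853816512120059166305557734213160749085575686476802347855823448725367070770990644197233699109223012967217438276088141526515896417158271713261824369077048668001168927650009691797495309341310609216536209127442039047088345421689152127963994630432308203564489128882324919147872737675309334098994255378629808863039447804462737339646899448950893267296937918765248319157890110322090036065552773,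
  38156260534552170456649201019339483909286593401837560044500088865420972823847775085261397976825750100021876356185069288161458806372245047469103926527841309723691057256378898865303677170518477306582508419665369207265363632790243741695806299558827017410717952522912910988244481323374157882577569402378614980915404818324104312680910610630502642868524419035653022252703990727258661873546744821726471031438279371312578705395315356645731600801757112608350759097307373262261485697008167075621422401952528374875221994826811693779942027628066697906055081996929768437947536721123433300775707918425397905201959109891577778808832704375725863055519038142860140481225261323746796529490847996088061222133416740107067898096956003224230696708024463976054079566694846408907138331392191240684606291897736697216023020835067010346468137374360757904273648571304978880977798899880034825887410619356539669688974480928208745355969674458079858956941879522717499203324502237591677482175102955305023159729791253208185862498346893377117489237559376748259634566479588834803758418098191354423997483602089830711257694900230623675983429252680048465939500508831388206961458013663683796546473393980655475019506354868170015995370152925867776232650490821054688218581385803550023718837069803220047863496975593417016503583226370641521689713199403299652192953239060081813616354361927,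
  199042198199861741737935402901067238196416553960623301360263874872775285695650805260499452015838858025878715897902937318932525181180737341845154721662160969422896299645253060972951351956547480960229058967986171021779745559228266618433369566203151780754131337834610791599544203142135871061420115516272015890665311426930634368100334359789039063173090686254573352909335400307444523336618269635155133267403238083597548854690863514333551579722920052518357745108533330802743827252698479730497951318117957201804705474987113546959810821374219769442219008373379360599586377353019910042467929832378008720444926485879866827687067466168208357017816081829132523739730660197116871439275277939226154195605872230294019091453125634684102956766012418440976855674557385181290748034765329610170220654837635283798850612118094026749569902958461955049438968216077865240074601780548205126194811230317313534706100313594287904752435901759692019920736708818280558427998808298447975478022174721171262658997731333867878288475853100501402356529114285133201231513911401295829995077967017676755453385085897155150903970413810573093833538705980269501120640158588897842979074709565056735795378502466585532577909988483610124304156702886118224902094356935072628030479751923713143581469124659751074537874916001310379341832664174371448308253378370661856558333364912452076420686512073047903254866634232334274507133350906481,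
  2459790026062905047512876650531164829986307701896274611744714106072870162569784483979815437707221297988558502577923256506154141300414041099159647226150251707822214968468008788390757408459530134565730423328714177912315733721783801079549531869103784373568869262572972687215672166966072801293880559265323509416368756817276063049385503771770282544177776512391522507477251999548371682779360062367280647464972596228110792785966059661946267470533729876003285709089660908064378304677217584351013757060279719050056042823457012384273409834417467091169073090627260229108485407548642757552964265213753628985738038368055458604213270467274134131034870845652869748322823131324137583696491337382698083596248703670047547887528798242468111401375599480552334426254802613927669634638444509819662453871369539023883544713123205947149891489999288999894814788198486286411091627927733977704282347126465142948021791534945288559496340387494290538832448658856633455021840301760474478429336022464252238423665772133772303526796513315847689378996515143972455192083735449011020537352596023057331358565787754343789740218533485560916610338323168335480866904895297099400289178979004689611375264652368952427337836921731478858923497621539704277801396076605292525630912678748179272767492033696383352267469611981987614306024718509933471677101644080084153804344896391601292096319253282575465,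
  199042198199861741737933916580624371838822970115077765517424610180638823134459902671165719700168898067462563207590413398331430565248275208785103714028430232775225362961925795847451426251710604880460803958524741406801839592521973771786974065495024079180886856665045846318989525680742227841979307950272584438691115762262298939311603094426538515175374852232805969917862441197217556257003103201573876624572063394390861419743306799747003718264562683613149502445946109053067536781938560558212064591446875454436572813236968670135463643773486634530866391536434996455642673265614699580551178677323294006446782362630987355098585874989178355729504814237567571089943137676424074405663856318245203603148597317286776676868818114932337657247611046663530862111127631666842827932842182646710914771806927177078140964804482419841189760239876936893645157546822072395125222970825477448644000841535072450341575928255107636518221292857510660389884093586883766874701432180798561771778634636699746973137351708980629807744098143162658170169995327527636625330042479146422645145219502793857811382101737038639322951218355951810054122117908998076065138092319079881112386347496974563334150513675883252979356664816301995692484935201473807299472054946524948940800835691220951856632119993777174027622092587824062211511965971294579279509399057286647675920914989597891977683236916278696190061611313127315045506030396351,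
  645888216014850632233753308639690574755876659887901762547109435236702179609667653396073241287440010095348240584371799077844966161669676415181127460744747910470657914353407394086634961386895954182433455806056081503690511570675937843906763844648353280109552013564499743432020576694291515527739123805713538104200392131852648366989182435753202977919176468065894725864829620056871497895304342468871877764737841886428907461940153690238318333158027805335315492442736899393071252757962519403479812039061689039735007585993541262329211687478976799787527680643832279757443209262026848253326146691939610601847320408005565494279460070942715465483297055860617633590667825526470555903737963718575171774797375454551551175850457637234774354122918113183873807371755034139970207828800383864444671541568832222601752970094404620149373748413876143302473964458656678700154297801303062640779113426476498976884451707797185122023527857860082891581138356302243247603398391608547083869410184280634041006093019109511486009306794429334626979454946794558115718469722823538673472571577939197673036904449423371254428319511197031546158852198982336991582801458005203873394368027650350360560699685792776442234459701373589829928447625458414632189560442638913322800754645177888286525463436598955699713814803612997707546059980792914268865020753202501787527245949905024293992838582205771890471877740348957708167931133787,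
  450922561672012342801046644998695978294734057313605272041537569683570758471231178104258841009770727488804031102490756697363755310095159286159016124789029758623874255115651465630732435139663044439172258077291986715167873336272979395336899872865648050481419877537003984300319957484169904550971983824219325742501294958850691961672575059100046887797207565112394378982273508407359284669832068825913178933396788478065575086892953156560696238113968474434015623894518213329869184356822815608460498930706607318140803943474462951640320381997743073359659250249788452610210703646757045600532706532618359296466757511575158724577880491139735212013503607253801215072401304981060617938951976453485631870854484491074636515093260808552405299299080914470021741930819967109597783386059777192934364504329608340558960118027030575571086158130636289853892608776232072846773969315852420680359149245705900503107690902907645151217841882604830036460558153822037529569933603862451468805174079922489953312578228562080725049338691770418200491583804694909092730448559391855091853528988577463829237613565231752431096359418981045226614101011351939981782716034141230916020645966671940804277514475533942079642004354766247577447999321670519828877766002567701680996909577610197950485618185977154036704132286015836534124157495428702640007263656930512128400446650428894508556699432103885534064478886173716266263114979049,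
  199042198199861741737929257023390281709339364607417747236943669189447834518659154951538846258551157154931551715546132443923401351829667331426497850253139937925974224527090475015932167704477238454471418165887425593454771177688827062465042767583993678283381587146594724544613094676858362433478903022334014390936164987845802090889268588329462669877773748085793949989780501874719785294596435468065250549337119076757495604227902499174232703155545172346675629261945785734362720045004515742588033922196590390258995886229592405467938897425729289475341891867713377787235989051631527690343570545113550300891686306571634904812286334753162989135294809860232339433168151661190948494265034976005063402747083988050781760627993040061734885632412834291730295257155242492106914344367717781761496730233435534339368289363616949654722067192021380894215570145191092927400754664007623555021327939339960749903474772681202508023124691012171070736966150099932064032133069963377071398903897101975123164782636541375522090869282127583515102714340179426478126340495472341929293649560862585900913881733502681292405441990113561251591245180821534760311436789877102158306975389455015432657861364331851510810333640773961169153918376869269536623067471082226920169499175313866022036325215440983085151275551334300268433091026335803493662544653851550391360644742109121527574802908112490805283506265926538844775926412646226,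
  435043091038187186568997814590404487090062435933443221046555097824969015584991094915684668752894876044830956560000319177653952113205826818806466773541441369550452014693515246432977033999956292145046620324426447316666004415558245663884443758576097304746999632075620751463688002528429783728231033701345148671224699896076681277172228471328813800617616858278297838561191459274911043616580762024256607399500876523301979515556985210070869029260568721547448168363683259428968063508979916891020383337298133649784185321796082082291286438869990811755292513597394898263816009791867882593534340845777306888805988541823507270114721163157351634470636800653533850433354093176047766171021509584403581102742941598993544697602516538721466184644183988254007402971638313704696752540852821833401031968179513537718174400771407480049637079795421360894838365177843087549327696103528042409278020118900598796225029264789394954910457738565170736992205131322677353680814766652787590510689687553791772062009959724209100307331171742170233628461865595879575830017911082805342434365855089943851600104919410931509230243899524321288842920418757440807787103074044075504019130070749593182792040779819064454432459301467420273450871152862781940199189845935901838547227381092995025035732481781363174589983907816342327751454670709249296547417664750358233536586845393796453043967956257913138400438367285364364226461158024,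
  199042198199861741737930167647522321340571147025474556183456262099657115838431572225607158052456962827259599207164513899129801496204199542496633105338360528088362280435542071755831294629523646119169512369186087675316417450083494664830973166280138902837704660773859172400363970167218389414738662809017779735838404883482077900127025653912969034891312959655582484368427970006534710532958650870337362356950504508301140855160765529280390545103771060839026707454031523915391824727111424839663515074039442283752136343945439809182685546142411446456659192182178231670904115287327287239193136587554870315391768077473564395912232214981990988971081312187272067760004869812670878484502170072554527723173114926082599105433199838535651947711075222682891316782917427670079567284926963405254176748731873468182410929595262641512940741826298442819883579416591455285064260325896704582442824515996070479057760219364676340571820145780164128208433539525382341168652533474346423390048553073141681307444085550422126130485420646999073237965676609207905556004053623003228510188751768107457552456475742563439712010122499172682917017548784944183277225271375044788241904140246314965711510047212097234317585536276746003915163014781817542252874422648561680128086037437368913808363264178956647037883391956943195602692159309942589299511123558330310102980843211250498400245590287327872865893223497400489780772493175348,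
  199042198199861741737935774505557548303454698385589160292494315704975156835778765763620613613617485735451208455243044365165842114539973954739839088077174361897461514287184590495910733128389742413895907570539514315268697386957327518109905884444722232844039346527116605637115132718145297433626071267871418163397812691811802887424267811130170633138921783689048447262702223424182947156667931868581598608285430624563525133551634695591266496130597420569078919644394942645181127948961147524724214735880101725847382027576002637318350393670005756098103026680770177985331449854761814932845226192937201924229864954037230829860472971878140864821303776792488191252855680172496801602372848161957680549173256791338742600089727674991825085290150728729315635102047160105625153572655196903246324667022334265756073727838776117378314928652109003223527455933901573345979727437966832664255110825212586346066797609610430019581364687570180768728130417064897844091278904821340153962748456476585547115157340154609702010853863824163046248898080955453392012036394785618505639759677932873996585180661681078087257707741270422460207982468218553924073895372370801834634585498575560509049243682215883402694916054987235181830339315361685325141484442486669573921919748567582628968046942744618070622578355877077904322934243647351763605078432195706893082865371865166836528560857593314749191974401344255726698941778972288,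
  2459790026062905047512876650195987485010536655410145449110255965691927138955351840607233269432712256612642146985745983586687422678891046366164525016352288262850868788403190771483364567934202835537083667004901243833162694589934566823927774509221845698235964147258947420707262342881888575232698540284015403094170950307715900572155693476893744398368316189913676306532023990002547793654617162834498219722080186969718522493049246436525631267530001550285098258667504496012585090388438092185260160295818588424043412730597992924223136691663238786599630319886672963153286541087943472037024627873607328635191932490924921378797363271558032061981663000176193681303525044036135854605791307381477211892841978529353499566043860945833271364042189980146664916653896871235062112116809351161281602885702189468551717769741694614647833078871704852633794028157424541131669291923329630984321345032371654953860004131270694415198843214490266515364601215161773682290556788654191653446409866155552634559497696634307311370454245875613983437941174958591464011242420739674149229803451284138967478492823633591117503918981649881777459829260591578557196690565161258108741984121043369803994028909193805104280696369631418892116520277964110032877487500708739859095160513998452710360031951067233777679199917692832798577875969580680063093018591703234383976913341167867710999276886634149710,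
  199042198199861741737935115547527625496497726387777637645069331593195902157208183713697973487123602379925023800665490897745323089270281897782525155935635287883190910652705630387260622462085422142384814417974043519045382899116650417044208030470560596493901077491373599537414758954550706166301206749720360503734160698681433710367423024248514490881959383806499313182801342717227255742445970742809533848402201025529557467519810126673704787588744949582447945015819913332372870934644799579715450219025667349955547703238724018424196138595291681323585537898554745297546796375202710723159485533857525331448600407261731480021322127999623170663269881684536291542236370112631172028018232104595959884240944319294813852661565695901040074702252643450974464579101187790410864988353872635427699982009608230523009800406233758036641006731982382927786026221877673264504643235996850741044983852921056652727045725600000114775780244360690228221291161060941628234404402326790325841574073417636070460179690980197044404493231190638816232939354099017947856796868493206530447535732660710727409858555013710675581248403091354676886827147441140238086381788033486712116999711259289405054794884268727163475038751716288925950067721679247614963574372679446386353804115811473222759046458968688554122395823888780696891096757579298743753443753570120156256831147137424645933921623631983611629369074102808697354474720360002,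
  199042198199861741737941363310529910722739335849641469822285262020611071576471344208661972776713017167440096085198156030659614599250636335366241789035770744200917143750035606240383276208984245634222477375879319876843943899165904458714439970483679020858749187202618948773482153605072912476538765775127356235152671560031162684595975535267318139007765185591069516516321838704631987193395752620994522123056513336337727839528145800509854492490649972758713685896735380300869362689374417898490985408464058058464441504612581538457584814981653827356423317040767266635518164887427815619063720483073935337649751599198031844936832308398611422789624694943527375790795836964331306581093018446259946583028896952532420464444658530266319320523260493961514902420148972266115383197210048170753346491717549056899923640339632020626681238640542256537747069342814474745596150742136593486338507235616444844266124099543058125571971367757013504585899983819144248853032542768390712293801543668547082459129785887453968307462252300986958803380519468778867189992486572124170840728994110964077173518375287136811315910645405368696829171190938442918686069190996632906830060890860773621386570608632478916492104915585985715734229172936206220073168718488408094323968878002887354634035440776466221530579924025994474973237070421181318544517834161456117057434081584114548146255606797759933647605191987356035654684207212362,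
  199042198199861741737933891356599710090668946991402909250836062544799147126542010549092293405442423826921409702754005439125499352676393329710229783539536597222671063515701165146666198745199462886509562672086175489615735544719515386423695885146328313176208092545037376031873150991440278323190244870723216089757012183946617363687018029161723717118056721600256885943019691360188713041436921285712310082164386448193394465838161765966348982755745522386722347928066121045944858919921733813384226952579112387413009989995571095257825700276683709720428387281050986585560472169805692060484755901004905348278991729801783000935716307412827624511117346030880819488406594334594102648516537538464553754636456120192221250506285664133056372827041483194136850617083377206964823697965270741994670776928348653068785436264864092714985422443560325229614002254021705278691900601850787576870467189131534394100407370642393635355035147783735639924734039231568212202755663244878718305925928698473227364421187539496381102142934183872104651551486345999980882161428811826752422775962382849246064934439503180062260707014951790694974009280360649127970553187889439438133302401732241994549911991561675576762024829139078594245152991117191736189238290672271993420878563314058433251983178364889728873152871520043333974165409520369405214472916698087361740267676294515655693539731777356023203919472231260705312035959967068,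
  2459789987906644512960706193549434230246010939224635896545382370710596799640187731627820474665661348017120909039938315542622323335374373200989409231145397240132158919833927470633719151027282176266215766740115450255027187789814186680472214535035983711865364712432917782630425963408650773815034752732531389296234802911811497887833700270148395881396304092008217725910707539137807757554572026110635765192833368116528128285668547743611238185669606344927297590534011774606131483319881295306247504744178777011802706171566407547599684695121357519751021091178609399716458266459465437836105157995056679632332825179536352383136370473847353710571196322748921598257637846364027584300347910970830010668832931728260393316575860742991066366121738328195067744656823335949407875998040922221852328739856563778143361506875131440292963782423437191487505896527055749641104576337094302029136574172178618361917350735970931977123783962220474053921185786896330335848182830347448013555867424975059432267192020078814127231678550459017232646127319275312503205873021585742684375644152078746253683766754839156106639170506843299877705050132160301245212314973859686875893818802822860702793325441137196190294376300886835855333454684536618089559596360204310219744227224188849627270556812257368840997037000739758625638697156361173640127396627541005055052889635238162293677860427373309660,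
  38156260534552170456646553254764997256341032283688781318696661172574197859036678933402742240026455129835049302442412461094548193363991656832830337444582975737137129054569436534700863327624040987234606654516461278510919914648538623163023470416731096102149424497383621327375881542066362905543758385193906555081849892075332276866229924951873808629053552226209514508444231626118046610276900312563555610461175395287229646854605530578538295910525816610516120473599420181186044705890231590860644178853046419266677942154910483696425267118830788441474272718902324869698544701664603444615434143171626251025603452535390349283190618468788027481122120034597528685618323623876560483482001205560124076103655300532820882307889886538474909103728706326425042255308771333808294599364681510193768975924600376114037351583400973878426702957413948956471128182806865623163804145434247960509846067958157278892294098777506086321215937607325479454093861970699076482851999945668746755804529739362944306062148881970282736562994104209783037448392515381811780030876164793611638126203733043247266593063064736947499601734473111583371819016863335974503271445492701579944575658206171040119201178433282230659531327532321581648673522404039515579149287201531215799845077258815068646182031438300130932352114679153451915649217711478871548604825641582177335068214930271962393535717856,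
  199042198199861741737929257023390281709339364607417747236943669189447834518659154951538846258551157154931551715455738504190219599281249790658789199499636224697798950613933215147315905978444940303081290271168425870930661322491149413475572949587782299159305234313454129499512477370473282910925859200221724285500174164120153135426577851822565616865909599946384721720753640032137352219009581096653127972729887336291920613206869723444217466737181792775058415286187627282099468449615734453258540771041095085250808679279512543106590690403781808073853084968922107807996604781951695892539681515830986610073133674921585371061835551641100389993587447449202408947584817609180203673695240192402794607830834992662935971554045367405802782830383097250383457858517479511065208760574504382341063001948171710679034447939643999211237046651573340112629173178246730247170673805811920203703302581344793176957133978879598212220288849844111026941036173044499703675225878712860281801300972551509374341881737964410798001382333366450366226365159859197016365473482705831085776715226299739810271049919606391467345398158274190643609260007418445089209058031558968055776997024844192328846394215040577517341815549703474332961344155695465620854637143701588725150325271872204852176075940063036420330171299936261650548774536643080282028081292852190629436121160893001653771456098630047871301137348534545913494865579647948,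
  38156260534552170456646553254764997256341032283688781318696664770773743130529676069950203733600913552440952720036772424692248731270654653612032916148950690987392679507366597485189513575529641599377210100858091721406958447438548250764526474749664944656112385596228790632357964250842501344650794893080083304315515229892324739703226536357588033446171605737156030631581075643265455255039236231668886810357336761451305746988847165093180120905990796542205752918208099386391349162488337051311091730910120803383833932738714599987281671246627915461080865827915913410155734702692940090290878532245609794980676645769376330707264217462371221577716112358661849482270369666182875687068192518944756597856231805708979850386622330854419156826300453671785993774943455219861051315535404025973810229734082396849083536363251377377949455214225258759668096310214545972114201633281404279985255362634722014458882596769953736809555306848263773046227579060835815098847640784757014442054170028895826320108676024823901771418679858170541626914295265132145314382462822405464279488320830734261150735840704877245538938760675062966695897982989968520690302088079857328605634176452857881807575983374440125903218360346883087587204193145823785203189307683711765654955568332078008233114493635627083283478233188791444954269424516601450431266809871523493774494382761702124417741400987,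
  199042198199861741737929257023390281709339364607417747236943669189447834518659154951538846258551157154931551715455738504190219599281249790658773001221193194430578689148577654120865639084935004063641091917065031081735819377355789692802981318582220316005392233301103986481866166940145567146784626534892233764823194741360161536390640097583207658275153899466758559927784672834913459873632543106625504752251650051437123249792333027511670547633556351104345923921867128068318298746749128615744410711729561301614811358909264698744400073211841815812317444028379946704555621029701305342063665525952009649020855325453460667086321268585804745817441000370924333722892208029018241407375679894126452450021209671615220660059804604870652584028411887148431098818440729135972625891864469437881782561339955539591317357061469552720830195571413081940239273958333947804339314038518308543057108722848401873814534039953436998076577347294383799396814443182636781935992711145215130753073641390303396611968901254172748456829668012237496312557157990913617475296542722230400227224411539626279246844910337477829917205251655610951433975812241146937310973721398215533532528557914619078128302328640036283386788253601520659851809100934685038211057743253502233707774938698287717991623303507281549990593187510626791222077437567824711796612907382241189015578324376701187694258440958786782108256608385510932965516008111640,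
  38156260534552170456646553254764997256341032283688781318696661172574197859036678933402742240026455129835049302442412461094548193363991656832833161285417217893389111960115063868794585659246817703240028778667861424254801927467878306185715567652128907452596914143350969272241401040707319411873479860274103495803255134437299881114462094588398572382801885189524223504822053701525558565106688690685830477570861211136463292133310333208046311093424262784880442733956983141862696721673127057302015933315383152487349556825536789782895970086105405549067674776098094307368924433553788650537168427305198437941831853231892533409414423984599662091305525151290534430433310457180661347333732880047983447575894294513379528300067967445078188769641793353180262438655757641174709537839366090690624903141234073148978359475099400853715835671876828616591660273487761152322973525861373416364243083636969742923483554577821452416385620522925221358293101300285028290463086435451246737947078762756994070089741693251297939899424586566059849454433105014923491392575214677500435785054306813181029474252565949728713916037785958340424376621516876726643034528776724210872684468315862219963786066583607025722753951971808814352851520525945594329240335851154909370498952167588683706139598730275136713760678233646890003940578778446712403199950823025965015820803154159107535624593393,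
  38156260534552170456646553254764997256341032283688781318696661172574197859036678933402742240026455129835049302442412461094548193363991656832830337444582975737137129054569436534700863327624040987234606654516461278510919914648538623163023470416731096102149424497383621327375881542066362905543758385193906555081849892075332276866229924951873808629053552226209514508444231626118046610276900312563555610461175395287229646854605530578538295910525816610516120473599420181186044705890231590860644178853046419266677942154910482672020120239571076216531404771986286905963605228894043710659082864587001330892831892478505673418352776557603139305072426644543310709440858459909808259778366068820960300348265907758376210499539485961696855228623220253859061583486973371129819163481714868560353616245444632261634893570666343125140323951355619616681547353019101531022396231864160123533557743636130683129704576988974896832222989482437735964768198713899979331615474728193775022667390499179285370949229872372030936046153853876116583135438437944191832867913341801027743602648158535617519383413183809004913686939950044154373921195098183333137221353094062617364332444582173821700591916673077336384286444627911081063048313333664933908166274345743756673246050992200359685118556674787022997668333013254025495646935993631949480220432596953899691210814350941192941458947118,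
  38156260534552170456646553254764997256341032283688781318696664819604025214241728996807961307569880323067330086582822049350005499150510093430251700926851680697286194606336338408798261470081205854730614498009384120368579900172508658665721031852888526790260258666910165667230996541672820293864625068039894162304721427324784442350029883257418802736950983216625491140848660017608609054246191265320582871005976162188168097176176601126836917364235049199030133610646565678138128185464136006550264055370161178440209096475174569634462879783846148354218538381715088948607549477600264554754913991291376467455225551289683880657913949182481337659711394054093154761796706593257589940476369786048786123760113098747979830218453733455314078873275604963480721563648579521635701527605120853251069020436479321480944634507221319719265539334158363512086804184346549572695041707244075757097235861866650576389902299896528166484344536964940422956208429299138510479898370486598149094588227882067514681120745543185283021749679270304646241694696834985431144926348377172353301174148318905124444225649238034937335568989761198670934636749309557625755078536397943420570884186700119752165150558370815818280884147602218909887875721030552565002827704608487804365515351760690602278439475576753571127423918088827534697737531884390438638047438318096737547415994864417645486931549315,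
  38156260534552170456646553254764997256341032283688781318696662227924242160525706038649549823275821127276740775945239480607445948565013133025998116650249565706017691625714970586866991610455111870129747700586906520686121790183320621578326300278242033245056772473510041704610439962438929263230230213881575500872421088692474266356512889806462469612328677953494399417149308983632858240234763436836663222364549436597165199035344286774228300274467478076604623690800625924681032662059050502002023308162603163750440020237428410912871886150161858585261063727819888982612376096309920640782317265130413402922499100421720496999192081675093510504142514234618122541619877047307491096453946502751149961532781282770767718847665105902120384484723988787367520689087351405645859964916747103572281997623301202908550881516237831383022174745787454922462913856591610497048872833434801131834385535013814343932383691244098784405524027600545355729945187033363244870095713911337116009043765030442869404618185882482323401640881876067642074992189720836792426742573539813949954869525726514108454144399085709441691361073554011816009526486853886731808040311650298575742895055587529301666269581762261243367044335396763454996844765231558364068345675462824491721336441704947989257064684166138328687227044742925274974141958589130347969673391450769577897601179281523005604110199988,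
  2459789994643621678953930585613663846926323871372577258046971152854957021518577269811059822140153895648333409155298330000336730752155744687135693872321344439928149026793821519716658175528993769677964487451269761924532758916464518360947452350865679441379167394261024405295594160447215287062996479858065897997737410692131776784628439870922458653461481511745798989985351284689168969763533659906965241532414347703949033997087846751325244599718199484553750967663232295792476666155595614989203551795075429880172391004080637631323410403886374657540363961640917963776059887958448407288709533777502657439567341039279523693515554158702355688253802723522038474450615836530844771067598996781497593952580649082445294601702973195929076335163268931305408861366341387248544281100139947646208323096320569774860974908500834871778746537861891557344772240196774843553102993502177806237665790457965835066121963988397300202410684826585643094806695815612057460114088752478756239570914662893839888618000654594609725878966323156026293860949960110158664465110191585360426438436884001575500700558270778512446434049721343473557076855370344208594834101301337368807650361032540122125178555641823517010162961953823279733601377477576468105823563970425254649386625903554951545010597543719996643724594634579729163160585491518825858894630439624964982822248803577884392906244269689107427,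
  199042198199861741737929257023390281709339364607417747236943669189447834518659155202830746356482403434675699376975811512428716143840397689317992534329223844298549906147181423083054916920956902556074011560607918073172890152095818035727331879074009379371914300104613632498764510221893544102973432567931102493528011962561681657214623912359364953237447674786532291706874301123706177746947444280590323530686353803026443769033956978077360333390577724108012933579652232276224914865519228593506246280676522837311861910273123851775083245553846555114020694118136296860596269255021969938009451340125553436391082301892690878741236211565346678656640342804522246960348349143764925888730915701510150234529425174306227440085700712148386139674027397720927162881521028855684626883824093572556088215638610227201027232123848553395041010946574123675330332813424914873759448875113837276864461324274263819909874095444240109346758151799512777301938986806251318068812990389329366815103692328695276605311331724317569340604480300854395813357294165715206794945227735354732119459281027786716075474381965250552074043918563376457402639561070128358321519316596284189157225495705906176642989710916887612350735006615478919903501302543861682502309508296315667517244233364799203588808830889904376274019156172444078756694895597905051067906346638225028749060167022332369334522782744704652570212684620856819670127953169347,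
  38156260534552170456646553254764997256341032283688781318696661172574197859036678933402742240026455129835049302442412461094548193363991656832937058925235245927630023253208085397242327885758406265437587697998479387727324586006221977006522512433122445915532145239009266186559938382544631078077797739831426159141224584705571127635554466217271720510767948150390970621515597430487239595925734475440470116651184679139624740093358864561645495872142042378605323894976885634360264956867725948378903368104595794381627956101565166981111585345522127753004212380399555608596703345646636224621281737507994714771280813533182571109698885611712513500757443717144380236718543101091971126623722968986698371770884134374265228099755710043251957390303080216707953231608970301800712675250392902909742442325161928311350854338367644651905063033280913108662533691569103793349698262249401223570989979240982022061672640059857477751361015599619877875599289501969071661815890960356570152795423635875541200350647372855743511633300304336585352133922089381371186583816510839812358704071837215880751735531176746023633475160512294062782236055967897493668230548854904206748575391548379838600865972066087459683378644758877616669757174889520958084101478975913326294581080171429617280826692691002769431517527369520540423202571098891676634886003479777873286360456859292040765115410258,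
  199042198199861741737929257023390281709339364607417747236943669189447834518659154951538846258551157154931551715455738504190219599281249790658779870900260436902825852977960805575533033739861500826545192638834545401053537987949489762215891234838661298606837286054875966351400428142476315242562167406544478919352761439245913697435172159868899985514202830378943112960667298901104959021458559073545675153841404513599199850417846934497703115130934341744825809107493809057815491038848438526076684670750621215975919648488372389121532800459545292063102488347516131130475543557421332909556170028550403901762817608902126694945444867233224529180143168442628162562665848242061206891269906712206003098898256236994553332338167270177290074571556479754029477960400047934334685640134526326878153511705543578692536295572767529176367194658002745114567633037199583671685616514427672460646764398260127458345555799795752674561793385735591661540692460015926236995511927161263929612377637299020721884518721526228006799972901467243302767009229537900626755324586821669749197296482279752422817686534312056789586256962472675336369058334979835315646135251425654558976272175160233087270713917610777642677351284437672916947602748620831734787315333660383185602320832767646948152509797658784853744816388227283812082122425285224805124908027552756621910153750836373522438623211013474550080346446178943570173044029325449,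
  199042198199861741737929257023390281709380787922573081905089769429446115900032955203714618138854254348755242014074400389711606125307054934834659636198888961128668362210910515757906965761941846503881596680556286119262235505684884287927713310720794333814941800995730656463155467967111762739382262246012518031887713482352199971068948392094899968481353828451920912547985996664128593617262948101625538047002781599525814204211694180704282609454875994835733506220370056950984345991279733599344795749337165025959253522488183007621703453451301693547825627945534008476548172726628116559267997879260851211609517076763650604406710211042389412155370220537409044865750240191158689756515384960396098806803247236698193338417977189533834451700708136282047517537703142842678673585535306556347719463132119650471239321623035545583814669796726557633125341205542148975541620139137827120286836078419179518677430444721415663583495700346884333940883272450442523101021671258939401478099791670690473906247486428319160743255353491493572240190491853153793836937659497637881417924871440825590394215783558404903859532445075177483556161258264647101808100525067108255793999112833647972948624613563467003441814052434761892951054912566691377151169512690630029484109496880660165702011913997236148837923918846630362181954625995499079610251805183534314027134251219661737417665120781125193944614066283714058150017842829154,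
  199042198199861741737929257023390281709339364607417747236943669189447834518659155019965230448123323704402843266496211744814387731024955164404204308772846659444729802281797529448255269791275350811346835521773605972778355486660280603228035222559486896217520334272808542666680395244062591943925207305737181147281214078994501963012595602690157898529995324081454612230619953453871844659110268112447669946131331168796921140123729566362804600752637947700432694243748709280909747234682484390348162611602334991838033485291960730603992583825525052044388985916840705605160826414575035751113444628675301558715077345982412165571701065179925513529088247453523341318131367233492697915808957455788584423889357966243525115708655333308786086223350139797064782248331910493183176956588513379368007231766893574183279206207313020317821388004337942079303170988457123384129294764026499379010410899875725738098942226065774983720566851837481461559064393870719653246836318123658186721985846161358163801797458530177380930216844390810667648924959813434699315337675123976450828185102460553570801893663177737920821716671720014337649644316491116896528031510135549408124283925451027530982913671603588190619761521669797224357289021296836780268976534240635454749448130800078074680019857681962839622772803893931750233091654129581526251174773900736373302802816461967073732983482819990154210419647671078778102705833537231,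
  38156260534552170456646553254764997256341032283688781318696661172574197859036678933402742240026455129835049302442412461094548193363991656832986560943268601693177907565177541893702494106770460175766965771099829501931076132827807741034408837298784672676029449394731269855356599207343487134022458367466017715293259758987043704429435025973748596929496115093876783868413170738045005772079486167770323238672291784579747247183554971336789527981742896532574716080911832452516925263039009237458235498850958406330082683639191460556374972620359990272234057820653651217643904741905205731652526435804843471853784845581295163698501072101988879681292407055909274566798848830498801334382025512111146443223938449554315779858295412938484362884119952521288211852737502716344906038297339655680438415546624592474600960411450586346250107825807773000164986670443601818031096794138297904438567044606794222210345528294782186493222984543057036811382965775958770195226376576495965942975062818330313441640406649059413956967751220430354414929001525590257816232247184237206477100898508033813530243714577715126880672231052423663500613698120329122333439622502843673450718343093116524763599447612782232127483643238871706949797869078313258639572523824657533568063997393663221543497309073871211064447706250258608464125874882847299607377609038194830362025697157535658198445191402,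
  38156260534552170456646553254764997256341032283688781318696661172574197859036678933402742240026455129835049302442412461094548193363991656832867823235277154262215398212548395150798624977159542651748686721091475816462239957532715847461558936555205369956234321971665151778122330171933738464384396470407151568099031382884174901125228705279346416116647943738428559907169811852087962579051684170249990843662331010831075005189950236757473795059314709964626154244458354456784683246437486274395216877320899220360548531449197590954084703306975518143502224353584502082145892224447213631847222107707716186141566142779042393222467465276486242336656292057213677454130646919730575887888298290751882873768546399916917265318743788647177628104030761494319258751990919928916447548349273581022876765096673209976307737115077185677559205401105695287403593736395116835865867912509408634068511913130746313135443605255266727759884736257699142392856562739032011652495044970099190720691099946697172138223089264361680983609513852396918525082980340633539919188506151688829686221487631230675181295075202506368411387342235056364769123462876811479578975329775350848519346992236280107729286280008669636831688750938973549649575742283064799840223088355236580485459385909793154230067691048920023080993309402699836626008766156263537547748008959913079546926309836396216412785605244,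
  2459789987906644512960706193549434230245539399076427695863500456470219052987138583976211122837876542521149440358264645368802766811580585227107557722081070256148776725024664883132091564130444616629013046554855524846574792894290516810478344383679544507184544724316937219199261883017047439314679570491303689622698712309338303957547456776066415721860110743933342883599848935983804079320055645182236916566892108933672644775111597256623620331780919710835080142600119670120685768848169259697362172082773616032018646503986950085888724330215604930161637054823437011017502871137019055889326578845226633666517032591507956706125984558847321159290423527052153667208022133921053583497802196536979724539237919865299829197047715278419265452971476676363859422250763000243588284554317332105162282739153648431366089319719798466841145773005586700832120281989682746779801966895009886166344150606207322211480081394073542617743638287487588160136753114412345959629791059176772091372930421947855542494488445109563924070184771959670755713126894237604370104606316231688067887911986162053696497613005871985783881373000697156927710054955002270805707263248755583136043564901467173790887535683284334276262855080676419778823744897288869092267031547832876003610168976536522747985132291351850906180499850806891351967046372732984638797816074416400008092978431598154248460072373769307126,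
  38156260534552170456646553254764997256341032283688781318696661172574197859036678933402742240026455129835049302442412461094548193363991656832830337444582975737137129054569436534700863327624040987234606654516461278510919914648538623163023470416731096102149424497383621327375881542066362905543758385193906555081849892075332276866229924951873808629053552226209514508444231626118046610276900312563555610461175395287229646854605530578538295910525816610516120473599420181186044705890231590860644178853046419266677942154910482672020120239571076216531404771986286905963605228894043710659082864587001330892831892478505673418352776557603139305072426644543310709440858459909808259778366068820960300348265907758376210499539485961696855228623220253859061583486973371129819163481714868560353616245444632261634893570666343125140323951355619616681547320164260093161172972974760319285691244260223000881458578365149358167022081589328408141928041437420094432920116429575842358537536376034005614661914626447021749758736491842819830314629117506992291435118687111644068531745521792280470366023937917120526433647353249304069769904936871646580862410788468480793567325851109446295252277190864239564340417991863579319474887268756055683745540366192391070270101717564113043488517276545375494839838027994344425773024909653387936021980688684331935218877625526633671197723575,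
  199042198199861741737929396500889023669670156107983607838641870578801081282728634459078412483589843981801272138182866765293410193934787764765083639325859619591782029282174318237703131382758489268701731198021142963122828589676386690600366058548576250156654726243162432462594949054631863163354652349621409646230148964858954511225589615539264356606624633841354039096929057995380207504236381904853236357065116108110461239516625360087318272105500293294678230762249962362818389515398296051596690771369833022406030419744104547598052817936979072014863379036838000759186624260861432203766991467489569078730322241175521458031634875391161912583394995719983742879863985800078286194972925786165870060247140382977097788452356232137500006353992521970722643721552296208469250975936804712283612667519643139442221310021819183564262930422381639959075458202429923275643826243646327836008571378043309132269765378644136136570983965744212847169500556841751809265932089836485847632435530271942791386394573000344508900413424113718148307689949511617937675377651662513446459344227749775850935507532670911674603669159208079688576181347856640609369496765294452498113992280649672776996594981020985878090690871128535335130245645777672279559790353534265938994084583364362542867267224440559619700632168851402626659848760308556482467277428407960058013526645468486731898321814815016995730780137637586343295043640019575,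
  199042198199861741737929257023390281709339364607417747236943669189447834518659154951538846258551157154931551715455738504190219599281249790658773001221193194430578689148577654120865639084935004063641113978541088044789061714964478330342272822035747898029601384904743903468386343013024907260577124908546722580862788082822875991827197971321939752252658379477350611901921067540034157658934416755865355243267839264269727844625383427288516704321067311417526942127327803554506355796356689309258812090751017595817918261367216563778883819469439784555558044298894927979775833572022240226424046793041912467678179058921281238531717047593616575198235859939217505452438111397926594269835086183488974761472637723766870920455547834723731490883160423815861025309602019744626785043250063459970104884426894343010615519442848019439394188899470541388803484004513003195723429642571238311823238518509829924720811981615670949087787320076646096050226236560581004079853213024322373841954769049988481617166841784548661972362371267043430546435970947603089367270623715278579095290367739050878602922544491606480198485171816048630023808084775387784708189572393203891026586100201883094203606790384922726794329664782826742426229635997351937752608691466918156941760787828363900102899514720537295171387869989493695454353580568059864756963644749131556550687942667194019172277648842221993592442822884688703421930578361853,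
  199042198199861741737929257023390281709377520867952299407400460816907071595944042294177201884174452728305281425972269614462247136095787765931089327746741188607196629403549876750274552419789457529337260532239336930459198161760647322668428458485266330708441135485637938991360052047973479817885577142285343018675970013820895946183953245059517553463271262799930576932347849930210561372878187839098754223354244684270766843405906141682453495803550020995921010930008897025669191368755774338530591825556334938896577833836317558967656790320507792740978816413765957970811984841013609520014140497301822445639352414841356467684454311209412987327723672341278853526056269985702924292615840170722539279053798080554017600183289926805672529692487655161491723196041120025754890484050465887158585041425598205884944636390910528281136428852767460689983715201960278107199725777115979196270295599627589195603813052136454211027007321543626939903125804386852010737124971056451728830009120056643156190050774909348509569349593914537203766047821089685773922994693588147441503039323177087903499413096555261362064831559402818359697927441295256741940727490865110284266022079809225687398506656769849925087071259020123995854237015544548824381623214358009711808620042761852371025904374080525269560995755482739040771248869309686244247512330792046953228337029396205217988308630868512349495623850349908696702081117879256,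
  199042198199861741737929257023390281709339364607417747236943669189447834518659154951538846258551157154931551715455738504190219599281249790658773001221193194430581673685326359119367168055549430071129694212128326069008667072846936564652813064053156609587269731099022465971337742786571421848276341321648342051172824582082628479579451495769375477635403680634328073782959654743265788796698629286113416275643050817404770569508736475419594524614388556720873680527694674371182637547026170262241784533980250840737915748291682295791414421178327864231479269657690667746599244003342739795262746931535437768382475631164589600631257819119508701877456551641509169709999412626533473410705116290711904945915896910367106129347072474022069270237152459780376045819370315614376774022767074868459636382140149109267116834375519404782681530142867636903729287677101210685787931774494889536098732986492036562150009139894956302251739444334507848345121331439381584398002191138257132198941183413795324360298891982247094026191693077580734534793311187354328566671733632420742585071433958913996429795820374337035436465319635683026043504480094423416581135941481751613219837753063528353456573651412178142752036885255414723098042104836612190775322443642531170136228056855380318298418641648483711867917258667074996063782411256742718293951069978257971680019924992601101823921881398526536472578606774675759053898198185662,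
  199042198199861741737929257023390281709339364607417747236943669189447834518659154951538846258551157154931551715455738504190219599281249790658781772412513321496892939711093789475023688599522586207248268094393977137444353362950695813238165766972888348954076900987346001669511023136895698060784524495686345865696685288926685656357224991833834236336076658230903933491061551856336814671138662965329372846160313303135042547747569075608700007622973089659950184277461850094269197459347981483035827486260623176481761167645733180692018924504875040768955559493149875741421873239868680544264745378071129532145988276276968432509362909772189596629328341730448021333025438168475224016578907346740877198355304183864004567261463869739117297466741463950464905386970518479760757982850997980709268165787715741235964053646329771200162714596441599525826659833428566350685657577940340658885302784738653104710539948624306758894820681297148513466170647752304594153684991901076483399302573088277679258482406834181766278746693062199870793670472059796736219515325316072195456854218270989482109672289904758442330452141316258238153175761413387708860667704362120633240009914120311097709192520722667543212193839577822230392919366282594192472757084929743273423110825690535703459635105093609753982825578259903755127624450685125065601165895710780240413663533056817002859684271285312450562472272669056392049805362536887,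
  199042198199861741737929257023390281709339364607417747236943669189447834518659154951538846258551157154931551715455738504190219599281249790658773001221193194430578689148577654120865639084935004063641113978541088044789061714964478330342272822035747898029601384904743903468386343007316801423529639904488690154214511897444582346975869969656533501139950586772101353424238265888298426029227996707261667581273204399246120765646829953786603705006460750643404782614696035115624038735187193156029735308728478156396277641002079412143919461566308644078424204708749032312841279918510482851731192847746776508611020802807805675381258405388674235875787869403082393786606993314428407441039222104654859337976487333325543217117931481504161992818626641135575389834805680218698935892658393575742855557239398057002085054926382672090060093651455944259078884643443686225529677371773597419926799731544740667280895894877573374496907668054410602045111529149970114011722941059949338105319622508074434051202602349308189740749478420555894626551161633929629097110078626342688745826442485663705153956351277608113381407474944238872161112869798937965184491653537887248636350585518624342973417509335021798332571058051107252348370372957383758605690254953981307838244944413980529552497060005525737341715795736747482390506734113356748558437807175166754382740860835734542591811669647387902471152026145486114851753698835509]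

def wts : List ℕ := [384, 934, 323, 667, 966, 262, 746, 1559, 76, 665, 21, 19, 751, 61, 179, 69, 3, 10, 5, 5, 95, 4, 5, 3, 36, 36, 19, 30, 30, 18, 1, 2, 5, 1, 5]

theorem hJ : allRows 1255205709190661721292800 cts (vals RW) J = true := by decide +kernel

theorem hc : (cts.all (ctOK 1255205709190661721292800 (Ds.map PD.fam) RW [57477, 249458])) = true := by decide +kernel

/-- the nonempty intervals -/
private def cmp : List ℕ → List (ℕ × ℕ) → List (ℕ × ℕ × ℕ)
  | w :: ws, I :: Is => bif Nat.ble I.1 I.2 then (w, I) :: cmp ws Is else cmp ws Is
  | _, _ => []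

private noncomputable def wtC (d : ℕ) (r : List (ℕ × ℕ × ℕ)) : ℕ :=
  @List.rec (ℕ × ℕ × ℕ) (fun _ => ℕ) 0 (fun t _ ih => @Bool.rec (fun _ => ℕ) ih
    (@Bool.rec (fun _ => ℕ) ih (Nat.add t.1 ih) (Nat.ble d t.2.2)) (Nat.ble t.2.1 d)) r

private theorem wtC_eq (d : ℕ) : ∀ (ws : List ℕ) (Is : List (ℕ × ℕ)), wtI d ws Is = wtC d (cmp ws Is)
  | [], _ => rfl
  | _ :: _, [] => rfl
  | w :: ws, I :: Is => by
    rw [wtI, cmp, wtC_eq d ws Is]
    cases h : Nat.ble I.1 I.2
    · cases h1 : Nat.ble I.1 d
      · exact Nat.zero_add _
      · cases h2 : Nat.ble d I.2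
        · exact Nat.zero_add _
        · rw [Nat.ble_eq_true_of_le ((Nat.le_of_ble_eq_true h1).trans (Nat.le_of_ble_eq_true h2))] at h
          exact Bool.noConfusion h
    · show _ = @Bool.rec (fun _ => ℕ) (wtC d (cmp ws Is)) (@Bool.rec (fun _ => ℕ) (wtC d (cmp ws Is))
        (Nat.add w (wtC d (cmp ws Is))) (Nat.ble d I.2)) (Nat.ble I.1 d)
      cases Nat.ble I.1 d
      · exact Nat.zero_add _
      · cases Nat.ble d I.2
        · exact Nat.zero_add _
        · rfl

private theorem wtC_le (d : ℕ) (r : List (ℕ × ℕ × ℕ)) : wtC d r ≤ (r.map Prod.fst).sum := by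
  induction r with
  | nil => exact le_rfl
  | cons t r ih =>
    rw [List.map_cons, List.sum_cons]
    show @Bool.rec (fun _ => ℕ) (wtC d r) (@Bool.rec (fun _ => ℕ) (wtC d r) (Nat.add t.1 (wtC d r)) (Nat.ble d t.2.2))
      (Nat.ble t.2.1 d) ≤ _
    cases Nat.ble t.2.1 d
    · exact ih.trans (Nat.le_add_left _ _)
    · cases Nat.ble d t.2.2
      · exact ih.trans (Nat.le_add_left _ _)
      · exact Nat.add_le_add_left ih _

/-- the intervals that matter -/
private def row (M : ℕ) (ws : List ℕ) (r : List (ℕ × ℕ)) : List (ℕ × ℕ × ℕ) :=
  bif Nat.ble ((cmp ws r).map Prod.fst).sum M then [] else cmp ws r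

private theorem row_spec {M d : ℕ} {ws : List ℕ} {r : List (ℕ × ℕ)} (h : wtC d (row M ws r) ≤ M) : wtI d ws r ≤ M := by
  rw [wtC_eq]
  rw [row] at h
  cases h1 : Nat.ble ((cmp ws r).map Prod.fst).sum M
  · rwa [h1] at h
  · exact (wtC_le _ _).trans (Nat.le_of_ble_eq_true h1)

private noncomputable def nth {α : Type} (L : List (List α)) : ℕ → List α :=
  @List.rec (List α) (fun _ => ℕ → List α) (fun _ => []) (fun a _ ih i => @Nat.rec (fun _ => List α) a (fun i _ => ih i) i) L

private theorem nth_map {α β : Type} (f : β → List α) : ∀ (L : List β) (i : ℕ) (r : β), L[i]? = some r → nth (L.map f) i = f r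
  | [], _, _, h => by simp at h
  | _ :: _, 0, _, h => congrArg f (Option.some.inj h)
  | _ :: L, i + 1, r, h => nth_map f L i r h

private theorem cell_cons {d : ℕ} {c : ℕ × List (ℕ × ℤ)} {cs : List (ℕ × List (ℕ × ℤ))} {x : ℕ × List ℤ}
    (h : cellD d (c :: cs) = some x) : ∃ y z, look (d % c.1) c.2 = some y ∧ cellD d cs = some z ∧
      x.1 = y.1 + c.2.length * z.1 := by
  rw [cellD] at h
  cases h1 : look (d % c.1) c.2 with
  | none => rw [h1] at h; simp at h
  | some y =>
    cases h2 : cellD d cs with
    | none => rw [h1, h2] at h; simp at h
    | some z =>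
      rw [h1, h2] at h
      exact ⟨y, z, rfl, rfl, (congrArg Prod.fst (Option.some.inj h)).symm⟩

/-- the position of the residue -/
private def ix (T p d : ℕ) : ℕ := Nat.mod (Nat.shiftRight T (Nat.mul 3 (Nat.mod d p))) 8

private theorem ix_spec {T p d : ℕ} {l : List (ℕ × ℤ)} {y : ℕ × ℤ} (hp : 0 < p)
    (h : ∀ r < p, (look r l).all (fun y => Nat.beq (ix T p r) (y.1 + 1)) = true) (h1 : look (d % p) l = some y) :
    ix T p d = y.1 + 1 := by
  have h2 := h _ (Nat.mod_lt d hp)
  rw [h1] at h2
  refine Eq.trans ?_ (Nat.eq_of_beq_eq_true h2)
  exact congrArg (fun r => Nat.mod (Nat.shiftRight T (Nat.mul 3 r)) 8) (Nat.mod_mod d p).symm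

/-- the check of a divisor -/
private noncomputable def gF (R : List (List (ℕ × ℕ × ℕ))) (d : ℕ) : Bool :=
  @Nat.rec (fun _ => Bool) true (fun k _ => @Nat.rec (fun _ => Bool) true (fun j _ => @Nat.rec (fun _ => Bool) true (fun i _ =>
    @Bool.rec (fun _ => Bool) (memL d [1, 57477, 249458]) true
      (Nat.ble (wtC d (nth R (Nat.add i (Nat.mul 5 (Nat.add j (Nat.mul 5 k)))))) 1998)) (ix 96714065569324265604382737 29 d)) (ix 368934881774838743057 23 d))
    (ix 844424930131985 17 d)

private theorem gF_spec (J : List (List (ℕ × ℕ))) (ws : List ℕ) (d : ℕ) (h : gF (J.map (row 1998 ws)) d = true) :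
    pkD RW J [57477, 249458] ws 1998 d = true := by
  rw [pkD]
  cases hc : cellD d RW with
  | none => rfl
  | some x =>
    obtain ⟨y1, z1, h1, h2, e1⟩ := cell_cons hc
    obtain ⟨y2, z2, h3, h4, e2⟩ := cell_cons h2
    obtain ⟨y3, z3, h5, h6, e3⟩ := cell_cons h4
    obtain rfl : (0, []) = z3 := Option.some.inj h6
    rw [gF, ix_spec (T := 96714065569324265604382737) (by decide) (by decide +kernel) h1, ix_spec (T := 368934881774838743057) (by decide) (by decide +kernel) h3,
      ix_spec (T := 844424930131985) (by decide) (by decide +kernel) h5] at h
    have e : x.1 = y1.1 + 5 * (y2.1 + 5 * y3.1) := by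
      rw [e1, e2, e3]
      rfl
    change @Bool.rec (fun _ => Bool) (memL d [1, 57477, 249458]) true
      (Nat.ble (wtC d (nth (J.map (row 1998 ws)) (y1.1 + 5 * (y2.1 + 5 * y3.1)))) 1998) = true at h
    rw [← e] at h
    show (bif memL d [1, 57477, 249458] then true else match J[x.1]? with
      | none => true
      | some r => Nat.ble (wtI d ws r) 1998) = true
    cases hm : memL d [1, 57477, 249458]
    · cases hJ : J[x.1]? with
      | none => rfl
      | some r =>
        rw [hm, nth_map _ _ _ _ hJ] at h
        refine Nat.ble_eq_true_of_le (row_spec (Nat.le_of_ble_eq_true ?_))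
        revert h
        cases Nat.ble (wtC d (row 1998 ws r)) 1998 <;> exact id
    · rfl

private theorem look_mem {r : ℕ} : ∀ {l : List (ℕ × ℤ)} {y : ℕ × ℤ}, look r l = some y → r ∈ l.map Prod.fst
  | [], _, h => by simp [look] at h
  | (a, w) :: l, y, h => by
    rw [look] at h
    cases h1 : Nat.beq r a
    · cases h2 : look r l with
      | none => simp [h1, h2] at h
      | some z => exact List.mem_cons_of_mem _ (look_mem h2)
    · exact Nat.eq_of_beq_eq_true h1 ▸ List.mem_cons_self

private theorem cell_mem {d : ℕ} : ∀ {cs : List (ℕ × List (ℕ × ℤ))} {x : ℕ × List ℤ}, cellD d cs = some x →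
    ∀ c ∈ cs, d % c.1 ∈ c.2.map Prod.fst
  | [], _, _, _, h => absurd h List.not_mem_nil
  | _ :: _, _, h, c, hc => by
    obtain ⟨y, z, h1, h2, -⟩ := cell_cons h
    rcases List.mem_cons.1 hc with rfl | hc
    · exact look_mem h1
    · exact cell_mem h2 c hc

theorem hd : allDiv 1255205709190661721292800 (pkD RW J [57477, 249458] wts 1998) L 1 = true :=
  SieveFast.filtM 1120359633863 2 21 L.dropLast (RW.map fun c => (c.1, c.2.map Prod.fst)) rfl (fun d x hx h => by
    obtain ⟨c, hc, rfl⟩ := List.mem_map.1 hx
    rw [pkD]
    cases h1 : cellD d RW with
    | none => rfl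
    | some y => exact absurd (cell_mem h1 c hc) h) (gF_spec J wts) (by decide +kernel)

/-- **Eight degrees**; `hx` : elements of prime order and their centralizers; `hK` : known degrees. -/
theorem eight {S : Type u} [Group S] [Finite S] [IsSimpleGroup S] (hN : Nat.card S = 1255205709190661721292800)
    (hx : ∀ pk ∈ ([(29, 1), (23, 1), (17, 1)] : List (ℕ × ℕ)), ∃ x : S, orderOf x = pk.1 ∧
      Nat.card (Subgroup.centralizer ({x} : Set S)) = pk.1 * pk.2)
    (hK : ∀ d ∈ ([57477, 249458] : List ℕ), d ∈ charDegrees S) : Eight S := by
  classical
  have := finite_irr (G := S)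
  let _ := Fintype.ofFinite (IrrCharacter S)
  have C : CC S (fun g : S => orderOf g) 1255205709190661721292800 (Ds.map PD.fam) RW [57477, 249458] :=
    CC.of_primes hN (by norm_num) (Ds := Ds) (by decide +kernel) (by decide +kernel) (by
      intro D hD
      simp only [Ds, List.mem_cons, List.not_mem_nil, or_false] at hD
      rcases hD with rfl | rfl | rfl
      · exact hx (29, 1) (by simp)
      · exact hx (23, 1) (by simp)
      · exact hx (17, 1) (by simp))
      (fun k hk => hK k hk)
  exact C.eight (L := L) (by decide +kernel) (by decide +kernel) hJ hc (by decide +kernel) hd (by decide) (by decide)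
    (by norm_num) (by decide +kernel)

end Cfsg.Agent.H471.Eight.CertFi24

private theorem dce_961e31333fa5 : _root_.True := by
  try have : _root_.True := by simp only [_root_.Cfsg.Agent.H471.Eight.CertFi24.Ds.eq_1]
  exact _root_.True.intro
end

-- part: H235/Eight/HN
section
set_option linter.all false
open scoped Cfsg.Agent.FastGrp

/-!
# S4899: the row of the Harada-Norton group (helper235)

The permutation character of degree 1539000 is the sum of eight characters of which at most one is reducible; the degree
`12749 = 11 * 19 * 61` does not divide the order; so `1, 16929, 267520, 653125, 365750, 214016, 8910` are degrees, as is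
`133`.
-/

set_option autoImplicit false

namespace Cfsg.Agent.H235.Eight.HN

open Cfsg Subgroup
open Cfsg.Agent.H664.Eight

universe u

theorem eight_HN : Eight Cfsg.Spor.HN := by
  have hcard : Nat.card Cfsg.Spor.HN = 273030912000000 := H492.IMHN.card_hn
  have hfin : Finite Cfsg.Spor.HN := Nat.finite_of_card_ne_zero (by rw [hcard]; norm_num)
  obtain ⟨χ, -, h1, -, h2⟩ := Cfsg.Agent.H187.Scheme.HN.chars
  have hno : ¬ IsIrrCharacter Cfsg.Spor.HN (χ 1) := by
    intro hi
    have h3 : χ 1 1 = (12749 : ℕ) := h1 1
    have h4 := Cfsg.Agent.H596.charDegree_dvd_card hi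
    have h5 : charDegree (χ 1) = 12749 := Cfsg.Agent.Blocks.Basic.charDegree_of_eq h3
    rw [h5, hcard] at h4
    exact absurd h4 (by norm_num)
  have key : ∀ s : Fin 8, s ≠ 1 → Cfsg.Agent.H187.Scheme.HN.nn s ∈ charDegrees Cfsg.Spor.HN := by
    intro s hs
    have hi : IsIrrCharacter Cfsg.Spor.HN (χ s) := (h2 s 1 hs).resolve_right hno
    exact ⟨⟨χ s, hi⟩, Cfsg.Agent.Blocks.Basic.charDegree_of_eq (h1 s)⟩
  obtain ⟨χ', hχ'⟩ := H399.Two.HN.deg_of H399.Two.HN.exists_133
  refine eight_of_list [1, 133, 16929, 267520, 653125, 365750, 214016, 8910] (by decide) (by decide) ?_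
  intro d hd
  simp only [List.mem_cons, List.not_mem_nil, or_false] at hd
  rcases hd with rfl | rfl | rfl | rfl | rfl | rfl | rfl | rfl
  · exact one_mem
  · exact ⟨χ', hχ'⟩
  · exact key 2 (by decide)
  · exact key 3 (by decide)
  · exact key 4 (by decide)
  · exact key 5 (by decide)
  · exact key 6 (by decide)
  · exact key 7 (by decide)

/-- **The row of the Harada-Norton group.** -/
theorem row {S : Type u} [Group S] (h : Spor.IsoHN S) : Eight S := by
  obtain ⟨e⟩ := h
  exact eight_HN.of_equiv e

end Cfsg.Agent.H235.Eight.HN
end
end
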